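import Cfsg.Agent.Lib.Block.OnePrime.SmallRows

/-!
The cheap rows with `r > 1`.
-/

namespace Cfsg.Agent.Block.OnePrime

open Cfsg Subgroup

set_option linter.style.haveILetI false

universe u

variable {G : Type u} [Group G] [Finite G] [IsSimpleGroup G] (S : Setup G)

include S in
theorem row6_6 (hd : S.d = 6) (hd0 : S.d0 = 7) (hp : S.p = 5) (hr : S.r = 6) : False := by
  have hG : Nat.card G = 2 ^ 3 * 945 := by rw [S.card, hd, hd0, hp, hr]; norm_num
  refine S.eight_false hG (by norm_num) (by norm_num) ?_ (by decide +kernel) (by norm_num) (by norm_num)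
    (by norm_num) (by norm_num)
  exact benderFree_of (e := 3) (by decide) (by norm_num) (by norm_num)

theorem row6_4 (hd : S.d = 6) (hd0 : S.d0 = 7) (hp : S.p = 5) (hr : S.r = 4) (hv : S.a S.t = -2) : False := by
  have hG : Nat.card G = 3360 := by rw [S.card, hd, hd0, hp, hr]; norm_num
  have hI : ∀ t : G, orderOf t = 2 → HasNormalPComplement 2 (centralizer ({t} : Set G)) := fun t ht => by
    have h := S.cen_t_nat
    rw [hd, hr, hv, ← S.cen_invol ht] at h
    have h1 : Nat.card (centralizer ({t} : Set G)) = 2 ^ 5 := h.trans (by rfl)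
    haveI : Fact (Nat.Prime 2) := ⟨Nat.prime_two⟩
    exact Transfer.hasNormalPComplement_iff_exists.2 ⟨⊥, inferInstance,
      by rw [Subgroup.card_bot]; exact Nat.prime_two.not_dvd_one, 5, by rw [Subgroup.index_bot, h1]⟩
  rcases Cfsg.Agent.S3214.result S.hna hI with ⟨F, i, j, -, ψ⟩ | h | ⟨⟨ψ⟩⟩ | ⟨F, i, j, hF, ⟨ψ⟩⟩
  · exact not_psl (by decide +kernel) hG ψ
  · exact Spor.Gold.Fam.card_suzuki h (by rw [hG]; norm_num)
  · rw [Nat.card_congr ψ.toEquiv, nat_card_alternatingGroup, Nat.card_fin] at hG
    norm_num [Nat.factorial] at hG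
  · rw [Nat.card_congr ψ.toEquiv, card_psl_three_four hF] at hG
    norm_num at hG

theorem row9_14 (hd : S.d = 9) (hd0 : S.d0 = 8) (hp : S.p = 5) (hr : S.r = 14) (hv : S.a S.t = -7) :
    False := by
  have hG : Nat.card G = 2 ^ 5 * 2205 := by rw [S.card, hd, hd0, hp, hr]; norm_num
  refine S.four_false hG (by norm_num) (by norm_num) ?_ (by rw [hd, hv]; norm_num)
  exact benderFree_of (by decide) (by norm_num) (by norm_num)

theorem row10_56 (hd : S.d = 10) (hd0 : S.d0 = 9) (hp : S.p = 11) (hr : S.r = 56) (hv : S.a S.t = -6) :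
    False := by
  have hG : Nat.card G = 2 ^ 7 * 24255 := by rw [S.card, hd, hd0, hp, hr]; norm_num
  refine S.four_false hG (by norm_num) (by norm_num) ?_ (by rw [hd, hv]; norm_num)
  exact benderFree_of (by decide) (by norm_num) (by norm_num)

theorem row20_360 (hd : S.d = 20) (hd0 : S.d0 = 21) (hp : S.p = 19) (hr : S.r = 360)
    (hv : S.a S.t = -12) : False := by
  have hG : Nat.card G = 2 ^ 8 * 4039875 := by rw [S.card, hd, hd0, hp, hr]; norm_num
  refine S.four_false hG (by norm_num) (by norm_num) ?_ (by rw [hd, hv]; norm_num)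
  exact benderFree_of (Nat.odd_iff.2 (by norm_num)) (by norm_num) (by norm_num)

theorem row21_120 (hd : S.d = 21) (hd0 : S.d0 = 20) (hp : S.p = 11) (hr : S.r = 120)
    (hv : S.a S.t = -11) : False := by
  have hG : Nat.card G = 2 ^ 8 * 259875 := by rw [S.card, hd, hd0, hp, hr]; norm_num
  refine S.four_false hG (by norm_num) (by norm_num) ?_ (by rw [hd, hv]; norm_num)
  exact benderFree_of (Nat.odd_iff.2 (by norm_num)) (by norm_num) (by norm_num)

theorem row125_neg (hd : S.d = 125) (hd0 : S.d0 = 126) (hp : S.p = 31) (hr : S.r = 2016)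
    (hv : S.a S.t = -67) : False := by
  have hG : Nat.card G = 2 ^ 11 * 968932125 := by rw [S.card, hd, hd0, hp, hr]; norm_num
  refine S.four_false hG (by norm_num) (by norm_num) ?_ (by rw [hd, hv]; norm_num)
  exact benderFree_of (Nat.odd_iff.2 (by norm_num)) (by norm_num) (by norm_num)

include S in
theorem row21_45 (hd : S.d = 21) (hd0 : S.d0 = 20) (hp : S.p = 11) (hr : S.r = 45) : False := by
  have hG : Nat.card G = 9355500 := by rw [S.card, hd, hd0, hp, hr]; norm_num
  exact S.four_part_false hG (by norm_num) (by decide +kernel) (by norm_num) (by norm_num)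

include S in
theorem row50_18 (hd : S.d = 50) (hd0 : S.d0 = 49) (hp : S.p = 17) (hr : S.r = 18) : False := by
  have hG : Nat.card G = 2 ^ 3 * 1686825 := by rw [S.card, hd, hd0, hp, hr]; norm_num
  refine S.eight_false hG (by norm_num) (by norm_num) ?_ (by decide +kernel) (by norm_num) (by norm_num)
    (by norm_num) (by norm_num)
  exact benderFree_of (e := 3) (Nat.odd_iff.2 (by norm_num)) (by norm_num) (by norm_num)

theorem row20_18 (hd : S.d = 20) (hd0 : S.d0 = 21) (hp : S.p = 19) (hr : S.r = 18) (hv : S.a S.t = -4) :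
    False := by
  have hG : Nat.card G = 2585520 := by rw [S.card, hd, hd0, hp, hr]; norm_num
  have hδ : S.δ = 1 := by have := S.hd0; omega
  refine S.prime_one_false (q := 5) (m := 517104) (M := 360) (k := 0) hG (by norm_num) (by norm_num)
    (by rw [hp]; norm_num) (by norm_num) (by norm_num)
    (S.const_d 5 (by norm_num) (by rw [hr]; norm_num) (by rw [hd]; norm_num))
    (by rw [hv]; norm_num) (by rw [hr, hd]; norm_num) ?_
  rw [hp, hδ]
  decide +kernel

theorem row21_10 (hd : S.d = 21) (hd0 : S.d0 = 20) (hp : S.p = 11) (hr : S.r = 10) (hv : S.a S.t = -3) :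
    False := by
  have hG : Nat.card G = 462000 := by rw [S.card, hd, hd0, hp, hr]; norm_num
  have hδ : S.δ = -1 := by have := S.hd0; omega
  refine S.prime_one_false (q := 7) (m := 66000) (M := 210) (k := 0) hG (by norm_num) (by norm_num)
    (by rw [hp]; norm_num) (by norm_num) (by norm_num)
    (S.const_d 7 (by norm_num) (by rw [hr]; norm_num) (by rw [hd]; norm_num))
    (by rw [hv]; norm_num) (by rw [hr, hd]; norm_num) ?_
  rw [hp, hδ]
  decide +kernel

theorem row21_12 (hd : S.d = 21) (hd0 : S.d0 = 20) (hp : S.p = 11) (hr : S.r = 12) (hv : S.a S.t = 5) :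
    False := by
  have hG : Nat.card G = 665280 := by rw [S.card, hd, hd0, hp, hr]; norm_num
  have hδ : S.δ = -1 := by have := S.hd0; omega
  refine S.prime_one_false (q := 7) (m := 95040) (M := 252) (k := 0) hG (by norm_num) (by norm_num)
    (by rw [hp]; norm_num) (by norm_num) (by norm_num)
    (S.const_d 7 (by norm_num) (by rw [hr]; norm_num) (by rw [hd]; norm_num))
    (by rw [hv]; norm_num) (by rw [hr, hd]; norm_num) ?_
  rw [hp, hδ]
  decide +kernel

end Cfsg.Agent.Block.OnePrime
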