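import Cfsg.Agent.Lib.Block.OnePrime.Facts
import Cfsg.Agent.S0280
import Cfsg.Agent.S0506
import Cfsg.Agent.S1169
import Cfsg.Agent.Lib.Fus.Goldschmidt.Bender
import Cfsg.Agent.Lib.Spor.Gold.Families
import Cfsg.Agent.Lib.Classical.DicksonTorus

/-!
A dihedral group of order eight around the central involution, from Goldschmidt's theorem.
-/

namespace Cfsg.Agent.Block.OnePrime

open Cfsg Subgroup

set_option linter.style.haveILetI false

universe u

/-- The order is that of no group `SL(2, 2^a)` or `PSU(3, 2^a)`. -/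
def BenderFree (n : ℕ) : Prop :=
  (∀ a, 2 ≤ a → n ≠ 2 ^ a * (4 ^ a - 1)) ∧
    ∀ a, 2 ≤ a → Nat.gcd 3 (2 ^ a + 1) * n ≠ 2 ^ (3 * a) * ((2 ^ (3 * a) + 1) * (4 ^ a - 1))

theorem two_exp_unique {i j u v : ℕ} (hu : Odd u) (hv : Odd v) (h : 2 ^ i * u = 2 ^ j * v) :
    i = j ∧ u = v := by
  have key : ∀ {i j u v : ℕ}, Odd u → 2 ^ i * u = 2 ^ j * v → j ≤ i := by
    intro i j u v hu h
    exact (Nat.pow_dvd_pow_iff_le_right (by norm_num : 1 < 2)).1
      ((Nat.Coprime.pow_left _ (Nat.coprime_two_left.2 hu)).dvd_of_dvd_mul_right (Dvd.intro _ h.symm))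
  have hij : i = j := le_antisymm (key hv h.symm) (key hu h)
  exact ⟨hij, Nat.eq_of_mul_eq_mul_left (pow_pos two_pos j) (hij ▸ h)⟩

/-- `BenderFree` for an order with known two-part. -/
theorem benderFree_of {e o : ℕ} (ho : Odd o) (hL : o ≠ 4 ^ e - 1)
    (hU : 3 ∣ e → Nat.gcd 3 (2 ^ (e / 3) + 1) * o ≠ (2 ^ e + 1) * (4 ^ (e / 3) - 1)) :
    BenderFree (2 ^ e * o) := by
  have h4 : ∀ a, 1 ≤ a → Odd (4 ^ a - 1) := fun a ha =>
    Nat.Even.sub_odd (Nat.one_le_pow _ _ (by norm_num)) (Nat.even_pow.2 ⟨by decide, by omega⟩) odd_one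
  have hp : ∀ a, 1 ≤ a → Odd (2 ^ a + 1) := fun a ha =>
    (Nat.even_pow.2 ⟨even_two, by omega⟩).add_one
  refine ⟨fun a ha h => ?_, fun a ha h => ?_⟩
  · obtain ⟨rfl, h'⟩ := two_exp_unique ho (h4 a (by omega)) h
    exact hL h'
  · rw [mul_left_comm] at h
    obtain ⟨rfl, h'⟩ := two_exp_unique
      (Nat.odd_mul.2 ⟨Odd.of_dvd_nat (hp a (by omega)) (Nat.gcd_dvd_right _ _), ho⟩)
      (Nat.odd_mul.2 ⟨hp (3 * a) (by omega), h4 a (by omega)⟩) h
    rw [Nat.mul_div_cancel_left a (by norm_num : 0 < 3)] at hU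
    exact hU ⟨a, rfl⟩ h'

variable {G : Type u} [Group G] [Finite G]

omit [Finite G] in
theorem not_bender (h3 : 3 ∣ Nat.card G) (hfree : BenderFree (Nat.card G))
    (h : Invol.CentInt.IsBenderGrp G) : False := by
  rcases h with ⟨F, i, j, hc, h4, ⟨e⟩⟩ | ⟨F, i, j, q, hq, h4, hF, ⟨e⟩⟩ | h
  · haveI := hc
    obtain ⟨a, -, ha⟩ := FiniteField.card F 2
    have h2 : 2 ≤ (a : ℕ) := by
      by_contra hlt
      have := Nat.pow_le_pow_right (show 0 < 2 by omega) (show (a : ℕ) ≤ 1 by omega)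
      omega
    refine hfree.1 a h2 ?_
    rw [Nat.card_congr e.toEquiv, Fus.PSLTwo.natCard_SL_two, ha]
    congr 1
    rw [show (4 : ℕ) = 2 ^ 2 by rfl, ← pow_mul, mul_comm 2 (a : ℕ), pow_mul, sq]
    have := Nat.one_le_two_pow (n := (a : ℕ))
    zify [this, Nat.one_le_iff_ne_zero.2 (Nat.mul_ne_zero (by omega : 2 ^ (a : ℕ) ≠ 0) (by omega : 2 ^ (a : ℕ) ≠ 0))]
    ring
  · obtain ⟨p, hp⟩ := CharP.exists F
    obtain ⟨n, hpp, hn⟩ := FiniteField.card F p
    have hp2 : p = 2 := by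
      have h5 : 2 ∣ p ^ (n : ℕ) := by
        rw [← hn, hF]
        exact dvd_pow (even_iff_two_dvd.1 hq) two_ne_zero
      exact ((Nat.prime_dvd_prime_iff_eq Nat.prime_two hpp).1 (Nat.prime_two.dvd_of_dvd_pow h5)).symm
    subst hp2
    obtain ⟨a, -, rfl⟩ := (Nat.dvd_prime_pow Nat.prime_two).1
      (hn ▸ hF ▸ dvd_pow_self q two_ne_zero : q ∣ 2 ^ (n : ℕ))
    have h2 : 2 ≤ a := by
      by_contra hlt
      have := Nat.pow_le_pow_right (show 0 < 2 by omega) (show a ≤ 1 by omega)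
      omega
    refine hfree.2 a h2 ?_
    have hc := Cfsg.Agent.S0280.result hF 3 (by norm_num)
    rw [← Nat.card_congr e.toEquiv, Finset.prod_range_succ, Finset.prod_range_succ,
      Finset.prod_range_succ, Finset.prod_range_zero] at hc
    simp only [one_mul, Nat.even_iff, Nat.zero_mod, Nat.reduceMod, if_true, if_false, one_ne_zero,
      show (3 * (3 - 1) / 2 : ℕ) = 3 from rfl, zero_add, pow_one] at hc
    refine Nat.eq_of_mul_eq_mul_left (show 0 < 2 ^ a + 1 by positivity) ?_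
    rw [mul_left_comm, hc, show (4 : ℕ) = 2 ^ 2 by rfl, ← pow_mul 2 2, mul_comm 2 a, pow_mul 2 a 2,
      mul_comm 3 a, pow_mul 2 a 3]
    ring
  · exact Spor.Gold.Fam.card_suzuki h h3

theorem not_abelian_sylow [IsSimpleGroup G] (hna : ¬ IsMulCommutative G) (h16 : 16 ∣ Nat.card G)
    (hfree : BenderFree (Nat.card G)) (T : Sylow 2 G) (hT : IsMulCommutative (T : Subgroup G)) :
    False := by
  rcases Cfsg.Agent.S0506.result hna T hT with ⟨a, ha, F, i, j, hF, ⟨e⟩⟩ | ⟨F, i, j, hF, ⟨e⟩⟩ |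
    ⟨-, m, -, hm⟩ | ⟨-, h⟩
  · refine hfree.1 a ha ?_
    have h := Dickson.card_psl (F := F)
    rcases Dickson.del_cases F with ⟨hd, -⟩ | ⟨-, ho⟩
    · rw [hd, mul_one, ← Nat.card_congr e.toEquiv, hF] at h
      rw [h, show (4 : ℕ) = 2 ^ 2 by rfl, ← pow_mul, mul_comm 2 a, pow_mul, sq]
      congr 1
      have := Nat.one_le_two_pow (n := a)
      zify [this, Nat.one_le_iff_ne_zero.2 (Nat.mul_ne_zero (by omega : 2 ^ a ≠ 0) (by omega : 2 ^ a ≠ 0))]
      ring
    · exact absurd (hF ▸ Nat.even_pow.2 ⟨even_two, by omega⟩) (Nat.not_even_iff_odd.2 ho)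
  · have h := Dickson.card_psl (F := F)
    rcases Dickson.del_cases F with ⟨-, he⟩ | ⟨hd, -⟩
    · obtain ⟨k, hk⟩ := he
      omega
    · rw [hd, ← Nat.card_congr e.toEquiv] at h
      obtain ⟨k, hk⟩ := h16
      rw [hk] at h
      have h32 : Fintype.card F * ((Fintype.card F - 1) * (Fintype.card F + 1)) % 16 = 0 := by omega
      rw [Nat.mul_mod, Nat.mul_mod (Fintype.card F - 1)] at h32
      have := Nat.mod_lt (Fintype.card F) (show 16 > 0 by norm_num)
      rcases (by omega : Fintype.card F % 16 = 3 ∨ Fintype.card F % 16 = 5 ∨ Fintype.card F % 16 = 11 ∨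
          Fintype.card F % 16 = 13) with h' | h' | h' | h' <;>
        · rw [h', show (Fintype.card F - 1) % 16 = Fintype.card F % 16 - 1 by omega,
            show (Fintype.card F + 1) % 16 = Fintype.card F % 16 + 1 by omega, h'] at h32
          norm_num at h32
  · obtain ⟨k, hk⟩ := h16
    rw [hk] at hm
    have h8 : 3 ^ (2 * m + 1) % 8 = 3 := by
      rw [pow_succ, pow_mul, Nat.mul_mod, Nat.pow_mod]
      norm_num
    generalize 3 ^ (2 * m + 1) = q at hm h8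
    have h0 : q ^ 3 * (q ^ 3 + 1) * (q - 1) % 16 = 0 := by rw [← hm]; exact Nat.mul_mod_right 16 k
    have h3q : q % 16 = 3 ∧ q ^ 3 % 16 = 11 ∨ q % 16 = 11 ∧ q ^ 3 % 16 = 3 := by
      rcases (by omega : q % 16 = 3 ∨ q % 16 = 11) with h' | h'
      · exact Or.inl ⟨h', by rw [Nat.pow_mod, h']⟩
      · exact Or.inr ⟨h', by rw [Nat.pow_mod, h']⟩
    rcases h3q with ⟨h', hc⟩ | ⟨h', hc⟩ <;>
      · have e1 : (q - 1) % 16 = q % 16 - 1 := by omega
        have e2 : (q ^ 3 + 1) % 16 = q ^ 3 % 16 + 1 := by omega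
        rw [Nat.mul_mod, Nat.mul_mod (q ^ 3), e1, e2, h', hc] at h0
        norm_num at h0
  · rw [h] at h16
    norm_num at h16

/-- Goldschmidt: two noncommuting involutions in a Sylow 2-subgroup give an element of order four
with square `t` inverted by an involution. -/
theorem Setup.exists_dihedral_of [IsSimpleGroup G] (S : Setup G)
    (hab : ∀ T : Sylow 2 G, IsMulCommutative (T : Subgroup G) → False)
    (h3 : 3 ∣ Nat.card G) (hfree : BenderFree (Nat.card G)) :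
    ∃ s e : G, orderOf s = 4 ∧ s ^ 2 = S.t ∧ orderOf e = 2 ∧ e * s * e⁻¹ = s⁻¹ := by
  classical
  haveI : Fact (Nat.Prime 2) := ⟨Nat.prime_two⟩
  obtain ⟨T⟩ : Nonempty (Sylow 2 G) := inferInstance
  have hpair : ∃ e ∈ (T : Subgroup G), ∃ f ∈ (T : Subgroup G), e * e = 1 ∧ f * f = 1 ∧ e * f ≠ f * e := by
    by_contra hcon
    push Not at hcon
    let A : Subgroup G :=
      { carrier := {x | x ∈ (T : Subgroup G) ∧ x * x = 1}
        one_mem' := ⟨one_mem _, one_mul 1⟩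
        mul_mem' := fun {x y} hx hy => ⟨mul_mem hx.1 hy.1, by
          rw [show x * y * (x * y) = x * (y * x) * y by group, ← hcon x hx.1 y hy.1 hx.2 hy.2,
            show x * (x * y) * y = x * x * (y * y) by group, hx.2, hy.2, one_mul]⟩
        inv_mem' := fun {x} hx => ⟨inv_mem hx.1, by rw [inv_eq_of_mul_eq_one_right hx.2]; exact hx.2⟩ }
    have hA : A ≠ ⊥ := by
      intro hA
      obtain ⟨z, hz⟩ := exists_prime_orderOf_dvd_card' (G := (T : Subgroup G)) 2 (by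
        rw [T.card_eq_multiplicity]
        refine dvd_pow_self 2 (Nat.Prime.factorization_pos_of_dvd Nat.prime_two Nat.card_pos.ne' ?_).ne'
        exact S.ht ▸ orderOf_dvd_natCard S.t)
      have hzA : (z : G) ∈ A := ⟨z.2, by
        have := pow_orderOf_eq_one (z : G)
        rwa [Subgroup.orderOf_coe, hz, sq] at this⟩
      rw [hA, Subgroup.mem_bot] at hzA
      rw [← Subgroup.orderOf_coe, hzA, orderOf_one] at hz
      omega
    have hsc : Cfsg.IsStronglyClosed A (T : Subgroup G) :=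
      ⟨fun x hx => hx.1, fun x hx g hg => ⟨hg, by
        rw [show g * x * g⁻¹ * (g * x * g⁻¹) = g * (x * x) * g⁻¹ by group, hx.2, mul_one,
          mul_inv_cancel]⟩⟩
    rcases Cfsg.Agent.S1169.result T A hA
      ⟨⟨fun x y => Subtype.ext (hcon x x.2.1 y y.2.1 x.2.2 y.2.2)⟩⟩ hsc with h | ⟨H, hH⟩
    · exact hab T h
    · exact not_bender h3 hfree (Fus.Gold.bender_of_se S.hna hH).1
  obtain ⟨e, he, f, hf, hee, hff, hef⟩ := hpair
  have he1 : e ≠ 1 := fun h => hef (by rw [h, one_mul, mul_one])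
  have hinv : e * (e * f) * e⁻¹ = (e * f)⁻¹ := by
    rw [mul_inv_rev, inv_eq_of_mul_eq_one_right hff, inv_eq_of_mul_eq_one_right hee, ← mul_assoc e,
      hee, one_mul]
  obtain ⟨k, hk⟩ := (IsPGroup.iff_orderOf.1 T.isPGroup') ⟨e * f, mul_mem he hf⟩
  rw [Subgroup.orderOf_mk] at hk
  have hk2 : 2 ≤ k := by
    by_contra hlt
    have h2 : (e * f) ^ 2 = 1 := orderOf_dvd_iff_pow_eq_one.1 (hk ▸ by
      simpa using pow_dvd_pow 2 (show k ≤ 1 by omega))
    rw [sq, mul_eq_one_iff_eq_inv, mul_inv_rev, inv_eq_of_mul_eq_one_right hff,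
      inv_eq_of_mul_eq_one_right hee] at h2
    exact hef h2
  set s := (e * f) ^ 2 ^ (k - 2) with hs
  have hso : orderOf s = 4 := by
    rw [hs, orderOf_pow' _ (pow_ne_zero _ two_ne_zero), hk,
      Nat.gcd_eq_right (pow_dvd_pow 2 (Nat.sub_le k 2)), Nat.pow_div (Nat.sub_le k 2) two_pos,
      show k - (k - 2) = 2 by omega]
    norm_num
  have hse : e * s * e⁻¹ = s⁻¹ := by rw [hs, ← conj_pow, hinv, inv_pow]
  have hs2 : orderOf (s ^ 2) = 2 := by rw [orderOf_pow' _ two_ne_zero, hso]; norm_num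
  obtain ⟨g, hg⟩ := isConj_iff.1 ((S.hconj _ hs2).symm)
  refine ⟨g * s * g⁻¹, g * e * g⁻¹, ?_, by rw [conj_pow, hg], ?_, ?_⟩
  · rw [Invol.orderOf_conj_eq, hso]
  · rw [Invol.orderOf_conj_eq]
    exact orderOf_eq_prime (by rw [sq, hee]) he1
  · calc g * e * g⁻¹ * (g * s * g⁻¹) * (g * e * g⁻¹)⁻¹ = g * (e * s * e⁻¹) * g⁻¹ := by group
      _ = (g * s * g⁻¹)⁻¹ := by rw [hse]; group

theorem Setup.exists_dihedral [IsSimpleGroup G] (S : Setup G) (h16 : 16 ∣ Nat.card G)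
    (h3 : 3 ∣ Nat.card G) (hfree : BenderFree (Nat.card G)) :
    ∃ s e : G, orderOf s = 4 ∧ s ^ 2 = S.t ∧ orderOf e = 2 ∧ e * s * e⁻¹ = s⁻¹ :=
  S.exists_dihedral_of (fun T hT => not_abelian_sylow S.hna h16 hfree T hT) h3 hfree

end Cfsg.Agent.Block.OnePrime
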