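import Cfsg.Agent.Lib.Block.OnePrime.Setup
import Cfsg.Agent.Lib.Block.OrderPrimeSelfFull
import Cfsg.Agent.Lib.Block.Separated
import Cfsg.Agent.Lib.Char.Galois

/-!
The structure `OnePrime.Setup` exists for a simple group with a Sylow subgroup of prime order `p ≥ 5` of
index two in its normalizer.
-/

namespace Cfsg.Agent.Block.OnePrime

open scoped ComplexConjugate
open Cfsg Cfsg.Agent.Block Cfsg.Agent.Char

set_option linter.style.haveILetI false

universe u

variable {G : Type u} [Group G] [Finite G] {p : ℕ} [Fact p.Prime]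

omit [Fact p.Prime] in
/-- The class equation for two elements. -/
theorem self_formula [Fintype G] (S : OrdP.Self G p) (x y : G) :
    (p : ℂ) * (Nat.card {g : G // IsConj S.u (x * (g * y * g⁻¹))} : ℂ) =
      (Nat.card G : ℂ) * ∑ χ : IrrCharacter G,
        conj ((χ : G → ℂ) S.u) * (χ : G → ℂ) x * (χ : G → ℂ) y / (χ : G → ℂ) 1 := by
  classical
  set f : G → ℂ := fun g => if IsConj S.u g then 1 else 0 with hfdef
  have hf : IsClassFunction G f := fun g k => by
    refine if_congr ⟨fun h => h.trans (isConj_iff.2 ⟨k, rfl⟩).symm,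
      fun h => h.trans (isConj_iff.2 ⟨k, rfl⟩)⟩ rfl rfl
  have hG : (Nat.card G : ℂ) ≠ 0 := Nat.cast_ne_zero.2 Nat.card_pos.ne'
  have hclass : (Finset.univ.filter fun g : G => IsConj S.u g).card * p = Nat.card G := by
    have h1 := Finset.card_eq_sum_card_fiberwise (f := fun h : G => h * S.u * h⁻¹)
      (s := Finset.univ) (t := Finset.univ.filter fun g : G => IsConj S.u g)
      fun h _ => Finset.mem_filter.2 ⟨Finset.mem_univ _, isConj_iff.2 ⟨h, rfl⟩⟩
    rw [Finset.sum_congr rfl (g := fun _ => p) fun g hg => by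
        rw [← Fintype.card_subtype, ← Nat.card_eq_fintype_card, OrdP.card_fiber,
          if_pos (Finset.mem_filter.1 hg).2, S.hC],
      Finset.sum_const, smul_eq_mul, Finset.card_univ] at h1
    rw [Nat.card_eq_fintype_card, h1]
  have hinner : ∀ χ : IrrCharacter G, (p : ℂ) * classInner f χ = conj ((χ : G → ℂ) S.u) := by
    intro χ
    rw [classInner]
    simp only [hfdef, ite_mul, one_mul, zero_mul, ← Finset.sum_filter]
    rw [Finset.sum_congr rfl (g := fun _ => conj ((χ : G → ℂ) S.u)) fun g hg => by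
        obtain ⟨k, rfl⟩ := isConj_iff.1 (Finset.mem_filter.1 hg).2
        rw [irr_classFun χ],
      Finset.sum_const, nsmul_eq_mul, ← mul_assoc, ← mul_assoc, mul_comm (p : ℂ), mul_assoc _ (p : ℂ),
      mul_comm (p : ℂ) _, ← Nat.cast_mul, hclass, inv_mul_cancel₀ hG, one_mul]
  have h := sum_classFun_mul_conj hf x y
  rw [inv_mul_eq_iff_eq_mul₀ hG] at h
  have hlhs : ∑ g : G, f (x * (g * y * g⁻¹)) =
      (Nat.card {g : G // IsConj S.u (x * (g * y * g⁻¹))} : ℂ) := by
    simp only [hfdef, Finset.sum_boole]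
    rw [Nat.card_eq_fintype_card, Fintype.card_subtype]
  rw [hlhs] at h
  rw [h, mul_left_comm, Finset.mul_sum]
  refine congrArg _ (Finset.sum_congr rfl fun χ _ => ?_)
  rw [← hinner χ]
  ring

omit [Finite G] in
/-- An element commuting with a conjugate of `u` and of order prime to `p` is trivial. -/
theorem eq_one_of_commute_conj (S : OrdP.Self G p) {y g : G} (hy : IsConj S.u y)
    (hgy : g * y = y * g) (hg : ¬ p ∣ orderOf g) : g = 1 := by
  obtain ⟨k, rfl⟩ := isConj_iff.1 hy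
  have h1 : k⁻¹ * g * k ∈ Subgroup.centralizer ({S.u} : Set G) := by
    rw [Subgroup.mem_centralizer_singleton_iff]
    calc k⁻¹ * g * k * S.u = k⁻¹ * (g * (k * S.u * k⁻¹)) * k := by group
      _ = S.u * (k⁻¹ * g * k) := by rw [hgy]; group
  have h2 := Subgroup.orderOf_dvd_natCard _ h1
  rw [S.hC] at h2
  have h3 : orderOf (k⁻¹ * g * k) = orderOf g := by
    simpa using Invol.orderOf_conj_eq k⁻¹ g
  rw [h3] at h2
  rcases (Nat.dvd_prime Fact.out).1 h2 with h | h
  · exact orderOf_eq_one_iff.1 h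
  · exact absurd (h ▸ dvd_rfl) hg

/-- The set of the class equation is a union of free double cosets. -/
theorem count_dvd (S : OrdP.Self G p) (hp2 : p ≠ 2) (x : G) :
    Nat.card (Subgroup.centralizer ({S.t} : Set G)) * Nat.card (Subgroup.centralizer ({x} : Set G)) ∣
      Nat.card {g : G // IsConj S.u (S.t * (g * x * g⁻¹))} := by
  classical
  let H := Subgroup.centralizer ({S.t} : Set G) × Subgroup.centralizer ({x} : Set G)
  let Ω := {g : G // IsConj S.u (S.t * (g * x * g⁻¹))}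
  have hcl : ∀ (c k g : G), c * S.t = S.t * c → k * x = x * k → IsConj S.u (S.t * (g * x * g⁻¹)) →
      IsConj S.u (S.t * ((c * g * k⁻¹) * x * (c * g * k⁻¹)⁻¹)) := by
    intro c k g hc hk hg
    refine hg.trans (isConj_iff.2 ⟨c, ?_⟩)
    have hk' : k⁻¹ * x * k = x := by rw [mul_assoc, ← hk]; group
    calc c * (S.t * (g * x * g⁻¹)) * c⁻¹ = c * S.t * (g * (k⁻¹ * x * k) * g⁻¹) * c⁻¹ := by
          rw [hk']; group
      _ = _ := by rw [hc]; group
  letI : MulAction H Ω :=
    { smul := fun h g => ⟨(h.1 : G) * g.1 * (h.2 : G)⁻¹, hcl _ _ _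
        (Subgroup.mem_centralizer_singleton_iff.1 h.1.2)
        (Subgroup.mem_centralizer_singleton_iff.1 h.2.2) g.2⟩
      one_smul := fun g => Subtype.ext (by
        show ((1 : H).1 : G) * g.1 * ((1 : H).2 : G)⁻¹ = g.1
        simp)
      mul_smul := fun a b g => Subtype.ext (by
        show ((a.1 : G) * (b.1 : G)) * g.1 * ((a.2 : G) * (b.2 : G))⁻¹ =
          (a.1 : G) * ((b.1 : G) * g.1 * (b.2 : G)⁻¹) * (a.2 : G)⁻¹
        simp [mul_assoc]) }
  have hstab : ∀ g : Ω, MulAction.stabilizer H g = ⊥ := by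
    intro g
    rw [Subgroup.eq_bot_iff_forall]
    intro h hh
    have e : (h.1 : G) * g.1 * (h.2 : G)⁻¹ = g.1 := congrArg Subtype.val hh
    have hc := Subgroup.mem_centralizer_singleton_iff.1 h.1.2
    have hk := Subgroup.mem_centralizer_singleton_iff.1 h.2.2
    have hk1 : (h.2 : G) = g.1⁻¹ * (h.1 : G) * g.1 := by
      calc (h.2 : G) = (g.1)⁻¹ * ((h.1 : G) * g.1 * (h.2 : G)⁻¹) * (h.2 : G) := by rw [e]; group
        _ = _ := by group
    have hy : (h.1 : G) * (S.t * (g.1 * x * g.1⁻¹)) = S.t * (g.1 * x * g.1⁻¹) * (h.1 : G) := by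
      have e2 : (h.1 : G) * (g.1 * x * g.1⁻¹) = g.1 * x * g.1⁻¹ * (h.1 : G) := by
        calc (h.1 : G) * (g.1 * x * g.1⁻¹) = g.1 * ((h.2 : G) * x) * g.1⁻¹ := by rw [hk1]; group
          _ = g.1 * x * g.1⁻¹ * (h.1 : G) := by rw [hk, hk1]; group
      calc (h.1 : G) * (S.t * (g.1 * x * g.1⁻¹)) = S.t * ((h.1 : G) * (g.1 * x * g.1⁻¹)) := by
            rw [← mul_assoc, hc, mul_assoc]
        _ = S.t * (g.1 * x * g.1⁻¹) * (h.1 : G) := by rw [e2, ← mul_assoc]
    by_cases hp' : p ∣ orderOf (h.1 : G)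
    · exfalso
      obtain ⟨k, hk⟩ := isConj_iff.1 g.2
      have h1 : k⁻¹ * (h.1 : G) * k ∈ Subgroup.centralizer ({S.u} : Set G) := by
        rw [Subgroup.mem_centralizer_singleton_iff]
        rw [← hk] at hy
        calc k⁻¹ * (h.1 : G) * k * S.u = k⁻¹ * ((h.1 : G) * (k * S.u * k⁻¹)) * k := by group
          _ = S.u * (k⁻¹ * (h.1 : G) * k) := by rw [hy]; group
      rw [S.centralizer_eq] at h1
      have hne : k⁻¹ * (h.1 : G) * k ≠ 1 := fun h0 => by
        have h0' : (h.1 : G) = 1 := by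
          calc (h.1 : G) = k * (k⁻¹ * (h.1 : G) * k) * k⁻¹ := by group
            _ = 1 := by rw [h0]; group
        rw [h0', orderOf_one] at hp'
        exact (Fact.out : p.Prime).not_dvd_one hp'
      -- `u` is a power of the conjugate of `h.1`, so commutes with the conjugate of `t`
      obtain ⟨i, hi⟩ := Subgroup.mem_zpowers_iff.1 h1
      have hz : S.u ∈ Subgroup.zpowers (k⁻¹ * (h.1 : G) * k) := by
        haveI : Fact (Nat.card (Subgroup.zpowers S.u)).Prime :=
          ⟨by rw [Nat.card_zpowers, S.hu]; exact Fact.out⟩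
        have h3 : Subgroup.zpowers (k⁻¹ * (h.1 : G) * k) = Subgroup.zpowers S.u := by
          refine Subgroup.eq_of_le_of_card_ge (Subgroup.zpowers_le.2 ?_) ?_
          · exact Subgroup.mem_zpowers_iff.2 ⟨i, hi⟩
          · rw [Nat.card_zpowers, Nat.card_zpowers, S.hu]
            have h4 : orderOf (k⁻¹ * (h.1 : G) * k) = orderOf (h.1 : G) := by
              simpa using Invol.orderOf_conj_eq k⁻¹ (h.1 : G)
            rw [h4]
            exact Nat.le_of_dvd (orderOf_pos _) hp'
        rw [h3]; exact Subgroup.mem_zpowers _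
      have htc : (k⁻¹ * S.t * k) * (k⁻¹ * (h.1 : G) * k) = (k⁻¹ * (h.1 : G) * k) * (k⁻¹ * S.t * k) := by
        calc k⁻¹ * S.t * k * (k⁻¹ * (h.1 : G) * k) = k⁻¹ * (S.t * (h.1 : G)) * k := by group
          _ = k⁻¹ * (h.1 : G) * k * (k⁻¹ * S.t * k) := by rw [← hc]; group
      obtain ⟨j, hj⟩ := Subgroup.mem_zpowers_iff.1 hz
      have hcu : (k⁻¹ * S.t * k) * S.u = S.u * (k⁻¹ * S.t * k) := by
        rw [← hj]
        exact (Commute.zpow_right (htc : Commute _ _) j).eq
      have := eq_one_of_commute_conj S (IsConj.refl S.u) hcu (by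
        rw [show orderOf (k⁻¹ * S.t * k) = orderOf S.t by simpa using Invol.orderOf_conj_eq k⁻¹ S.t,
          S.ht]
        exact fun h => hp2 ((Nat.prime_dvd_prime_iff_eq Fact.out Nat.prime_two).1 h))
      have ht1 : S.t = 1 := by
        calc S.t = k * (k⁻¹ * S.t * k) * k⁻¹ := by group
          _ = 1 := by rw [this]; group
      have := S.ht
      rw [ht1, orderOf_one] at this
      omega
    · have h1 := eq_one_of_commute_conj S g.2 hy hp'
      rw [h1, mul_one, inv_mul_cancel] at hk1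
      exact Prod.ext (Subtype.ext h1) (Subtype.ext hk1)
  have e := Nat.card_congr (MulAction.selfEquivSigmaOrbitsQuotientStabilizer H Ω)
  haveI := Fintype.ofFinite (Quotient (MulAction.orbitRel H Ω))
  rw [Nat.card_sigma] at e
  rw [e]
  refine Finset.dvd_sum fun ω _ => ?_
  rw [← Subgroup.index, hstab, Subgroup.index_bot, Nat.card_prod]

theorem eq_one_of_scalar [IsSimpleGroup G] (hna : ¬ IsMulCommutative G) {χ : IrrCharacter G}
    (hne : χ ≠ trivialIrr G) {g : G} (h : ‖(χ : G → ℂ) g‖ = (charDegree (χ : G → ℂ) : ℝ)) : g = 1 := by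
  classical
  haveI := Fintype.ofFinite G
  obtain ⟨n, ρ, hρ, hχ, hn, -⟩ := IsIrr.exists_rep χ.2
  have hd : n = charDegree (χ : G → ℂ) :=
    Nat.cast_injective (R := ℂ) (hn.symm.trans (charDeg_spec' χ))
  obtain ⟨c, hc⟩ := (norm_character_eq_iff ρ g).1 (by
    rw [hχ, h, Module.finrank_fin_fun, hd])
  have hcen : g ∈ Subgroup.center G := by
    refine Subgroup.mem_center_iff.2 fun w => ?_
    have h1 : ρ (w * g * w⁻¹ * g⁻¹) = 1 := by
      have e1 : ρ (w * g * w⁻¹) = ρ g := by
        rw [map_mul, map_mul, hc, mul_assoc, ← Module.End.one_eq_id, smul_mul_assoc, one_mul,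
          mul_smul_comm, ← map_mul, mul_inv_cancel, map_one]
      rw [map_mul, e1, ← map_mul, mul_inv_cancel, map_one]
    have h2 := OrdP.eq_one_of_value hne (g := w * g * w⁻¹ * g⁻¹) (by
      rw [← hχ]
      show LinearMap.trace ℂ _ (ρ _) = LinearMap.trace ℂ _ (ρ 1)
      rw [h1, ρ.map_one])
    calc w * g = (w * g * w⁻¹ * g⁻¹) * (g * w) := by group
      _ = g * w := by rw [h2, one_mul]
  rcases IsSimpleGroup.eq_bot_or_eq_top_of_normal (Subgroup.center G) inferInstance with hb | ht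
  · exact Subgroup.mem_bot.1 (hb ▸ hcen)
  · exact absurd ⟨⟨fun a b => Subgroup.mem_center_iff.1 (ht ▸ Subgroup.mem_top b) a⟩⟩ hna

/-- The structure exists. -/
theorem exists_setup [IsSimpleGroup G] (hna : ¬ IsMulCommutative G) (hp5 : 5 ≤ p) (P : Sylow p G)
    (hPp : Nat.card (P : Subgroup G) = p)
    (hN : (P : Subgroup G).relIndex (Subgroup.normalizer ((P : Subgroup G) : Set G)) = 2) :
    ∃ S : Setup G, S.p = p := by
  classical
  have hp : p.Prime := Fact.out
  haveI := Fintype.ofFinite G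
  -- the centralizer and the automizer
  obtain ⟨R₀, hR₀⟩ : p ∣ Nat.card G := by
    conv_lhs => rw [← hPp]
    exact Subgroup.card_subgroup_dvd_card _
  have hpm : ¬ p ∣ R₀ := by
    have h := P.card_mul_index
    rw [hPp] at h
    rw [← Nat.eq_of_mul_eq_mul_left hp.pos (h.trans hR₀)]
    exact P.not_dvd_index
  have hNcard : Nat.card (Subgroup.normalizer ((P : Subgroup G) : Set G)) = p * 2 := by
    have hle : (P : Subgroup G) ≤ Subgroup.normalizer ((P : Subgroup G) : Set G) :=
      Subgroup.le_normalizer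
    rw [← Subgroup.card_mul_index ((P : Subgroup G).subgroupOf _),
      Nat.card_congr (Subgroup.subgroupOfEquivOfLe hle).toEquiv, hPp]
    exact congrArg (p * ·) hN
  obtain ⟨e, k, -, -, he, he1, -, ⟨c₀, hc₀⟩, -⟩ := OrdP.exists_e hna hR₀ hpm P
  have hCN := Subgroup.centralizer_le_normalizer ((P : Subgroup G) : Set G)
  have hce : c₀ * e = 2 := by
    refine Nat.eq_of_mul_eq_mul_left hp.pos ?_
    rw [← mul_assoc, ← hc₀, ← he, Subgroup.relIndex,
      ← Nat.card_congr (Subgroup.subgroupOfEquivOfLe hCN).toEquiv, Subgroup.card_mul_index, hNcard]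
  have he2 : e = 2 := ((Nat.dvd_prime Nat.prime_two).1 ⟨c₀, by rw [mul_comm]; exact hce.symm⟩).resolve_left
    (by omega)
  have hC : Nat.card (Subgroup.centralizer ((P : Subgroup G) : Set G)) = p := by
    subst he2
    rw [hc₀, show c₀ = 1 by omega, mul_one]
  rw [he2] at he
  obtain ⟨M, hM⟩ := exists_isPModular p hp
  obtain ⟨S, hSu⟩ := OrdP.exists_self P hPp (by omega) hC he dvd_rfl
  obtain ⟨X, Y, hXY, hdisj, hX, hY, sX, ε, hdX, hε, hdY, hagree, hreg⟩ :=
    Cfsg.Agent.S4441.result p M hM (by omega) P hPp 2 he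
  set τ := trivialIrr G with hτ
  have hτd : charDegree (τ : G → ℂ) = 1 := charDeg_trivial
  have hτX : τ ∈ X := by
    have hτB : τ ∈ principalBlock M G := trivial_mem_principalBlock hM
    rw [hXY] at hτB
    refine hτB.resolve_right fun h => ?_
    have h1 := hdY τ h
    rw [hτd, Nat.cast_one, Int.modEq_iff_dvd] at h1
    rcases hε with rfl | rfl
    · have := Int.le_of_dvd (by norm_num) h1
      omega
    · have := Int.le_of_dvd (by norm_num) (dvd_neg.2 h1)
      omega
  have hsτ : sX τ = 1 := by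
    obtain ⟨h1, h2, -⟩ := hdX τ hτX
    refine h1.resolve_right fun h => ?_
    rw [hτd, h, Nat.cast_one, Int.modEq_iff_dvd] at h2
    have := Int.le_of_dvd (by norm_num) (dvd_neg.2 h2)
    omega
  obtain ⟨χ, hχ⟩ : ∃ χ, X.toFinset.erase τ = {χ} := Finset.card_eq_one.1 (by
    rw [Finset.card_erase_of_mem (Set.mem_toFinset.2 hτX), ← Set.ncard_eq_toFinset_card',
      ← Nat.card_coe_set_eq, hX])
  have hχX : χ ∈ X := by
    have : χ ∈ X.toFinset.erase τ := hχ ▸ Finset.mem_singleton_self χ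
    exact Set.mem_toFinset.1 (Finset.mem_of_mem_erase this)
  have hχτ : χ ≠ τ := Finset.ne_of_mem_erase (hχ ▸ Finset.mem_singleton_self χ :
    χ ∈ X.toFinset.erase τ)
  have hXmem : ∀ ξ ∈ X, ξ = τ ∨ ξ = χ := fun ξ hξ => by
    by_cases h : ξ = τ
    · exact Or.inl h
    · exact Or.inr (Finset.mem_singleton.1 (hχ ▸ Finset.mem_erase.2 ⟨h, Set.mem_toFinset.2 hξ⟩))
  obtain ⟨hs, hd, hval⟩ := hdX χ hχX
  have hXsum : ∀ F : IrrCharacter G → ℂ, ∑ ξ ∈ X.toFinset, F ξ = F τ + F χ := fun F => by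
    rw [← Finset.add_sum_erase _ _ (Set.mem_toFinset.2 hτX), hχ, Finset.sum_singleton]
  obtain ⟨y, hy⟩ : Y.Nonempty := by
    refine Set.nonempty_of_ncard_ne_zero ?_
    rw [← Nat.card_coe_set_eq, hY]
    omega
  have hr1 : ¬ p ∣ orderOf (1 : G) := by rw [orderOf_one]; exact hp.not_dvd_one
  have hrel : ∀ g : G, ¬ p ∣ orderOf g →
      (ε : ℂ) * (y : G → ℂ) g = 1 + (sX χ : ℂ) * (χ : G → ℂ) g := fun g hg => by
    have h := hreg y hy g hg
    rw [finsum_mem_eq_toFinset_sum, hXsum, hsτ] at h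
    rw [h]
    simp [hτ, trivialIrr]
  set δ := sX χ with hδdef
  set d := charDegree (χ : G → ℂ) with hddef
  set d₀ := charDegree (y : G → ℂ) with hd0def
  have h2d : 2 ≤ d := OrdP.two_le_deg hna hχτ
  have hχu : ∀ i : ℤ, S.u ^ i ≠ 1 → (χ : G → ℂ) (S.u ^ i) = (δ : ℂ) := fun i hi => by
    have := hval (S.u ^ i) ((P : Subgroup G).zpow_mem hSu i) hi 1 (one_mem _) hr1
    rwa [mul_one] at this
  -- integer values
  have hint : ∀ g : G, ∃ m : ℤ, (χ : G → ℂ) g = m := by
    intro g
    by_cases hg : p ∣ orderOf g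
    · refine ⟨δ, ?_⟩
      set w := g ^ (orderOf g / p) with hw
      have hwo : orderOf w = p := orderOf_pow_orderOf_div (orderOf_pos g).ne' hg
      obtain ⟨Q, hQ⟩ := (IsPGroup.of_card (n := 1) (by rw [Nat.card_zpowers, hwo, pow_one]) :
        IsPGroup p (Subgroup.zpowers w)).exists_le_sylow
      obtain ⟨h, hh⟩ := MulAction.exists_smul_eq G Q P
      have hmem : h * w * h⁻¹ ∈ (P : Subgroup G) := by
        rw [← hh]
        exact Subgroup.smul_mem_pointwise_smul w (MulAut.conj h) _ (hQ (Subgroup.mem_zpowers w))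
      have hzP : Subgroup.zpowers S.u = (P : Subgroup G) :=
        Subgroup.eq_of_le_of_card_ge (Subgroup.zpowers_le.2 hSu)
          (by rw [Nat.card_zpowers, S.hu, hPp])
      rw [← hzP] at hmem
      obtain ⟨i, hi⟩ := Subgroup.mem_zpowers_iff.1 hmem
      have hcw : (h * g * h⁻¹) * (h * w * h⁻¹) = (h * w * h⁻¹) * (h * g * h⁻¹) := by
        calc h * g * h⁻¹ * (h * w * h⁻¹) = h * (g * w) * h⁻¹ := by group
          _ = h * w * h⁻¹ * (h * g * h⁻¹) := by
            rw [show g * w = w * g from (Commute.self_pow g _).eq]; group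
      have hgu : h * g * h⁻¹ ∈ Subgroup.centralizer ({S.u} : Set G) := by
        have hwz : S.u ∈ Subgroup.zpowers (h * w * h⁻¹) := by
          have h3 : Subgroup.zpowers (h * w * h⁻¹) = Subgroup.zpowers S.u :=
            Subgroup.eq_of_le_of_card_ge (Subgroup.zpowers_le.2 (Subgroup.mem_zpowers_iff.2 ⟨i, hi⟩))
              (by rw [Nat.card_zpowers, Nat.card_zpowers, Invol.orderOf_conj_eq, hwo, S.hu])
          rw [h3]; exact Subgroup.mem_zpowers _
        obtain ⟨j, hj⟩ := Subgroup.mem_zpowers_iff.1 hwz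
        rw [Subgroup.mem_centralizer_singleton_iff, ← hj]
        exact (Commute.zpow_right (hcw : Commute _ _) j).eq
      rw [S.centralizer_eq] at hgu
      obtain ⟨j, hj⟩ := Subgroup.mem_zpowers_iff.1 hgu
      have hne : S.u ^ j ≠ 1 := fun h0 => by
        have h1 := Invol.orderOf_conj_eq h g
        rw [← hj, h0, orderOf_one] at h1
        rw [← h1] at hg
        exact hp.not_dvd_one hg
      rw [← irr_classFun χ g h, ← hj, hχu j hne]
    · refine IsChar.exists_int_of_fixed (IsIrr.isCharacter χ.2) g fun k hk => ?_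
      obtain ⟨k', hk', hkk⟩ := exists_coprime_lift Nat.card_pos (orderOf_dvd_natCard g) hk
      rw [← (pow_eq_pow_iff_modEq.2 hkk)]
      set ξ : IrrCharacter G := ⟨_, IsIrr.pow_map χ.2 hk'⟩ with hξ
      have hξv : ∀ x, (ξ : G → ℂ) x = (χ : G → ℂ) (x ^ k') := fun x => rfl
      have hξd : charDegree (ξ : G → ℂ) = d := Nat.cast_injective (R := ℂ) (by
        rw [← charDeg_spec', hξv, one_pow, charDeg_spec'])
      have hξB : ξ ∈ principalBlock M G := by
        by_contra hno
        have h0 := S.vanish hM ξ hno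
        rw [hξv, ← zpow_natCast, hχu] at h0
        · rcases hs with h | h <;> simp [h] at h0
        · intro h1
          rw [← orderOf_dvd_iff_zpow_eq_one, S.hu, Int.natCast_dvd_natCast] at h1
          exact hp.ne_one (Nat.eq_one_of_dvd_coprimes hk' h1 (hR₀ ▸ dvd_mul_right p R₀))
      rw [← hξv]
      refine congrArg (fun ψ : IrrCharacter G => (ψ : G → ℂ) g) ?_
      rw [hXY] at hξB
      rcases hξB with h | h
      · refine (hXmem ξ h).resolve_left fun h1 => ?_
        rw [h1, hτd] at hξd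
        omega
      · exfalso
        have h1 := hdY ξ h
        rw [hξd] at h1
        have h2 := (hd.symm.trans h1).dvd
        have h4 := Int.natCast_dvd.1 h2
        rcases hε with rfl | rfl <;> rcases hs with h3 | h3 <;> rw [h3] at h4 <;>
          norm_num at h4 <;> first | omega | (have := Nat.le_of_dvd (by norm_num) h4; omega)
  choose a ha using hint
  have ha1 : a 1 = d := by
    have h := ha 1
    rw [charDeg_spec'] at h
    exact_mod_cast h.symm
  -- the degree `d₀`
  have hdegZ : ε * (d₀ : ℤ) = 1 + δ * d := by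
    have h := hrel 1 hr1
    rw [charDeg_spec', charDeg_spec'] at h
    exact_mod_cast h
  have hd0 : (d₀ : ℤ) = d + δ := by
    rcases hε with rfl | rfl <;> rcases hs with h | h <;> rw [h] at hdegZ ⊢ <;>
      have := charDeg_pos y <;> omega
  have hd0pos : 0 < d₀ := charDeg_pos y
  have hcop : Nat.Coprime d d₀ := by
    rcases hs with h | h <;> rw [h] at hd0
    · rw [show d₀ = d + 1 by omega]; exact Nat.coprime_self_add_right.2 (Nat.coprime_one_right d)
    · rw [show d = d₀ + 1 by omega]; exact (Nat.coprime_self_add_right.2 (Nat.coprime_one_right d₀)).symm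
  have hdp : (p : ℤ) ∣ (d : ℤ) - δ := (Int.modEq_iff_dvd.1 hd.symm)
  have hpd : ¬ p ∣ d := fun h => by
    have h1 := dvd_sub (Int.natCast_dvd_natCast.2 h) hdp
    rw [sub_sub_cancel] at h1
    rcases hs with h2 | h2 <;> rw [h2] at h1
    · have := Int.le_of_dvd (by norm_num) h1; omega
    · have := Int.le_of_dvd (by norm_num) (dvd_neg.2 h1); omega
  have hpd0 : ¬ p ∣ d₀ := fun h => by
    have h1 := dvd_sub (Int.natCast_dvd_natCast.2 h) hdp
    rw [hd0, show (d : ℤ) + δ - (d - δ) = 2 * δ by ring] at h1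
    rcases hs with h2 | h2 <;> rw [h2] at h1
    · have := Int.le_of_dvd (by norm_num) h1; omega
    · have := Int.le_of_dvd (by norm_num) (dvd_neg.2 h1); omega
  obtain ⟨R, hR⟩ : d * d₀ ∣ R₀ := by
    refine Nat.Coprime.mul_dvd_of_dvd_of_dvd hcop ?_ ?_
    · exact ((Nat.coprime_comm.1 ((hp.coprime_iff_not_dvd).2 hpd))).dvd_of_dvd_mul_left
        (hR₀ ▸ charDeg_dvd χ)
    · exact ((Nat.coprime_comm.1 ((hp.coprime_iff_not_dvd).2 hpd0))).dvd_of_dvd_mul_left
        (hR₀ ▸ charDeg_dvd y)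
  -- sums over the block
  have hBsum : ∀ F : IrrCharacter G → ℂ, ∑ ξ ∈ Finset.univ.filter (fun ξ => ξ ∈ principalBlock M G),
      F ξ = F τ + F χ + ∑ ξ ∈ Y.toFinset, F ξ := fun F => by
    rw [← hXsum, ← Finset.sum_union (Set.disjoint_toFinset.2 hdisj)]
    exact Finset.sum_congr (by ext ξ; simp [hXY]) fun _ _ => rfl
  have hχu1 : (χ : G → ℂ) S.u = (δ : ℂ) := by
    simpa using hχu 1 (by rw [zpow_one]; exact S.u_ne)
  have hd0C : (d₀ : ℂ) ≠ 0 := Nat.cast_ne_zero.2 hd0pos.ne'
  have hdC : (d : ℂ) ≠ 0 := Nat.cast_ne_zero.2 (by omega)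
  have hε2 : (ε : ℂ) * ε = 1 := by rcases hε with rfl | rfl <;> norm_num
  have hδ2 : (δ : ℂ) * δ = 1 := by rcases hs with h | h <;> rw [h] <;> norm_num
  have hsum : ∑ ξ ∈ Y.toFinset, conj ((ξ : G → ℂ) S.u) = -(ε : ℂ) := by
    have h0 := weak_orth hM (isPBlock_principalBlock (G := G) (M := M)) hr1
      (y := S.u) (by rw [S.hu])
    rw [finsum_mem_block, hBsum, hχu1, map_intCast, Finset.sum_congr rfl (g := fun ξ : IrrCharacter G =>
      (d₀ : ℂ) * conj ((ξ : G → ℂ) S.u)) fun ξ hξ => by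
        rw [hagree ξ (Set.mem_toFinset.1 hξ) y hy 1 hr1, hd0def, charDeg_spec'],
      ← Finset.mul_sum, charDeg_spec' χ, ← hddef] at h0
    simp only [hτ, trivialIrr, map_one, mul_one] at h0
    refine mul_left_cancel₀ hd0C ?_
    have h1 : (ε : ℂ) * d₀ = 1 + δ * d := by exact_mod_cast hdegZ
    linear_combination h0 + h1
  -- the class equation
  have hN2 : ∀ z w : G, ¬ p ∣ orderOf z → ¬ p ∣ orderOf w →
      (Nat.card {g : G // IsConj S.u (z * (g * w * g⁻¹))} : ℤ) = R * ((d : ℤ) - a z) * ((d : ℤ) - a w) := by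
    intro z w hz hw
    have h := self_formula S z w
    rw [← Finset.sum_filter_add_sum_filter_not Finset.univ (fun ξ => ξ ∈ principalBlock M G),
      Finset.sum_eq_zero (s := Finset.univ.filter fun ξ => ξ ∉ principalBlock M G) (fun ξ hξ => by
        rw [S.vanish hM ξ (Finset.mem_filter.1 hξ).2, map_zero, zero_mul, zero_mul, zero_div]),
      add_zero, hBsum, hχu1, map_intCast, charDeg_spec' χ, ← hddef, ha z, ha w,
      Finset.sum_congr rfl (g := fun ξ : IrrCharacter G =>
        conj ((ξ : G → ℂ) S.u) * ((y : G → ℂ) z * (y : G → ℂ) w / (d₀ : ℂ))) fun ξ hξ => by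
          rw [hagree ξ (Set.mem_toFinset.1 hξ) y hy z hz, hagree ξ (Set.mem_toFinset.1 hξ) y hy w hw,
            hagree ξ (Set.mem_toFinset.1 hξ) y hy 1 hr1, hd0def, charDeg_spec']; ring,
      ← Finset.sum_mul, hsum] at h
    simp only [hτ, trivialIrr, map_one, mul_one, div_one] at h
    have hz' := hrel z hz
    have hw' := hrel w hw
    rw [ha z] at hz'
    rw [ha w] at hw'
    have hG : (Nat.card G : ℂ) = p * d * d₀ * R := by
      rw [hR₀, hR]; push_cast; ring
    have hd0' : (d₀ : ℂ) = d + δ := by exact_mod_cast hd0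
    have h3 : (p : ℂ) * (Nat.card {g : G // IsConj S.u (z * (g * w * g⁻¹))} : ℂ) =
        (p : ℂ) * ((R : ℂ) * ((d : ℂ) - a z) * ((d : ℂ) - a w)) := by
      rw [h, hG]
      generalize (a z : ℂ) = A at hz' ⊢
      generalize (a w : ℂ) = B at hw' ⊢
      generalize (y : G → ℂ) z = b at hz' ⊢
      generalize (y : G → ℂ) w = b' at hw' ⊢
      have hb : b = ε * (1 + δ * A) := by linear_combination ε * hz' - b * hε2
      have hb' : b' = ε * (1 + δ * B) := by linear_combination ε * hw' - b' * hε2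
      subst hb hb'
      have h1 : (ε : ℂ) * d₀ = 1 + δ * d := by exact_mod_cast hdegZ
      have hεδ : (ε : ℂ) = δ := by
        refine mul_right_cancel₀ hd0C ?_
        rw [h1, hd0']; linear_combination -hδ2
      rw [hεδ, hd0']
      have : (d : ℂ) + δ ≠ 0 := hd0' ▸ hd0C
      field_simp
      rcases hs with h' | h' <;> rw [h'] <;> push_cast <;> ring
    have h4 := mul_left_cancel₀ (Nat.cast_ne_zero.2 hp.ne_zero) h3
    exact_mod_cast h4
  have hne_d : ∀ g : G, g ≠ 1 → a g ≠ d := fun g hg h => hg (OrdP.eq_one_of_value hχτ (by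
    rw [ha, h, charDeg_spec']; simp [hddef]))
  have habs : ∀ g : G, |a g| ≤ (d : ℤ) := fun g => by
    have h := OrdP.norm_value_le χ g
    rw [ha, Complex.norm_intCast, ← hddef] at h
    exact_mod_cast h
  have hlt : ∀ g : G, g ≠ 1 → a g < d := fun g hg =>
    lt_of_le_of_ne ((le_abs_self _).trans (habs g)) (hne_d g hg)
  have hneg : ∀ g : G, -(d : ℤ) < a g := fun g => by
    refine lt_of_le_of_ne (neg_le.1 ((neg_le_abs _).trans (habs g))) fun h => ?_
    have hg : g = 1 := eq_one_of_scalar hna hχτ (by rw [ha, ← h]; simp [hddef])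
    rw [hg, ha1] at h
    omega
  have hp2 : ∀ g : G, orderOf g = 2 → ¬ p ∣ orderOf g := fun g hg h => by
    rw [hg] at h; have := Nat.le_of_dvd two_pos h; omega
  have hne1 : ∀ g : G, orderOf g = 2 → g ≠ 1 := fun g hg h => by
    rw [h, orderOf_one] at hg; omega
  -- one class of involutions, the centralizer of `t`
  have hRpos : (0 : ℤ) < R := by
    rcases Nat.eq_zero_or_pos R with h | h
    · rw [h, mul_zero] at hR; rw [hR, mul_zero] at hR₀; exact absurd hR₀ Nat.card_pos.ne'
    · exact_mod_cast h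
  have hconj : ∀ z : G, orderOf z = 2 → IsConj S.t z := by
    intro z hz
    by_contra hnc
    have h := hN2 z z (hp2 z hz) (hp2 z hz)
    rw [show Nat.card {g : G // IsConj S.u (z * (g * z * g⁻¹))} = 0 by
      rw [Nat.card_eq_zero]; exact Or.inl ⟨fun g => S.count_zero hz (by omega) hnc g.1 g.2⟩] at h
    have h5 := sub_pos.2 (hlt z (hne1 z hz))
    have := mul_pos (mul_pos hRpos h5) h5
    omega
  set c := Nat.card (Subgroup.centralizer ({S.t} : Set G)) with hc
  have hct : (c : ℤ) ^ 2 = R * ((d : ℤ) - a S.t) ^ 2 := by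
    have h := hN2 S.t S.t (hp2 _ S.ht) (hp2 _ S.ht)
    rw [S.count (by omega), ← hc] at h
    push_cast at h
    rw [h]; ring
  have hw0 : (0 : ℤ) < (d : ℤ) - a S.t := sub_pos.2 (hlt _ (hne1 _ S.ht))
  obtain ⟨r', hr'⟩ : (d : ℤ) - a S.t ∣ (c : ℤ) :=
    (Int.pow_dvd_pow_iff two_ne_zero).1 (Dvd.intro_left _ hct.symm)
  have hr0 : 0 ≤ r' := by
    by_contra hcon
    have := mul_neg_of_pos_of_neg hw0 (not_le.1 hcon)
    omega
  lift r' to ℕ using hr0 with r hr
  have hRr : R = r ^ 2 := by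
    have h1 : ((R : ℤ)) * ((d : ℤ) - a S.t) ^ 2 = (r : ℤ) ^ 2 * ((d : ℤ) - a S.t) ^ 2 := by
      rw [← hct, hr']; ring
    exact_mod_cast mul_right_cancel₀ (pow_ne_zero 2 hw0.ne') h1
  have hcard : Nat.card G = p * r ^ 2 * d * d₀ := by rw [hR₀, hR, hRr]; ring
  -- Sylow
  have hr2 : r ^ 2 % p = 1 := by
    have h1 : Nat.card (Sylow p G) ≡ 1 [MOD p] := card_sylow_modEq_one p G
    rw [P.card_eq_index_normalizer] at h1
    have h2 := (Subgroup.normalizer ((P : Subgroup G) : Set G)).card_mul_index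
    rw [hNcard, hcard] at h2
    have h3 : 2 * (Subgroup.normalizer ((P : Subgroup G) : Set G)).index = r ^ 2 * (d * d₀) :=
      Nat.eq_of_mul_eq_mul_left hp.pos (by rw [← mul_assoc]; linarith)
    have h4 : ((r : ZMod p)) ^ 2 * ((d : ZMod p) * (d₀ : ZMod p)) = 2 := by
      have := congrArg (fun n : ℕ => (n : ZMod p)) h3
      push_cast at this
      have h1' := (ZMod.natCast_eq_natCast_iff _ _ _).2 h1
      rw [Nat.cast_one] at h1'
      rw [← this]
      exact (mul_right_eq_self₀.2 (Or.inl (by exact h1')))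
    have h5 : ((d : ZMod p)) = (δ : ZMod p) := by
      have := (ZMod.intCast_zmod_eq_zero_iff_dvd _ p).2 hdp
      push_cast at this
      exact sub_eq_zero.1 this
    have h6 : ((d₀ : ZMod p)) = (d : ZMod p) + (δ : ZMod p) := by
      have := congrArg (fun n : ℤ => (n : ZMod p)) hd0
      push_cast at this
      exact this
    have hδz : (δ : ZMod p) * δ = 1 := by
      rcases hs with h | h <;> rw [h] <;> norm_num
    have h20 : (2 : ZMod p) ≠ 0 := fun h0 => by
      rw [show (2 : ZMod p) = ((2 : ℕ) : ZMod p) by norm_num, ZMod.natCast_eq_zero_iff] at h0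
      have := Nat.le_of_dvd two_pos h0
      omega
    have h7 : ((r ^ 2 : ℕ) : ZMod p) = ((1 : ℕ) : ZMod p) := by
      push_cast
      refine mul_right_cancel₀ h20 ?_
      rw [h6, h5] at h4
      linear_combination h4 - (2 * (r : ZMod p) ^ 2) * hδz
    have h8 := (ZMod.natCast_eq_natCast_iff _ _ _).1 h7
    rw [Nat.ModEq, Nat.mod_eq_of_lt hp.one_lt] at h8
    exact h8
  -- norms
  have hnorm : ∀ g : G, ¬ p ∣ orderOf g →
      1 + a g ^ 2 + (((p - 1) / 2 : ℕ) : ℤ) * (1 + δ * a g) ^ 2 ≤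
        Nat.card (Subgroup.centralizer ({g} : Set G)) := by
    intro g hg
    have h := OrdP.normSq_column (Finset.univ.filter fun ξ => ξ ∈ principalBlock M G) g
    have h1 := hBsum fun ξ => (Complex.normSq ((ξ : G → ℂ) g) : ℂ)
    have hYv : ∀ ξ ∈ Y.toFinset, (Complex.normSq ((ξ : G → ℂ) g) : ℂ) = (((1 + δ * a g) ^ 2 : ℤ) : ℂ) := by
      intro ξ hξ
      have hb : (y : G → ℂ) g = ((ε * (1 + δ * a g) : ℤ) : ℂ) := by
        have h2 := hrel g hg
        rw [ha] at h2
        push_cast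
        linear_combination ε * h2 - ((y : G → ℂ) g) * hε2
      rw [hagree ξ (Set.mem_toFinset.1 hξ) y hy g hg, hb, ← Complex.mul_conj, map_intCast]
      push_cast
      linear_combination ((1 + (δ : ℂ) * a g) ^ 2) * hε2
    rw [Finset.sum_congr rfl hYv, Finset.sum_const, ← Set.ncard_eq_toFinset_card',
      ← Nat.card_coe_set_eq, hY, ← Complex.mul_conj ((τ : G → ℂ) g),
      ← Complex.mul_conj ((χ : G → ℂ) g), ha, map_intCast] at h1
    simp only [hτ, trivialIrr, map_one, mul_one, nsmul_eq_mul] at h1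
    have h2 : ((∑ ξ ∈ Finset.univ.filter (fun ξ => ξ ∈ principalBlock M G),
        Complex.normSq ((ξ : G → ℂ) g) : ℝ) : ℂ) =
        ((1 + a g ^ 2 + (((p - 1) / 2 : ℕ) : ℤ) * (1 + δ * a g) ^ 2 : ℤ) : ℂ) := by
      rw [Complex.ofReal_sum, h1]
      simp only [Int.cast_add, Int.cast_mul, Int.cast_pow, Int.cast_one, Int.cast_natCast]
      ring
    have h3 : (∑ ξ ∈ Finset.univ.filter (fun ξ => ξ ∈ principalBlock M G),
        Complex.normSq ((ξ : G → ℂ) g) : ℝ) =
        ((1 + a g ^ 2 + (((p - 1) / 2 : ℕ) : ℤ) * (1 + δ * a g) ^ 2 : ℤ) : ℝ) := by exact_mod_cast h2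
    rw [h3] at h
    exact_mod_cast h
  have hfac : ∀ q : ℕ, q.Prime → ¬ q ∣ r → ∀ e₁ e₂ : ℕ, d * d₀ = e₁ * e₂ → q ∣ e₁ → q ≠ p →
      Nat.Coprime e₁ e₂ → e₁.factorization q = (Nat.card G).factorization q := by
    intro q hq hqr e₁ e₂ hee hqe hqp hco
    have hr0 : r ≠ 0 := fun h => hqr (h ▸ dvd_zero q)
    have he0 : e₁ * e₂ ≠ 0 := hee ▸ Nat.mul_ne_zero (by omega) hd0pos.ne'
    have hq2 : ¬ q ∣ e₂ := fun h => hq.ne_one (Nat.eq_one_of_dvd_coprimes hco hqe h)
    rw [hcard, mul_assoc (p * r ^ 2), hee, Nat.factorization_mul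
      (Nat.mul_ne_zero hp.ne_zero (pow_ne_zero 2 hr0)) he0,
      Nat.factorization_mul hp.ne_zero (pow_ne_zero 2 hr0),
      Nat.factorization_mul (left_ne_zero_of_mul he0) (right_ne_zero_of_mul he0)]
    simp only [Finsupp.add_apply]
    rw [Nat.factorization_eq_zero_of_not_dvd (show ¬ q ∣ p from
        fun h => hqp ((Nat.prime_dvd_prime_iff_eq hq hp).1 h)),
      Nat.factorization_eq_zero_of_not_dvd (show ¬ q ∣ r ^ 2 from fun h => hqr (hq.dvd_of_dvd_pow h)),
      Nat.factorization_eq_zero_of_not_dvd hq2, zero_add, zero_add, add_zero]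
  refine ⟨{ p := p, d := d, d0 := d₀, r := r, δ := δ, t := S.t, χ := χ, a := a, hp := hp, hp5 := hp5,
            hna := hna, ha := ha, hd := ha1, hd2 := h2d, hδ := hs, hd0 := hd0, hdp := hdp,
            card := hcard, hr := hr2, ht := S.ht, hconj := hconj, four := ?_, cen_t := ?_,
            cen_coprime := ?_, cen_dvd := ?_, norm_le := hnorm, lt := hlt, neg_lt := hneg,
            const_d := ?_, const_d0 := ?_ }, rfl⟩
  · obtain ⟨m, hm, h4⟩ := OrdP.involution_value hna χ (x := S.t) (by rw [← S.ht]; exact pow_orderOf_eq_one _)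
    rw [ha] at hm
    rwa [show a S.t = m from by exact_mod_cast hm]
  · rw [← hc, hr', mul_comm]
  · intro x hx hxp hdvd
    obtain ⟨⟨w, hwC⟩, hw⟩ := exists_prime_orderOf_dvd_card'
      (G := Subgroup.centralizer ({x} : Set G)) p hdvd
    rw [Subgroup.orderOf_mk] at hw
    obtain ⟨Q, hQ⟩ := (IsPGroup.of_card (n := 1) (by rw [Nat.card_zpowers, hw, pow_one]) :
      IsPGroup p (Subgroup.zpowers w)).exists_le_sylow
    obtain ⟨h, hh⟩ := MulAction.exists_smul_eq G Q P
    have hmem : h * w * h⁻¹ ∈ (P : Subgroup G) := by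
      rw [← hh]
      exact Subgroup.smul_mem_pointwise_smul w (MulAut.conj h) _ (hQ (Subgroup.mem_zpowers w))
    have hzP : Subgroup.zpowers (h * w * h⁻¹) = (P : Subgroup G) :=
      Subgroup.eq_of_le_of_card_ge (Subgroup.zpowers_le.2 hmem)
        (by rw [Nat.card_zpowers, Invol.orderOf_conj_eq, hw, hPp])
    obtain ⟨j, hj⟩ := Subgroup.mem_zpowers_iff.1 (show S.u ∈ Subgroup.zpowers (h * w * h⁻¹) by
      rw [hzP]; exact hSu)
    have hxw : x * w = w * x := (Subgroup.mem_centralizer_singleton_iff.1 hwC).symm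
    have hcm : (h * x * h⁻¹) * (h * w * h⁻¹) = (h * w * h⁻¹) * (h * x * h⁻¹) := by
      calc h * x * h⁻¹ * (h * w * h⁻¹) = h * (x * w) * h⁻¹ := by group
        _ = h * w * h⁻¹ * (h * x * h⁻¹) := by rw [hxw]; group
    have h1 := eq_one_of_commute_conj S (IsConj.refl S.u) (g := h * x * h⁻¹)
      (by rw [← hj]; exact (Commute.zpow_right (hcm : Commute _ _) j).eq)
      (by rwa [Invol.orderOf_conj_eq])
    exact hx (conj_eq_one_iff.1 h1)
  · intro x _ hxp
    have h1 := count_dvd S (by omega) x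
    rw [← Int.natCast_dvd_natCast, hN2 _ _ (hp2 _ S.ht) hxp, ← hc] at h1
    push_cast at h1
    rw [hr', hRr] at h1
    push_cast at h1
    have hr0 : (r : ℤ) ≠ 0 := fun h => by
      rw [h, mul_zero] at hr'
      exact Nat.card_pos.ne' (show c = 0 by exact_mod_cast hr')
    refine (mul_dvd_mul_iff_left (mul_ne_zero hw0.ne' hr0)).1 (h1.trans (dvd_of_eq ?_))
    ring
  · intro q hq hqr hqd x hxp hqx
    haveI := Fact.mk hq
    obtain ⟨Mq, hMq⟩ := exists_isPModular q hq
    have h := defectZero_vanish hMq χ (hfac q hq hqr d d₀ rfl hqd (fun h => hpd (h ▸ hqd)) hcop) hqx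
    rw [ha] at h
    exact_mod_cast h
  · intro q hq hqr hqd x hxp hqx
    haveI := Fact.mk hq
    obtain ⟨Mq, hMq⟩ := exists_isPModular q hq
    have h := defectZero_vanish hMq y (hfac q hq hqr d₀ d (mul_comm _ _) hqd (fun h => hpd0 (h ▸ hqd))
      hcop.symm) hqx
    have h2 := hrel x hxp
    rw [h, mul_zero, ha] at h2
    have h3 : (0 : ℤ) = 1 + δ * a x := by exact_mod_cast h2
    rcases hs with h' | h' <;> rw [h'] at h3 ⊢ <;> omega

end Cfsg.Agent.Block.OnePrime
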