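import Cfsg.Agent.Lib.Block.OnePrime.Setup
import Cfsg.Agent.Lib.Block.Central

/-!
Elementary consequences of the structure `OnePrime.Setup`.
-/

namespace Cfsg.Agent.Block.OnePrime

open Cfsg Cfsg.Agent.Char

set_option linter.style.haveILetI false

universe u

theorem exists_sum_pow_prime {R ι : Type*} [CommRing R] {q : ℕ} (hq : q.Prime) (s : Finset ι) (C : ι → R) :
    ∃ X : R, (∑ i ∈ s, C i) ^ q = ∑ i ∈ s, C i ^ q + (q : R) * X := by
  classical
  induction s using Finset.induction_on with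
  | empty => exact ⟨0, by simp [zero_pow hq.ne_zero]⟩
  | insert i s hi ih =>
    obtain ⟨X, hX⟩ := ih
    obtain ⟨r, hr⟩ := exists_add_pow_prime_eq hq (C i) (∑ j ∈ s, C j)
    refine ⟨X + C i * (∑ j ∈ s, C j) * r, ?_⟩
    rw [Finset.sum_insert hi, Finset.sum_insert hi, hr, hX]
    ring

variable {G : Type u} [Group G] [Finite G] (S : Setup G)

theorem Setup.a_conj (g h : G) : S.a (h * g * h⁻¹) = S.a g := by
  haveI := Fintype.ofFinite G
  have h1 := irr_classFun S.χ g h
  rw [S.ha, S.ha] at h1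
  exact_mod_cast h1

theorem Setup.a_isConj {g g' : G} (h : IsConj g g') : S.a g' = S.a g := by
  obtain ⟨c, rfl⟩ := isConj_iff.1 h
  exact S.a_conj g c

theorem Setup.a_invol {x : G} (hx : orderOf x = 2) : S.a x = S.a S.t :=
  S.a_isConj (S.hconj x hx)

theorem Setup.a_pow_coprime (g : G) {k : ℕ} (hk : k.Coprime (Nat.card G)) : S.a (g ^ k) = S.a g := by
  obtain ⟨σ, hσ⟩ := exists_galois (G := G) k hk
  have h := hσ _ (IsIrr.isCharacter S.χ.2) g
  rw [S.ha, S.ha, map_intCast] at h
  exact_mod_cast h.symm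

theorem Setup.eq_one_of_a {g : G} (h : S.a g = S.d) : g = 1 :=
  by_contra fun hg => (S.lt g hg).ne h

theorem Setup.a_congr_pow (g : G) {q : ℕ} (hq : q.Prime) : S.a (g ^ q) ≡ S.a g [ZMOD q] := by
  haveI := Fact.mk hq
  obtain ⟨n, ρ, hρ⟩ := IsIrr.isCharacter S.χ.2
  obtain ⟨b, c, -, hc, hk⟩ := exists_rep_eigenbasis ρ g
  have hint : ∀ i, IsIntegral ℤ (c i) := fun i => isIntegral_of_pow_eq_one (orderOf_pos g) (hc i)
  set C : _ → integralClosure ℤ ℂ := fun i => ⟨c i, hint i⟩ with hC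
  have h1 : ((S.a g : ℤ) : ℂ) = ∑ i, c i := by
    rw [← S.ha, ← hρ]; simpa using hk 1
  have h2 : ((S.a (g ^ q) : ℤ) : ℂ) = ∑ i, c i ^ q := by
    rw [← S.ha, ← hρ]; exact hk q
  obtain ⟨X, hX⟩ := exists_sum_pow_prime hq Finset.univ C
  have h3 : ((S.a g ^ q - S.a (g ^ q) : ℤ) : ℂ) = (q : ℂ) * (X : ℂ) := by
    have h4 := congrArg (Subtype.val : integralClosure ℤ ℂ → ℂ) hX
    push_cast at h4 ⊢
    simp only [hC, AddSubmonoidClass.coe_finset_sum] at h4
    rw [h1, h2, h4]
    ring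
  have h5 : (q : ℤ) ∣ S.a g ^ q - S.a (g ^ q) := by
    have hq0 : (q : ℂ) ≠ 0 := Nat.cast_ne_zero.2 hq.ne_zero
    obtain ⟨m, hm⟩ := int_of_isIntegral_rat (q := ((S.a g ^ q - S.a (g ^ q) : ℤ) : ℚ) / q) (by
      rw [Rat.cast_div, Rat.cast_intCast, Rat.cast_natCast, h3, mul_div_cancel_left₀ _ hq0]
      exact X.2)
    refine ⟨m, ?_⟩
    rw [Rat.cast_div, Rat.cast_intCast, Rat.cast_natCast, div_eq_iff hq0] at hm
    have : ((S.a g ^ q - S.a (g ^ q) : ℤ) : ℂ) = (((q : ℤ) * m : ℤ) : ℂ) := by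
      rw [hm]; push_cast; ring
    exact_mod_cast this
  exact (Int.modEq_iff_dvd.2 h5).trans ((ZMod.intCast_eq_intCast_iff _ _ _).1 (by push_cast; exact ZMod.pow_card _))

theorem Setup.a_congr_pow_pow (g : G) {q : ℕ} (hq : q.Prime) (n : ℕ) :
    S.a (g ^ q ^ n) ≡ S.a g [ZMOD q] := by
  induction n with
  | zero => simp only [pow_zero, pow_one]; exact Int.ModEq.refl _
  | succ n ih =>
    rw [pow_succ, pow_mul]
    exact (S.a_congr_pow _ hq).trans ih

/-- Multiplying by a commuting `q`-element does not change the value mod `q`. -/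
theorem Setup.a_congr_mul {x y : G} {q n : ℕ} (hq : q.Prime) (hxy : Commute x y)
    (hx : x ^ q ^ n = 1) : S.a (x * y) ≡ S.a y [ZMOD q] := by
  refine (S.a_congr_pow_pow (x * y) hq n).symm.trans ?_
  rw [hxy.mul_pow, hx, one_mul]
  exact S.a_congr_pow_pow y hq n

theorem Setup.a_congr_d {x : G} {q n : ℕ} (hq : q.Prime) (hx : x ^ q ^ n = 1) :
    S.a x ≡ (S.d : ℤ) [ZMOD q] := by
  have h := S.a_congr_pow_pow x hq n
  rw [hx, S.hd] at h
  exact h.symm

/-- A representation affording the character. -/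
noncomputable def Setup.rep : Representation ℂ G (Fin (IsIrr.isCharacter S.χ.2).choose → ℂ) :=
  (IsIrr.isCharacter S.χ.2).choose_spec.choose

theorem Setup.rep_character : S.rep.character = (S.χ : G → ℂ) :=
  (IsIrr.isCharacter S.χ.2).choose_spec.choose_spec

/-- The dimension of the space fixed by a subgroup. -/
noncomputable def Setup.fix (H : Subgroup G) : ℕ :=
  Module.finrank ℂ (Representation.invariants (S.rep.comp H.subtype))

theorem Setup.sum_eq_card_mul_fix (H : Subgroup G) [Fintype H] :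
    ∑ h : H, S.a h = (Nat.card H : ℤ) * (S.fix H : ℤ) := by
  haveI : Invertible (Fintype.card H : ℂ) := invertibleOfNonzero (Nat.cast_ne_zero.2 Fintype.card_ne_zero)
  set σ : Representation ℂ H (Fin (IsIrr.isCharacter S.χ.2).choose → ℂ) := S.rep.comp H.subtype with hσ
  have h := (Representation.isProj_averageMap σ).trace
  have h2 : ∀ x : H, LinearMap.trace ℂ _ (σ x) = (S.a (x : G) : ℂ) := fun x => by
    refine Eq.trans ?_ ((congrFun S.rep_character (x : G)).trans (S.ha _))
    rfl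
  simp only [Representation.averageMap, GroupAlgebra.average, map_smul, map_sum,
    Representation.asAlgebraHom_of, h2, smul_eq_mul, invOf_eq_inv] at h
  rw [inv_mul_eq_iff_eq_mul₀ (Nat.cast_ne_zero.2 Fintype.card_ne_zero)] at h
  rw [Nat.card_eq_fintype_card]
  exact_mod_cast h

theorem Setup.fix_antitone {K H : Subgroup G} (hKH : K ≤ H) : S.fix H ≤ S.fix K :=
  Submodule.finrank_mono fun _ hv k => hv ⟨k, hKH k.2⟩

theorem Setup.fix_bot : S.fix ⊥ = S.d := by
  haveI : Fintype (⊥ : Subgroup G) := Fintype.ofFinite _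
  have h := S.sum_eq_card_mul_fix ⊥
  rw [Finset.sum_congr rfl (g := fun _ => (S.d : ℤ)) fun x _ => by
      rw [Subgroup.mem_bot.1 x.2, S.hd], Finset.sum_const, Subgroup.card_bot, Finset.card_univ,
    ← Nat.card_eq_fintype_card, Subgroup.card_bot, one_smul] at h
  push_cast at h
  omega

theorem Setup.fix_le (H : Subgroup G) : S.fix H ≤ S.d :=
  (S.fix_antitone bot_le).trans S.fix_bot.le

/-- The fixed space of an element of prime order with constant value on its powers. -/
theorem Setup.fix_zpowers {x : G} {q : ℕ} (hq : q.Prime) (hx : orderOf x = q)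
    (hpow : ∀ k : ℕ, 0 < k → k < q → S.a (x ^ k) = S.a x) :
    (q : ℤ) * (S.fix (Subgroup.zpowers x) : ℤ) = S.d + ((q : ℤ) - 1) * S.a x := by
  classical
  haveI : Fintype (Subgroup.zpowers x) := Fintype.ofFinite _
  have h := S.sum_eq_card_mul_fix (Subgroup.zpowers x)
  rw [Nat.card_zpowers, hx] at h
  rw [← h, ← Fintype.sum_equiv (finEquivZPowers (isOfFinOrder_of_finite x))
    (fun i : Fin (orderOf x) => S.a (x ^ (i : ℕ))) _ (fun i => by rw [finEquivZPowers_apply]),
    Fin.sum_univ_eq_sum_range (fun i => S.a (x ^ i)), hx]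
  obtain ⟨m, rfl⟩ : ∃ m, q = m + 1 := Nat.exists_eq_succ_of_ne_zero hq.ne_zero
  rw [Finset.sum_range_succ', pow_zero, S.hd, Finset.sum_congr rfl (g := fun _ => S.a x) fun i hi =>
    hpow (i + 1) i.succ_pos (Nat.succ_lt_succ (Finset.mem_range.1 hi)), Finset.sum_const,
    Finset.card_range, nsmul_eq_mul]
  push_cast
  ring

/-- An element of prime order has a rational value on its powers. -/
theorem Setup.fix_prime {x : G} {q : ℕ} (hq : q.Prime) (hx : orderOf x = q) :
    (q : ℤ) * (S.fix (Subgroup.zpowers x) : ℤ) = S.d + ((q : ℤ) - 1) * S.a x := by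
  refine S.fix_zpowers hq hx fun k hk hkq => ?_
  obtain ⟨k', hk', hkk⟩ := exists_coprime_lift (N := Nat.card G) Nat.card_pos
    (orderOf_dvd_natCard x) (k := k) (by
      rw [hx]
      exact Nat.coprime_of_lt_prime hk.ne' hkq hq |>.symm)
  rw [← pow_eq_pow_iff_modEq.2 hkk, S.a_pow_coprime x hk']

/-- An element of order `q` central in a Sylow `q`-subgroup. -/
theorem exists_central {H : Type*} [Group H] [Finite H] {q : ℕ} (hq : q.Prime) (hdvd : q ∣ Nat.card H) :
    ∃ z : H, orderOf z = q ∧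
      q ^ (Nat.card H).factorization q ∣ Nat.card (Subgroup.centralizer ({z} : Set H)) := by
  haveI := Fact.mk hq
  obtain ⟨T⟩ : Nonempty (Sylow q H) := inferInstance
  have hT : (T : Subgroup H) ≠ ⊥ := T.ne_bot_of_dvd_card hdvd
  haveI := (Subgroup.nontrivial_iff_ne_bot _).2 hT
  haveI := T.isPGroup'.center_nontrivial
  obtain ⟨n, hn⟩ := IsPGroup.iff_card.1 (T.isPGroup'.to_subgroup (Subgroup.center (T : Subgroup H)))
  have h2z : q ∣ Nat.card (Subgroup.center (T : Subgroup H)) := by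
    rw [hn]
    refine dvd_pow_self q fun h0 => ?_
    have := Finite.one_lt_card (α := Subgroup.center (T : Subgroup H))
    rw [hn, h0, pow_zero] at this
    omega
  obtain ⟨⟨⟨z, hzT⟩, hzc⟩, hz⟩ := exists_prime_orderOf_dvd_card' q h2z
  rw [Subgroup.orderOf_mk, Subgroup.orderOf_mk] at hz
  refine ⟨z, hz, ?_⟩
  rw [← T.card_eq_multiplicity]
  exact Subgroup.card_dvd_of_le fun x hx => Subgroup.mem_centralizer_singleton_iff.2
    (congrArg Subtype.val (Subgroup.mem_center_iff.1 hzc ⟨x, hx⟩))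

/-- Centralisers of conjugate elements have the same order. -/
theorem card_centralizer_conj {H : Type*} [Group H] {x y : H} (h : IsConj x y) :
    Nat.card (Subgroup.centralizer ({y} : Set H)) = Nat.card (Subgroup.centralizer ({x} : Set H)) := by
  obtain ⟨g, rfl⟩ := isConj_iff.1 h
  symm
  refine Nat.card_congr (Equiv.subtypeEquiv (MulAut.conj g).toEquiv fun k => ?_)
  simp only [Subgroup.mem_centralizer_singleton_iff, MulEquiv.toEquiv_eq_coe, MulEquiv.coe_toEquiv,
    MulAut.conj_apply]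
  constructor
  · intro e
    calc g * k * g⁻¹ * (g * x * g⁻¹) = g * (k * x) * g⁻¹ := by group
      _ = g * x * g⁻¹ * (g * k * g⁻¹) := by rw [e]; group
  · intro e
    have h2 := congrArg (fun w => g⁻¹ * w * g) e
    simpa [mul_assoc] using h2

theorem Setup.two_part_dvd_cen_t :
    2 ^ (Nat.card G).factorization 2 ∣ Nat.card (Subgroup.centralizer ({S.t} : Set G)) := by
  obtain ⟨z, hz, h⟩ := exists_central (H := G) Nat.prime_two (S.ht ▸ orderOf_dvd_natCard S.t)
  rwa [card_centralizer_conj (S.hconj z hz)] at h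

theorem Setup.cen_t_nat : Nat.card (Subgroup.centralizer ({S.t} : Set G)) = S.r * ((S.d : ℤ) - S.a S.t).toNat := by
  have h := S.cen_t
  have h0 : S.a S.t < S.d := S.lt _ fun e => by simpa [e] using S.ht
  have : ((((S.d : ℤ) - S.a S.t).toNat : ℕ) : ℤ) = (S.d : ℤ) - S.a S.t := Int.toNat_of_nonneg (by omega)
  have h2 : (Nat.card (Subgroup.centralizer ({S.t} : Set G)) : ℤ) =
      ((S.r * ((S.d : ℤ) - S.a S.t).toNat : ℕ) : ℤ) := by push_cast; rw [this]; exact h
  exact_mod_cast h2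

end Cfsg.Agent.Block.OnePrime
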