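import Cfsg.Agent.Lib.Block.OnePrime.Seven

/-!
The row `(d, p, r) = (64, 13, 25)`.
-/

namespace Cfsg.Agent.Block.OnePrime

open Cfsg Cfsg.Agent.Char Subgroup

set_option linter.style.haveILetI false

universe u

/-- A group of order sixteen and exponent four has two involutions. -/
theorem exists_two_invol {Y : Type*} [Group Y] [Finite Y] (hY : Nat.card Y = 16) (h4 : ∀ y : Y, y ^ 4 = 1)
    {u : Y} (hu : u ≠ 1) (hc : ∀ y : Y, Commute y u) : ∃ v : Y, v ^ 2 = 1 ∧ v ≠ 1 ∧ v ≠ u := by
  classical
  haveI := Fintype.ofFinite Y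
  by_contra hcon
  push Not at hcon
  have hsq : ∀ y : Y, y ≠ 1 → y ≠ u → y ^ 2 = u := fun y h1 h2 =>
    hcon _ (by rw [← pow_mul]; exact h4 y) fun e => h2 (hcon y e h1)
  have huu : u * u = 1 := by
    by_contra h
    have h' := h4 u
    have e := hcon (u * u) (by rw [← pow_two, ← pow_mul]; exact h') h
    exact hu (mul_eq_left.1 e)
  have hinv : ∀ y : Y, y ≠ 1 → y ≠ u → y⁻¹ = y * u := fun y h1 h2 =>
    inv_eq_of_mul_eq_one_right (by rw [← mul_assoc, ← pow_two, hsq y h1 h2, huu])
  have anti : ∀ a b : Y, a ≠ 1 → a ≠ u → b ≠ 1 → b ≠ u → a * b ≠ 1 → a * b ≠ u → b * a = a * b * u := by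
    intro a b ha1 hau hb1 hbu h1 h2
    have h := hinv _ h1 h2
    rw [mul_inv_rev, hinv a ha1 hau, hinv b hb1 hbu] at h
    calc b * a = b * (u * u) * a := by rw [huu, mul_one]
      _ = b * u * (a * u) := by rw [(hc a).eq]; group
      _ = a * b * u := h
  have big : ∀ s : Finset Y, s.card ≤ 8 → ∃ y, y ∉ s := fun s hs => by
    by_contra h
    push Not at h
    have := Finset.card_le_card (fun y _ => h y : Finset.univ ⊆ s)
    rw [Finset.card_univ, ← Nat.card_eq_fintype_card, hY] at this
    omega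
  obtain ⟨a, ha⟩ := big {1, u} (Finset.card_le_two.trans (by norm_num))
  obtain ⟨b, hb⟩ := big {1, u, a, a * u} (Finset.card_le_four.trans (by norm_num))
  obtain ⟨c, hc'⟩ := big [1, u, a, a * u, b, b * u, a * b, a * b * u].toFinset (List.toFinset_card_le _)
  simp only [Finset.mem_insert, Finset.mem_singleton, not_or, List.mem_toFinset, List.mem_cons,
    List.not_mem_nil, not_false_eq_true, and_true] at ha hb hc'
  obtain ⟨ha1, hau⟩ := ha
  obtain ⟨hb1, hbu, hba, hbau⟩ := hb
  obtain ⟨hc1, hcu, hca, hcau, hcb, hcbu, hcab, hcabu⟩ := hc'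
  have key : ∀ x y : Y, x ≠ 1 → x ≠ u → y ≠ x → y ≠ x * u → x * y ≠ 1 ∧ x * y ≠ u := by
    intro x y hx1 hxu h1 h2
    refine ⟨fun e => h2 ?_, fun e => h1 ?_⟩
    · rw [← hinv x hx1 hxu, eq_inv_of_mul_eq_one_right e]
    · rw [show y = x⁻¹ * u by rw [← e]; group, hinv x hx1 hxu, mul_assoc, huu, mul_one]
  obtain ⟨hab1, habu⟩ := key a b ha1 hau hba hbau
  obtain ⟨h1, h2⟩ := key (a * b) c hab1 habu hcab hcabu
  obtain ⟨hac1, hacu⟩ := key a c ha1 hau hca hcau
  obtain ⟨hbc1, hbcu⟩ := key b c hb1 hbu hcb hcbu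
  have e1 := anti (a * b) c hab1 habu hc1 hcu h1 h2
  have e2 : c * (a * b) = a * b * c := by
    calc c * (a * b) = c * a * b := by group
      _ = a * c * u * b := by rw [anti a c ha1 hau hc1 hcu hac1 hacu]
      _ = a * (c * b) * u := by rw [mul_assoc _ u b, ← (hc b).eq]; group
      _ = a * b * c * (u * u) := by rw [anti b c hb1 hbu hc1 hcu hbc1 hbcu]; group
      _ = a * b * c := by rw [huu, mul_one]
  rw [e2, eq_comm, mul_eq_left] at e1
  exact hu e1

theorem zmod_five : ∀ x : ZMod 5, x ^ 4 ≠ -1 := by decide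

theorem one_of_dvd_eight {n : ℕ} (h : n ∣ 8) (hn : n % 5 = 1) : n = 1 := by
  have key : ∀ k ∈ Nat.divisors 8, k % 5 = 1 → k = 1 := by decide
  exact key n (Nat.mem_divisors.2 ⟨h, by norm_num⟩) hn

theorem sixteen_of_dvd {n : ℕ} (h : n ∣ 16) (hn : n % 5 = 1) (h1 : n ≠ 1) : n = 16 := by
  have key : ∀ k ∈ Nat.divisors 16, k % 5 = 1 → k ≠ 1 → k = 16 := by decide
  exact key n (Nat.mem_divisors.2 ⟨h, by norm_num⟩) hn h1

theorem card_lt_inj {α β : Type*} [Finite α] [Finite β] (f : α → β) (h : Function.Injective f) {b : β}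
    (hb : b ∉ Set.range f) : Nat.card α < Nat.card β := by
  haveI := Fintype.ofFinite α
  haveI := Fintype.ofFinite β
  simpa [Nat.card_eq_fintype_card] using Fintype.card_lt_of_injective_of_notMem f h hb

section reflection

variable {M : Type u} [Group M] [Finite M] {A : Subgroup M} [A.Normal]

/-- A four-group cannot act by reflections on a group of order 25. -/
theorem reflection_four (hA : Nat.card A = 25) (hAc : ∀ a ∈ A, ∀ b ∈ A, Commute a b)
    (hfix : ∀ v : M, orderOf v = 2 → Nat.card ↥(A ⊓ centralizer ({v} : Set M)) = 5)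
    {u v : M} (hu : orderOf u = 2) (hv : orderOf v = 2) (huv : Commute u v) (hne : u ≠ v) : False := by
  classical
  have hu2 : u * u = 1 := by rw [← pow_two, ← hu, pow_orderOf_eq_one]
  have hv2 : v * v = 1 := by rw [← pow_two, ← hv, pow_orderOf_eq_one]
  have hw : orderOf (u * v) = 2 := by
    refine orderOf_eq_prime ?_ fun e => hne ?_
    · rw [huv.mul_pow, pow_two, pow_two, hu2, hv2, mul_one]
    · rw [← mul_one u, ← hv2, ← mul_assoc, e, one_mul]
  set f : M → M → M := fun x a => x * a * x⁻¹ with hf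
  have fA : ∀ x : M, ∀ a ∈ A, f x a ∈ A := fun x a ha => (inferInstance : A.Normal).conj_mem a ha x
  have fmul : ∀ x a b : M, f x (a * b) = f x a * f x b := fun x a b => by simp [hf, mul_assoc]
  have fcomp : ∀ x y a : M, f x (f y a) = f (x * y) a := fun x y a => by simp [hf, mul_assoc]
  have fC : ∀ {x a : M}, a ∈ centralizer ({x} : Set M) ↔ f x a = a := fun {x a} => by
    rw [mem_centralizer_singleton_iff, hf, mul_inv_eq_iff_eq_mul]; exact eq_comm
  set C : M → Subgroup M := fun x => A ⊓ centralizer ({x} : Set M) with hC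
  have mC : ∀ {x a : M}, a ∈ C x ↔ a ∈ A ∧ f x a = a := fun {x a} => by simp [hC, fC]
  have sq1 : ∀ a ∈ A, a * a = 1 → a = 1 := by
    intro a ha h
    have h1 : orderOf a ∣ 2 := orderOf_dvd_of_pow_eq_one (by rw [pow_two, h])
    have h2 : orderOf a ∣ 25 := by rw [← hA, ← Subgroup.orderOf_mk a ha]; exact orderOf_dvd_natCard _
    exact orderOf_eq_one_iff.1 (Nat.eq_one_of_dvd_coprimes (by norm_num) h1 h2)
  haveI : Fact (Nat.Prime 5) := ⟨Nat.prime_five⟩
  by_cases hint : ∃ a ∈ A, a ≠ 1 ∧ f u a = a ∧ f v a = a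
  · obtain ⟨a, ha, ha1, hua, hva⟩ := hint
    have hwa : f (u * v) a = a := by rw [← fcomp, hva, hua]
    have heq : ∀ x : M, orderOf x = 2 → f x a = a → C x = zpowers a := by
      intro x hx hxa
      refine (Subgroup.eq_of_le_of_card_ge (zpowers_le.2 (mC.2 ⟨ha, hxa⟩)) ?_).symm
      have h5 : Nat.card (C x) = 5 := hfix x hx
      rw [h5, Nat.card_zpowers]
      have h : orderOf a ∣ 5 := by
        rw [← h5, ← Subgroup.orderOf_mk (H := C x) a (mC.2 ⟨ha, hxa⟩)]; exact orderOf_dvd_natCard _
      rcases (Nat.dvd_prime Nat.prime_five).1 h with h | h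
      · exact absurd (orderOf_eq_one_iff.1 h) ha1
      · exact h.ge
    -- every square is in the common fixed group
    have key : ∀ x : M, orderOf x = 2 → f x a = a → ∀ b ∈ A, b * f x b ∈ zpowers a := by
      intro x hx hxa b hb
      rw [← heq x hx hxa]
      refine mC.2 ⟨A.mul_mem hb (fA x b hb), ?_⟩
      have hx2 : x * x = 1 := by rw [← pow_two, ← hx, pow_orderOf_eq_one]
      rw [fmul, fcomp, hx2, show f 1 b = b by simp [hf]]
      exact (hAc _ (fA x b hb) _ hb).eq
    have hsq : ∀ b ∈ A, b * b ∈ zpowers a := by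
      intro b hb
      have h1 := key u hu hua b hb
      have h2 := key v hv hva (f u b) (fA u b hb)
      rw [fcomp, ← huv.eq] at h2
      have h3 := key (u * v) hw hwa b hb
      have h4 : (b * f u b) * (b * f (u * v) b) * (f u b * f (u * v) b)⁻¹ ∈ zpowers a :=
        mul_mem (mul_mem h1 h3) (inv_mem h2)
      convert h4 using 1
      have c1 := hAc _ (fA u b hb) _ (A.mul_mem hb (fA (u * v) b hb))
      rw [mul_assoc b (f u b), c1.eq]
      simp only [mul_inv_rev, mul_assoc]
      rw [← mul_assoc (f u b) (f (u * v) b)⁻¹,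
        (hAc _ (fA u b hb) _ (A.inv_mem (fA (u * v) b hb))).eq]
      simp [mul_assoc]
    have hle : A ≤ zpowers a := by
      intro b hb
      have h25 : b ^ 25 = 1 := by
        rw [← orderOf_dvd_iff_pow_eq_one, ← hA, ← Subgroup.orderOf_mk b hb]; exact orderOf_dvd_natCard _
      have e : b = (b * b) ^ 13 := by
        rw [← pow_two, ← pow_mul, show 2 * 13 = 25 + 1 by norm_num, pow_succ, h25, one_mul]
      rw [e]
      exact pow_mem (hsq b hb) _
    have h := Subgroup.card_le_of_le hle
    rw [← heq u hu hua] at h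
    have h5 : Nat.card (C u) = 5 := hfix u hu
    rw [hA, h5] at h
    norm_num at h
  · push Not at hint
    have hw2 : u * v * (u * v) = 1 := by rw [← pow_two, ← hw, pow_orderOf_eq_one]
    -- an element fixed by one of two is inverted by the other
    have inv1 : ∀ x y : M, x * x = 1 → y * y = 1 → Commute x y →
        (∀ a ∈ A, a ≠ 1 → f x a = a → f y a ≠ a) → ∀ a ∈ A, f y a = a → f x a = a⁻¹ := by
      intro x y hx hy hxy hno a ha hya
      refine eq_inv_of_mul_eq_one_right (by_contra fun hne' => ?_)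
      refine hno _ (A.mul_mem ha (fA x a ha)) hne' ?_ ?_
      · rw [fmul, fcomp, hx, show f 1 a = a by simp [hf]]
        exact (hAc _ (fA x a ha) _ ha).eq
      · rw [fmul, hya, fcomp, ← hxy.eq, ← fcomp, hya]
    have nouv : ∀ a ∈ A, a ≠ 1 → f u a = a → f (u * v) a ≠ a := by
      intro a ha ha1 h1 h2
      refine hint a ha ha1 h1 ?_
      have := congrArg (f u) h2
      rwa [fcomp, ← mul_assoc, hu2, one_mul, h1] at this
    have novw : ∀ a ∈ A, a ≠ 1 → f v a = a → f (u * v) a ≠ a := by
      intro a ha ha1 h1 h2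
      refine hint a ha ha1 ?_ h1
      rwa [← fcomp, h1] at h2
    set φ : C u × C v × C (u * v) → A := fun x => ⟨x.1.1 * x.2.1.1 * x.2.2.1,
      A.mul_mem (A.mul_mem x.1.2.1 x.2.1.2.1) x.2.2.2.1⟩ with hφ
    have hinj : Function.Injective φ := by
      rintro ⟨⟨a, ha⟩, ⟨b, hb⟩, ⟨c, hc⟩⟩ ⟨⟨a', ha'⟩, ⟨b', hb'⟩, ⟨c', hc'⟩⟩ h
      have h0 : a * b * c = a' * b' * c' := congrArg Subtype.val h
      obtain ⟨haA, hau⟩ := mC.1 ha
      obtain ⟨haA', hau'⟩ := mC.1 ha'
      obtain ⟨hbA, hbv⟩ := mC.1 hb
      obtain ⟨hbA', hbv'⟩ := mC.1 hb'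
      obtain ⟨hcA, hcw⟩ := mC.1 hc
      obtain ⟨hcA', hcw'⟩ := mC.1 hc'
      have hu_b := inv1 u v hu2 hv2 huv hint
      have hu_c := inv1 u (u * v) hu2 hw2 ((Commute.refl u).mul_right huv) nouv
      have hv_a := inv1 v u hv2 hu2 huv.symm (fun z hz hz1 h1 h2 => hint z hz hz1 h2 h1)
      have hv_c := inv1 v (u * v) hv2 hw2 (huv.symm.mul_right (Commute.refl v)) novw
      have e := congrArg (f u) h0
      simp only [fmul, hau, hau', hu_b b hbA hbv, hu_b b' hbA' hbv', hu_c c hcA hcw, hu_c c' hcA' hcw'] at e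
      have e2 := congrArg (f v) h0
      simp only [fmul, hbv, hbv', hv_a a haA hau, hv_a a' haA' hau', hv_c c hcA hcw, hv_c c' hcA' hcw'] at e2
      haveI : IsMulCommutative A := ⟨⟨fun x y => Subtype.ext (hAc _ x.2 _ y.2)⟩⟩
      letI : CommGroup A := IsMulCommutative.instCommGroup
      have E0 : (⟨a, haA⟩ : A) * ⟨b, hbA⟩ * ⟨c, hcA⟩ = ⟨a', haA'⟩ * ⟨b', hbA'⟩ * ⟨c', hcA'⟩ := Subtype.ext h0
      have E1 : (⟨a, haA⟩ : A) * (⟨b, hbA⟩ : A)⁻¹ * (⟨c, hcA⟩ : A)⁻¹ =
          ⟨a', haA'⟩ * (⟨b', hbA'⟩ : A)⁻¹ * (⟨c', hcA'⟩ : A)⁻¹ := Subtype.ext e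
      have E2 : (⟨a, haA⟩ : A)⁻¹ * ⟨b, hbA⟩ * (⟨c, hcA⟩ : A)⁻¹ =
          (⟨a', haA'⟩ : A)⁻¹ * ⟨b', hbA'⟩ * (⟨c', hcA'⟩ : A)⁻¹ := Subtype.ext e2
      generalize hA0 : (⟨a, haA⟩ : A) = A0 at E0 E1 E2
      generalize hA0' : (⟨a', haA'⟩ : A) = A0' at E0 E1 E2
      generalize hB0 : (⟨b, hbA⟩ : A) = B0 at E0 E1 E2
      generalize hB0' : (⟨b', hbA'⟩ : A) = B0' at E0 E1 E2
      generalize hC0 : (⟨c, hcA⟩ : A) = C0 at E0 E1 E2
      generalize hC0' : (⟨c', hcA'⟩ : A) = C0' at E0 E1 E2
      have sq : ∀ x y : A, x * x = y * y → x = y := by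
        intro x y hxy
        have := sq1 _ (x * y⁻¹).2 (congrArg Subtype.val (show x * y⁻¹ * (x * y⁻¹) = 1 by
          rw [mul_mul_mul_comm, hxy]; group))
        exact mul_inv_eq_one.1 (Subtype.ext this)
      have ea : A0 = A0' := sq _ _ (by
        calc A0 * A0 = A0 * B0 * C0 * (A0 * B0⁻¹ * C0⁻¹) := by simp [mul_comm, mul_left_comm, mul_assoc]
          _ = A0' * B0' * C0' * (A0' * B0'⁻¹ * C0'⁻¹) := by rw [E0, E1]
          _ = A0' * A0' := by simp [mul_comm, mul_left_comm, mul_assoc])
      have eb : B0 = B0' := sq _ _ (by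
        calc B0 * B0 = A0 * B0 * C0 * (A0⁻¹ * B0 * C0⁻¹) := by simp [mul_comm, mul_left_comm, mul_assoc]
          _ = A0' * B0' * C0' * (A0'⁻¹ * B0' * C0'⁻¹) := by rw [E0, E2]
          _ = B0' * B0' := by simp [mul_comm, mul_left_comm, mul_assoc])
      have ec : C0 = C0' := by rw [ea, eb] at E0; exact mul_left_cancel E0
      subst hA0 hA0' hB0 hB0' hC0 hC0'
      simp only [Subtype.mk.injEq] at ea eb ec
      simp [ea, eb, ec]
    have h := Nat.card_le_card_of_injective φ hinj
    rw [Nat.card_prod, Nat.card_prod, hA] at h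
    have h1 : Nat.card (C u) = 5 := hfix u hu
    have h2 : Nat.card (C v) = 5 := hfix v hv
    have h3 : Nat.card (C (u * v)) = 5 := hfix _ hw
    rw [h1, h2, h3] at h
    norm_num at h

/-- A 2-group of order sixteen cannot act by reflections on a group of order 25. -/
theorem reflection_false (hM : Nat.card M = 400) (hA : Nat.card A = 25)
    (hAc : ∀ a ∈ A, ∀ b ∈ A, Commute a b)
    (hfix : ∀ v : M, orderOf v = 2 → Nat.card ↥(A ⊓ centralizer ({v} : Set M)) = 5) : False := by
  classical
  haveI : Fact (Nat.Prime 2) := ⟨Nat.prime_two⟩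
  haveI : Fact (Nat.Prime 5) := ⟨Nat.prime_five⟩
  obtain ⟨Y, hY⟩ := Sylow.exists_subgroup_card_pow_prime 2 (n := 4) (G := M) (by rw [hM]; norm_num)
  norm_num at hY
  by_cases h4 : ∀ y : Y, y ^ 4 = 1
  · haveI : Nontrivial Y := Finite.one_lt_card_iff_nontrivial.1 (by rw [hY]; norm_num)
    have hp : IsPGroup 2 Y := IsPGroup.of_card (n := 4) (by rw [hY]; norm_num)
    haveI := hp.center_nontrivial
    obtain ⟨n, hn⟩ := IsPGroup.iff_card.1 (hp.to_subgroup (center Y))
    obtain ⟨⟨u, huc⟩, hu⟩ := exists_prime_orderOf_dvd_card' (G := center Y) 2 (by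
      rw [hn]; refine dvd_pow_self 2 fun h0 => ?_
      have := Finite.one_lt_card (α := center Y)
      rw [hn, h0, pow_zero] at this
      omega)
    rw [Subgroup.orderOf_mk] at hu
    have huY : ∀ y : Y, Commute y u := fun y => mem_center_iff.1 huc y
    obtain ⟨v, hv2, hv1, hvu⟩ := exists_two_invol hY h4 (fun e => by simp [e] at hu) huY
    refine reflection_four hA hAc hfix (u := (u : M)) (v := (v : M)) ?_ ?_ ?_ ?_
    · rw [Subgroup.orderOf_coe, hu]
    · rw [Subgroup.orderOf_coe]; exact orderOf_eq_prime hv2 hv1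
    · exact congrArg Subtype.val (huY v).symm
    · exact fun e => hvu (Subtype.ext e.symm)
  · push Not at h4
    obtain ⟨⟨y, hyY⟩, hy⟩ := h4
    have hy4 : y ^ 4 ≠ 1 := fun e => hy (Subtype.ext e)
    obtain ⟨i, hi, hord⟩ := (Nat.dvd_prime_pow Nat.prime_two).1
      (show orderOf y ∣ 2 ^ 4 by
        rw [show (2 : ℕ) ^ 4 = Nat.card Y by rw [hY]; norm_num, ← Subgroup.orderOf_mk y hyY]
        exact orderOf_dvd_natCard _)
    have hi3 : 3 ≤ i := by
      by_contra hlt
      refine hy4 (orderOf_dvd_iff_pow_eq_one.1 ?_)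
      rw [hord, show (4 : ℕ) = 2 ^ 2 by norm_num]
      exact pow_dvd_pow 2 (by omega)
    obtain ⟨g, hg⟩ : ∃ g : M, orderOf g = 8 := ⟨y ^ 2 ^ (i - 3), by
      rw [orderOf_pow' _ (pow_ne_zero _ two_ne_zero), hord, Nat.gcd_eq_right (pow_dvd_pow 2 (Nat.sub_le _ _)),
        Nat.pow_div (Nat.sub_le _ _) two_pos, Nat.sub_sub_self hi3]
      norm_num⟩
    set u := g ^ 4 with hu'
    have hu : orderOf u = 2 := by
      rw [hu', orderOf_pow' _ (by norm_num), hg]; norm_num
    have hu2 : u * u = 1 := by rw [← pow_two, ← hu, pow_orderOf_eq_one]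
    let B : Subgroup M :=
      { carrier := {a | a ∈ A ∧ u * a * u⁻¹ = a⁻¹}
        one_mem' := ⟨A.one_mem, by simp⟩
        mul_mem' := by
          rintro a b ⟨ha, ha'⟩ ⟨hb, hb'⟩
          refine ⟨A.mul_mem ha hb, ?_⟩
          rw [show u * (a * b) * u⁻¹ = (u * a * u⁻¹) * (u * b * u⁻¹) by group, ha', hb', mul_inv_rev,
            (hAc _ (A.inv_mem ha) _ (A.inv_mem hb)).eq]
        inv_mem' := by
          rintro a ⟨ha, ha'⟩
          refine ⟨A.inv_mem ha, ?_⟩
          rw [← conj_inv, ha'] }
    have hBA : B ≤ A := fun a ha => ha.1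
    obtain ⟨a, ha, ha'⟩ : ∃ a ∈ A, u * a * u⁻¹ ≠ a := by
      by_contra hcon
      push Not at hcon
      have h := hfix u hu
      rw [inf_eq_left.2 (fun a ha => mem_centralizer_singleton_iff.2
        (mul_inv_eq_iff_eq_mul.1 (hcon a ha)).symm), hA] at h
      norm_num at h
    set b := a * (u * a * u⁻¹)⁻¹ with hb'
    have hconjA := (inferInstance : A.Normal).conj_mem a ha u
    have hbB : b ∈ B := by
      refine ⟨A.mul_mem ha (A.inv_mem hconjA), ?_⟩
      rw [hb']
      calc u * (a * (u * a * u⁻¹)⁻¹) * u⁻¹ = (u * a * u⁻¹) * ((u * u) * a * (u * u)⁻¹)⁻¹ := by group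
        _ = (a * (u * a * u⁻¹)⁻¹)⁻¹ := by rw [hu2]; group
    have hb1 : b ≠ 1 := fun e => ha' (mul_inv_eq_one.1 e).symm
    have hB5 : Nat.card B = 5 := by
      obtain ⟨j, hj, hBj⟩ := (Nat.dvd_prime_pow Nat.prime_five).1
        (show Nat.card B ∣ 5 ^ 2 by
          rw [show (5 : ℕ) ^ 2 = Nat.card A by rw [hA]; norm_num]; exact Subgroup.card_dvd_of_le hBA)
      interval_cases j
      · exact absurd (Subgroup.mem_bot.1 (Subgroup.eq_bot_of_card_eq B hBj ▸ hbB)) hb1
      · simpa using hBj
      · exfalso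
        have hBeq : B = A := Subgroup.eq_of_le_of_card_ge hBA (by rw [hBj, hA]; norm_num)
        have h := hfix u hu
        rw [show A ⊓ centralizer ({u} : Set M) = ⊥ from (Subgroup.eq_bot_iff_forall _).2 fun c hc => ?_,
          Subgroup.card_bot] at h
        · norm_num at h
        · obtain ⟨hcA, hcC⟩ := hc
          have h1 : u * c * u⁻¹ = c⁻¹ := (hBeq ▸ hcA : c ∈ B).2
          rw [← mem_centralizer_singleton_iff.1 hcC, mul_inv_cancel_right] at h1
          have h2 : orderOf c ∣ 2 := orderOf_dvd_of_pow_eq_one (by rw [pow_two]; nth_rw 2 [h1]; group)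
          have h3 : orderOf c ∣ 25 := by rw [← hA, ← Subgroup.orderOf_mk c hcA]; exact orderOf_dvd_natCard _
          exact orderOf_eq_one_iff.1 (Nat.eq_one_of_dvd_coprimes (by norm_num) h2 h3)
    have hBgen : B = zpowers b := by
      refine (Subgroup.eq_of_le_of_card_ge (zpowers_le.2 hbB) ?_).symm
      rw [hB5, Nat.card_zpowers]
      have h : orderOf b ∣ 5 := by rw [← hB5, ← Subgroup.orderOf_mk b hbB]; exact orderOf_dvd_natCard _
      rcases (Nat.dvd_prime Nat.prime_five).1 h with h | h
      · exact absurd (orderOf_eq_one_iff.1 h) hb1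
      · exact h.ge
    have hgb : g * b * g⁻¹ ∈ B := by
      refine ⟨(inferInstance : A.Normal).conj_mem b hbB.1 g, ?_⟩
      have hgu : Commute g u := (Commute.refl g).pow_right 4
      calc u * (g * b * g⁻¹) * u⁻¹ = (u * g) * b * (u * g)⁻¹ := by group
        _ = g * (u * b * u⁻¹) * g⁻¹ := by rw [← hgu.eq]; group
        _ = (g * b * g⁻¹)⁻¹ := by rw [hbB.2]; group
    rw [hBgen, mem_zpowers_iff] at hgb
    obtain ⟨m, hm⟩ := hgb
    have hpow : ∀ n : ℕ, g ^ n * b * (g ^ n)⁻¹ = b ^ (m ^ n) := by
      intro n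
      induction n with
      | zero => simp
      | succ n ih =>
        rw [pow_succ', show g * g ^ n * b * (g * g ^ n)⁻¹ = g * (g ^ n * b * (g ^ n)⁻¹) * g⁻¹ by group, ih,
          ← conj_zpow, ← hm, ← zpow_mul, pow_succ']
    have hb5 : orderOf b = 5 := by rw [← Nat.card_zpowers, ← hBgen, hB5]
    have h1 : b ^ (m ^ 4) = b⁻¹ := by rw [← hpow 4]; exact hbB.2
    rw [← zpow_neg_one, zpow_eq_zpow_iff_modEq, hb5] at h1
    exact zmod_five (m : ZMod 5) (by
      have := (ZMod.intCast_eq_intCast_iff _ _ _).2 h1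
      push_cast at this
      exact this)

end reflection

variable {G : Type u} [Group G] [Finite G] (S : Setup G)

theorem Setup.row64_25 (hd : S.d = 64) (hp : S.p = 13) (hr : S.r = 25) (hv : S.a S.t = 0) : False := by
  classical
  haveI : Fact (Nat.Prime 5) := ⟨Nat.prime_five⟩
  haveI : Fact (Nat.Prime 2) := ⟨Nat.prime_two⟩
  have hδ : S.δ = -1 := by
    have h := S.hdp
    rw [hd, hp] at h
    rcases S.hδ with h' | h' <;> rw [h'] at h <;> omega
  have hd0 : S.d0 = 63 := by have := S.hd0; rw [hd, hδ] at this; omega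
  have hG : Nat.card G = 5 ^ 4 * 52416 := by rw [S.card, hd, hd0, hp, hr]; norm_num
  -- the centralizer of an involution
  have hL : ∀ u : G, orderOf u = 2 → Nat.card (centralizer ({u} : Set G)) = 1600 := by
    intro u hu
    rw [S.cen_invol hu, S.cen_t_nat, hd, hr, hv]
    rfl
  -- five-elements commuting with an involution
  have hval : ∀ u g : G, orderOf u = 2 → Commute g u → g ≠ 1 → g ^ 25 = 1 →
      S.a g ∈ [(-16 : ℤ), -6, 4, 14] ∧
        (Nat.card (centralizer ({g} : Set G)) : ℤ) ∣ 25 * (64 - S.a g) ∧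
        1 + S.a g ^ 2 + 6 * (1 - S.a g) ^ 2 ≤ Nat.card (centralizer ({g} : Set G)) := by
    intro u g hu hc hg1 hg25
    have hog : orderOf g ∣ 25 := orderOf_dvd_of_pow_eq_one hg25
    have hco : (orderOf u).Coprime (orderOf g) :=
      Nat.Coprime.coprime_dvd_right hog (by rw [hu]; norm_num)
    have ho := hc.symm.orderOf_mul_eq_mul_orderOf_of_coprime hco
    have h2 := S.a_invol_mul hu hc.symm
    rw [S.const_d 2 Nat.prime_two (by rw [hr]; norm_num) (by rw [hd]; norm_num) (u * g)
      (S.not_p_dvd (n := 50) (by rw [ho, hu]; exact Nat.mul_dvd_mul_left 2 hog) (by rw [hp]; norm_num))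
      (by rw [ho, hu]; exact dvd_mul_right 2 _)] at h2
    have h5 := S.a_congr_d (x := g) (q := 5) (n := 2) (by norm_num) (by rw [show 5 ^ 2 = 25 by norm_num, hg25])
    have hb := S.norm_le g (S.regular_of_commute hu hc)
    have hdv := S.cen_dvd g hg1 (S.regular_of_commute hu hc)
    have hlt := S.lt g hg1
    rw [hd] at h5 hlt
    rw [hd, hr] at hdv
    rw [hp, hδ, show (1 : ℤ) + -1 * S.a g = 1 - S.a g by ring,
      show (((13 - 1) / 2 : ℕ) : ℤ) = 6 by norm_num] at hb
    push_cast at hdv hlt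
    have hle := hb.trans (Int.le_of_dvd (by omega) hdv)
    have h2' : S.a g % 2 = 0 := h2.symm.trans rfl
    have h5' : S.a g % 5 = 4 := h5.trans rfl
    have hlow : -26 < S.a g := by
      by_contra hcon
      push Not at hcon
      nlinarith
    have hhigh : S.a g < 24 := by
      by_contra hcon
      push Not at hcon
      nlinarith
    refine ⟨?_, hdv, hb⟩
    generalize S.a g = a at h2' h5' hlow hhigh ⊢
    interval_cases a <;> simp at h2' h5' ⊢
  set L := centralizer ({S.t} : Set G) with hLdef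
  have hLc : Nat.card L = 1600 := hL _ S.ht
  have htL : S.t ∈ L := mem_centralizer_singleton_iff.2 rfl
  obtain ⟨Q⟩ : Nonempty (Sylow 5 L) := inferInstance
  have hQc : ∀ R : Sylow 5 L, Nat.card (R : Subgroup L) = 25 := fun R => by
    rw [R.card_eq_multiplicity, hLc, show (1600 : ℕ) = 5 ^ 2 * 64 by norm_num,
      Nat.factorization_mul (by norm_num) (by norm_num), Finsupp.add_apply,
      Nat.Prime.factorization_pow (by norm_num), Finsupp.single_eq_same,
      Nat.factorization_eq_zero_of_not_dvd (by norm_num)] <;> norm_num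
  have hQcomm : ∀ R : Sylow 5 L, ∀ a ∈ (R : Subgroup L), ∀ b ∈ (R : Subgroup L), Commute a b :=
    fun R a ha b hb => congrArg Subtype.val
      (IsPGroup.commutative_of_card_eq_prime_sq (by rw [hQc R]; norm_num : Nat.card (R : Subgroup L) = 5 ^ 2)
        ⟨a, ha⟩ ⟨b, hb⟩)
  have hQel : ∀ R : Sylow 5 L, ∀ x ∈ (R : Subgroup L), (x : G) ^ 25 = 1 := fun R x hx => by
    rw [← orderOf_dvd_iff_pow_eq_one, Subgroup.orderOf_coe, ← hQc R, ← Subgroup.orderOf_mk x hx]
    exact orderOf_dvd_natCard _
  -- the centralizer in L of an element has order dividing 400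
  have hCL : ∀ R : Sylow 5 L, ∀ x ∈ (R : Subgroup L), x ≠ 1 →
      Nat.card (centralizer ({x} : Set L)) ∣ 400 := by
    intro R x hx hx1
    obtain ⟨hmem, hdv, -⟩ := hval S.t x S.ht (mem_centralizer_singleton_iff.1 x.2)
      (fun e => hx1 (Subtype.ext e)) (hQel R x hx)
    have h1 : Nat.card (centralizer ({x} : Set L)) ∣ 1600 := hLc ▸ Subgroup.card_subgroup_dvd_card _
    have h2 : Nat.card (centralizer ({x} : Set L)) ∣ Nat.card (centralizer ({(x : G)} : Set G)) := by
      rw [← Subgroup.card_map_of_injective L.subtype_injective]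
      refine Subgroup.card_dvd_of_le ?_
      rintro _ ⟨y, hy, rfl⟩
      exact mem_centralizer_singleton_iff.2 (congrArg Subtype.val (mem_centralizer_singleton_iff.1 hy))
    have h3 := (Int.natCast_dvd_natCast.2 h2).trans hdv
    simp only [List.mem_cons, List.not_mem_nil, or_false] at hmem
    have hk : ∀ n : ℕ, (Nat.card (centralizer ({x} : Set L)) : ℤ) ∣ (n : ℤ) → Nat.gcd 1600 n ∣ 400 →
        Nat.card (centralizer ({x} : Set L)) ∣ 400 := fun n hn hg =>
      (Nat.dvd_gcd h1 (Int.natCast_dvd_natCast.1 hn)).trans hg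
    rcases hmem with h | h | h | h <;> rw [h] at h3
    · exact hk 2000 (by norm_num at h3 ⊢; exact h3) (by norm_num)
    · exact hk 1750 (by norm_num at h3 ⊢; exact h3) (by norm_num)
    · exact hk 1500 (by norm_num at h3 ⊢; exact h3) (by norm_num)
    · exact hk 1250 (by norm_num at h3 ⊢; exact h3) (by norm_num)
  -- the Sylow subgroup of L is unique
  have huniq : ∀ R R' : Sylow 5 L, R = R' := by
    intro R R'
    by_contra hne
    have hinj : ∀ x ∈ (R : Subgroup L), x • R' = R' → x = 1 := by
      intro x hx hfix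
      by_contra hx1
      have hxR' : x ∈ (R' : Subgroup L) := by
        have h := R'.isPGroup'
        have hmem : x ∈ (R : Subgroup L) ⊓ normalizer ((R' : Subgroup L) : Set L) :=
          ⟨hx, Sylow.smul_eq_iff_mem_normalizer.1 hfix⟩
        have e := R.isPGroup'.inf_normalizer_sylow R'
        have hmem' : x ∈ (R : Subgroup L) ⊓ (R' : Subgroup L) := e ▸ hmem
        exact hmem'.2
      set Cx := centralizer ({x} : Set L)
      have hle : ∀ T : Sylow 5 L, x ∈ (T : Subgroup L) → (T : Subgroup L) ≤ Cx := fun T hT y hy =>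
        mem_centralizer_singleton_iff.2 (hQcomm T y hy x hT).eq
      obtain ⟨c, hc⟩ : 25 ∣ Nat.card Cx := hQc R ▸ Subgroup.card_dvd_of_le (hle R hx)
      have hc16 : c ∣ 16 := Nat.dvd_of_mul_dvd_mul_left (by norm_num : 0 < 25) (hc ▸ hCL R x hx hx1)
      have hmk : ∀ T : Sylow 5 L, x ∈ (T : Subgroup L) →
          ∃ T' : Sylow 5 Cx, (T' : Subgroup Cx) = (T : Subgroup L).subgroupOf Cx := by
        intro T hT
        refine ⟨Sylow.ofCard _ ?_, Sylow.coe_ofCard _ _⟩
        rw [Nat.card_congr (Subgroup.subgroupOfEquivOfLe (hle T hT)).toEquiv, hQc T, hc,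
          Nat.factorization_mul (by norm_num) (by rintro rfl; norm_num at hc16), Finsupp.add_apply,
          Nat.factorization_eq_zero_of_not_dvd (fun h : 5 ∣ c => by have := h.trans hc16; norm_num at this),
          show (25 : ℕ) = 5 ^ 2 by norm_num, Nat.Prime.factorization_pow (by norm_num)]
        simp
      obtain ⟨T, hT⟩ := hmk R hx
      obtain ⟨T', hT'⟩ := hmk R' hxR'
      have hcard : Nat.card (Sylow 5 Cx) = 1 := by
        have h := card_sylow_modEq_one 5 Cx
        rw [Sylow.card_eq_index_normalizer T] at h ⊢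
        set N := normalizer ((T : Subgroup Cx) : Set Cx)
        have hN := N.card_mul_index
        have ht : (⟨⟨S.t, htL⟩, mem_centralizer_singleton_iff.2 (Subtype.ext
            (mem_centralizer_singleton_iff.1 x.2).symm)⟩ : Cx) ∈ N := by
          rw [Subgroup.mem_normalizer_iff]
          intro y
          rw [show (⟨⟨S.t, htL⟩, _⟩ : Cx) * y * (⟨⟨S.t, htL⟩, _⟩ : Cx)⁻¹ = y from Subtype.ext (Subtype.ext (by
            show S.t * ((y : L) : G) * S.t⁻¹ = ((y : L) : G)
            rw [← (mem_centralizer_singleton_iff.1 (y : L).2), mul_inv_cancel_right]))]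
        have h2 : 50 ∣ Nat.card N := by
          have ha : 25 ∣ Nat.card N := by
            refine dvd_trans (dvd_of_eq ?_) (Subgroup.card_dvd_of_le Subgroup.le_normalizer)
            rw [hT, Nat.card_congr (Subgroup.subgroupOfEquivOfLe (hle R hx)).toEquiv, hQc R]
          have hb : 2 ∣ Nat.card N := by
            refine dvd_trans (dvd_of_eq ?_) (orderOf_dvd_natCard (⟨_, ht⟩ : N))
            simp only [Subgroup.orderOf_mk, S.ht]
          exact Nat.Coprime.mul_dvd_of_dvd_of_dvd (by norm_num : Nat.Coprime 2 25) hb ha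
        obtain ⟨e, he⟩ := h2
        rw [hc, he] at hN
        obtain ⟨c', hc'⟩ : e * N.index ∣ 8 := by
          refine Nat.dvd_of_mul_dvd_mul_left (by norm_num : 0 < 2) ?_
          have : 2 * (e * N.index) = c := by linarith
          rw [this]; exact hc16
        have hi8 : N.index ∣ 8 := ⟨e * c', by rw [hc']; ring⟩
        have hmod : N.index % 5 = 1 := h
        have hle8 := Nat.le_of_dvd (by norm_num) hi8
        exact one_of_dvd_eight hi8 hmod
      haveI := (Nat.card_eq_one_iff_unique.1 hcard).1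
      have e : (R : Subgroup L).subgroupOf Cx = (R' : Subgroup L).subgroupOf Cx := by
        rw [← hT, ← hT', Subsingleton.elim T T']
      rw [Subgroup.subgroupOf_inj, inf_eq_left.2 (hle R hx), inf_eq_left.2 (hle R' hxR')] at e
      exact hne (Sylow.ext e)
    let φ : ↥(R : Subgroup L) → {T : Sylow 5 L // T ≠ R} := fun x => ⟨(x : L) • R', fun e => hne (by
      have h := congrArg (fun T : Sylow 5 L => (x : L)⁻¹ • T) e
      simp only [inv_smul_smul] at h
      rw [h]
      exact (Sylow.smul_eq_iff_mem_normalizer.2 (Subgroup.le_normalizer (inv_mem x.2))).symm)⟩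
    have hφ : Function.Injective φ := fun x y h => by
      have h' : (x : L) • R' = (y : L) • R' := congrArg Subtype.val h
      have := hinj ((y : L)⁻¹ * x) (mul_mem (inv_mem y.2) x.2) (by rw [mul_smul, h', inv_smul_smul])
      exact Subtype.ext (inv_mul_eq_one.1 this).symm
    have h1 := Nat.card_le_card_of_injective φ hφ
    rw [hQc R] at h1
    have h2 : Nat.card {T : Sylow 5 L // T ≠ R} < Nat.card (Sylow 5 L) :=
      card_lt_inj (fun T => T.1) Subtype.val_injective (b := R)
        (by rintro ⟨T, hT⟩; exact T.2 hT)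
    have h3 : Nat.card (Sylow 5 L) ∣ 64 := by
      have h := R.card_dvd_index
      have h' := (R : Subgroup L).card_mul_index
      rw [hQc R, hLc] at h'
      exact (show (R : Subgroup L).index = 64 by omega) ▸ h
    have h4 : Nat.card (Sylow 5 L) % 5 = 1 := card_sylow_modEq_one 5 L
    obtain ⟨i, hi, hni⟩ := (Nat.dvd_prime_pow Nat.prime_two).1 (show Nat.card (Sylow 5 L) ∣ 2 ^ 6 from h3)
    rw [hni] at h2 h4
    interval_cases i <;> omega
  haveI : Subsingleton (Sylow 5 L) := ⟨huniq⟩
  haveI hQn : (Q : Subgroup L).Normal := Sylow.normal_of_subsingleton Q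
  -- values on Q
  haveI : Fintype (Q : Subgroup L) := Fintype.ofFinite _
  set Qg := (Q : Subgroup L).map L.subtype with hQg
  haveI : Fintype Qg := Fintype.ofFinite _
  have hQgc : Nat.card Qg = 25 := by rw [hQg, Subgroup.card_map_of_injective L.subtype_injective, hQc Q]
  have hclass : ∀ x ∈ (Q : Subgroup L), x ≠ 1 → S.a (x : G) = 4 ∨ S.a (x : G) = -16 := by
    intro x hx hx1
    obtain ⟨hmem, hdv, -⟩ := hval S.t x S.ht (mem_centralizer_singleton_iff.1 x.2)
      (fun e => hx1 (Subtype.ext e)) (hQel Q x hx)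
    have h100 : 4 ∣ Nat.card (centralizer ({(x : G)} : Set G)) := by
      have hc := card_class x
      rw [hLc] at hc
      have hsub : Nat.card {g : L // IsConj x g} < 25 := by
        rw [← hQc Q]
        refine card_lt_inj
          (fun g : {g : L // IsConj x g} => (⟨g.1, ?_⟩ : (Q : Subgroup L))) (fun a b h => Subtype.ext ?_)
          (b := 1) ?_
        · obtain ⟨c, hc⟩ := isConj_iff.1 g.2
          rw [← hc]; exact hQn.conj_mem x hx c
        · simpa using h
        · rintro ⟨g, hg⟩
          have h1 : (g : L) = 1 := congrArg Subtype.val hg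
          exact hx1 (isConj_one_left.1 (h1 ▸ g.2))
      have h2 : Nat.card (centralizer ({x} : Set L)) ∣ Nat.card (centralizer ({(x : G)} : Set G)) := by
        rw [← Subgroup.card_map_of_injective L.subtype_injective]
        refine Subgroup.card_dvd_of_le ?_
        rintro _ ⟨y, hy, rfl⟩
        exact mem_centralizer_singleton_iff.2 (congrArg Subtype.val (mem_centralizer_singleton_iff.1 hy))
      have h400 := hCL Q x hx hx1
      have h25 : 25 ∣ Nat.card (centralizer ({x} : Set L)) := hQc Q ▸ Subgroup.card_dvd_of_le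
        (fun y hy => mem_centralizer_singleton_iff.2 (hQcomm Q y hy x hx).eq)
      refine dvd_trans ?_ h2
      obtain ⟨c, hc'⟩ := h25
      rw [hc'] at h400 hc ⊢
      have hc16 : c ∣ 16 := Nat.dvd_of_mul_dvd_mul_left (by norm_num : 0 < 25) h400
      have := Nat.le_of_dvd (by norm_num) hc16
      interval_cases c <;> first | omega | (norm_num at hc16 ⊢)
    have h4 := (Int.natCast_dvd_natCast.2 h100).trans hdv
    simp only [List.mem_cons, List.not_mem_nil, or_false] at hmem
    rcases hmem with h | h | h | h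
    · exact Or.inr h
    · rw [h] at h4; norm_num at h4
    · exact Or.inl h
    · rw [h] at h4; norm_num at h4
  set Bad := Finset.univ.filter fun q : Qg => S.a (q : G) = -16 with hBad
  have hsum := S.sum_eq_card_mul_fix Qg
  rw [hQgc, Finset.sum_congr rfl (g := fun q : Qg => (if q = 1 then (60 : ℤ) else 0) + 4 +
    if S.a (q : G) = -16 then (-20) else 0) (fun q _ => ?_)] at hsum
  swap
  · by_cases hq : q = 1
    · rw [hq, if_pos rfl, Subgroup.coe_one, S.hd, hd, if_neg (by norm_num)]; norm_num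
    · obtain ⟨x, hx, hxq⟩ := q.2
      have hx1 : x ≠ 1 := fun e => hq (Subtype.ext (by rw [← hxq, e]; rfl))
      rw [if_neg hq]
      rcases hclass x hx hx1 with h | h <;>
        rw [show (q : G) = ((x : L) : G) from hxq.symm, h] <;> norm_num
  rw [Finset.sum_add_distrib, Finset.sum_add_distrib, Finset.sum_ite_eq', Finset.sum_const,
    Finset.sum_ite, Finset.sum_const, Finset.sum_const, Finset.card_univ, ← Nat.card_eq_fintype_card,
    hQgc, ← hBad] at hsum
  simp only [Finset.mem_univ, if_true, nsmul_eq_mul, mul_zero, add_zero] at hsum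
  push_cast at hsum
  have hm : Bad.card = 3 ∨ Bad.card = 8 := by omega
  have hbadne : Bad.Nonempty := Finset.card_pos.1 (by omega)
  obtain ⟨⟨y, hyQ⟩, hy⟩ := hbadne
  rw [hBad, Finset.mem_filter] at hy
  have hay : S.a y = -16 := hy.2
  have hy1 : y ≠ 1 := fun e => by rw [e, S.hd, hd] at hay; norm_num at hay
  obtain ⟨x, hxQ, hxy⟩ := hyQ
  have hxy' : (x : G) = y := hxy
  -- the powers of y
  have htot : (orderOf y).totient ≤ Bad.card := by
    rw [Nat.totient_eq_card_coprime]
    refine Finset.card_le_card_of_injOn (fun j => (⟨y ^ j, pow_mem (show y ∈ Qg from ⟨x, hxQ, hxy⟩) j⟩ : Qg)) ?_ ?_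
    · intro j hj
      simp only [Finset.coe_filter, Finset.mem_range, Set.mem_setOf_eq] at hj
      simp only [hBad, Finset.coe_filter, Finset.mem_univ, true_and, Set.mem_setOf_eq]
      rw [S.a_pow_coprime_order y hj.2.symm, hay]
    · intro i hi j hj hij
      simp only [Finset.coe_filter, Finset.mem_range, Set.mem_setOf_eq] at hi hj
      exact pow_injOn_Iio_orderOf hi.1 hj.1 (congrArg Subtype.val hij)
  have hy25 : orderOf y ∣ 25 := orderOf_dvd_of_pow_eq_one (hxy' ▸ hQel Q x hxQ)
  have hy5 : orderOf y = 5 ∧ Bad.card = 8 := by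
    obtain ⟨i, hi, hyi⟩ := (Nat.dvd_prime_pow Nat.prime_five).1 (show orderOf y ∣ 5 ^ 2 from hy25)
    interval_cases i
    · exact absurd (orderOf_eq_one_iff.1 (hyi.trans (pow_zero 5))) hy1
    · rw [hyi, pow_one, Nat.totient_prime Nat.prime_five] at htot
      exact ⟨by rw [hyi, pow_one], by omega⟩
    · rw [hyi, Nat.totient_prime_pow Nat.prime_five (by norm_num)] at htot
      omega
  obtain ⟨hy5, hm8⟩ := hy5
  have hx1 : x ≠ 1 := fun e => hy1 (by rw [← hxy', e]; rfl)
  -- a second element with value 4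
  obtain ⟨x', hx'Q, hx'⟩ : ∃ x' ∈ (Q : Subgroup L), x' ≠ 1 ∧ S.a (x' : G) = 4 := by
    by_contra hcon
    push Not at hcon
    have hsub : Finset.univ.erase (1 : Qg) ⊆ Bad := by
      intro q hq
      obtain ⟨x', hx', hq'⟩ := q.2
      have hq1 : x' ≠ 1 := fun e => (Finset.mem_erase.1 hq).1 (Subtype.ext (by rw [← hq', e]; rfl))
      simp only [hBad, Finset.mem_filter, Finset.mem_univ, true_and]
      rcases hclass x' hx' hq1 with h | h
      · exact absurd h (hcon x' hx' hq1)
      · rw [← hq']; exact h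
    have := Finset.card_le_card hsub
    rw [Finset.card_erase_of_mem (Finset.mem_univ _), Finset.card_univ, ← Nat.card_eq_fintype_card, hQgc,
      hm8] at this
    omega
  obtain ⟨hx'1, hax'⟩ := hx'
  -- the centralizer of y
  obtain ⟨-, hydv, hyb⟩ := hval S.t (x : G) S.ht (mem_centralizer_singleton_iff.1 x.2)
    (fun e => hx1 (Subtype.ext e)) (hQel Q x hxQ)
  rw [hxy', hay] at hydv hyb
  set M0 := centralizer ({y} : Set G) with hM0def
  have hM0 : Nat.card M0 = 2000 := by
    have h := Int.natCast_dvd_natCast.1 (show (Nat.card M0 : ℤ) ∣ ((2000 : ℕ) : ℤ) by simpa using hydv)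
    have h1 := Nat.le_of_dvd (by norm_num) h
    have h2 : 1991 ≤ Nat.card M0 := by
      norm_num at hyb
      exact hyb
    generalize Nat.card M0 = n at h h1 h2 ⊢
    interval_cases n <;> first | rfl | (norm_num at h)
  have hyM : y ∈ M0 := mem_centralizer_singleton_iff.2 rfl
  have hQgM : Qg ≤ M0 := by
    rintro _ ⟨z, hz, rfl⟩
    exact mem_centralizer_singleton_iff.2 (hxy' ▸ congrArg Subtype.val (hQcomm Q z hz x hxQ).eq)
  set Q1 := Qg.subgroupOf M0 with hQ1
  have hQ1c : Nat.card Q1 = 5 ^ 2 := by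
    rw [hQ1, Nat.card_congr (Subgroup.subgroupOfEquivOfLe hQgM).toEquiv, hQgc]; norm_num
  set N := normalizer (Q1 : Set M0) with hNdef
  -- 1000 divides the normalizer
  have h125 : 125 ∣ Nat.card N := by
    have h := Sylow.prime_pow_dvd_card_normalizer (p := 5) (n := 2) (show 5 ^ (2 + 1) ∣ Nat.card M0 by
      rw [hM0]; norm_num) hQ1c
    simpa using h
  have h8 : 8 ∣ Nat.card N := by
    set Cx := centralizer ({x} : Set L)
    have hmap : ∀ z ∈ Cx, (z : G) ∈ M0 := fun z hz => mem_centralizer_singleton_iff.2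
      (hxy' ▸ congrArg Subtype.val (mem_centralizer_singleton_iff.1 hz))
    have hc200 : 200 ∣ Nat.card Cx := by
      have hc := card_class x
      rw [hLc] at hc
      have hsub : Nat.card {g : L // IsConj x g} ≤ 8 := by
        rw [← hm8, ← Fintype.card_coe, ← Nat.card_eq_fintype_card]
        refine Nat.card_le_card_of_injective (fun g => ⟨⟨(g.1 : G), ?_⟩, ?_⟩) (fun a b h => ?_)
        · obtain ⟨c, hc⟩ := isConj_iff.1 g.2
          exact ⟨g.1, hc ▸ hQn.conj_mem x hxQ c, rfl⟩
        · obtain ⟨c, hc⟩ := isConj_iff.1 g.2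
          simp only [hBad, Finset.mem_filter, Finset.mem_univ, true_and]
          rw [← hc, Subgroup.coe_mul, Subgroup.coe_mul, Subgroup.coe_inv, S.a_conj, hxy', hay]
        · exact Subtype.ext (Subtype.ext (congrArg (fun z => (z.1 : G)) h))
      have h400 := hCL Q x hxQ hx1
      obtain ⟨c, hc'⟩ : 25 ∣ Nat.card Cx := hQc Q ▸ Subgroup.card_dvd_of_le
        (fun z hz => mem_centralizer_singleton_iff.2 (hQcomm Q z hz x hxQ).eq)
      rw [hc'] at h400 hc ⊢
      have hc16 : c ∣ 16 := Nat.dvd_of_mul_dvd_mul_left (by norm_num : 0 < 25) h400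
      have := Nat.le_of_dvd (by norm_num) hc16
      interval_cases c <;> first | omega | (norm_num at hc16 ⊢)
    let ψ : Cx →* M0 := MonoidHom.codRestrict (L.subtype.comp Cx.subtype) M0 fun z => hmap z z.2
    have hψ : ψ.range ≤ N := by
      rintro _ ⟨z, rfl⟩
      rw [hNdef, Subgroup.mem_normalizer_iff]
      intro v
      have hz : ∀ q : L, q ∈ (Q : Subgroup L) → ∀ c : L, c * q * c⁻¹ ∈ (Q : Subgroup L) :=
        fun q hq c => hQn.conj_mem q hq c
      simp only [hQ1, Subgroup.mem_subgroupOf, hQg, Subgroup.mem_map]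
      constructor
      · rintro ⟨q, hq, e⟩
        refine ⟨(z : L) * q * (z : L)⁻¹, hz q hq _, ?_⟩
        simp only [map_mul, map_inv, e]
        rfl
      · rintro ⟨q, hq, e⟩
        refine ⟨(z : L)⁻¹ * q * (z : L), by simpa using hz q hq (z : L)⁻¹, ?_⟩
        simp only [map_mul, map_inv, e]
        show ((z : L) : G)⁻¹ * (((z : L) : G) * (v : G) * ((z : L) : G)⁻¹) * ((z : L) : G) = (v : G)
        group
    have hinj : Function.Injective ψ := fun a b h =>
      Subtype.ext (Subtype.ext (congrArg Subtype.val h :))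
    have hr := Subgroup.card_dvd_of_le hψ
    rw [← Nat.card_congr (MonoidHom.ofInjective hinj).toEquiv] at hr
    exact (Dvd.intro 25 (by norm_num : 8 * 25 = 200)).trans (hc200.trans hr)
  have h1000 : 1000 ∣ Nat.card N := Nat.Coprime.mul_dvd_of_dvd_of_dvd (by norm_num : Nat.Coprime 8 125) h8 h125
  -- the Sylow subgroup of M0 is normal
  obtain ⟨W⟩ : Nonempty (Sylow 5 M0) := inferInstance
  have hWc : Nat.card (W : Subgroup M0) = 125 := by
    rw [W.card_eq_multiplicity, hM0, show (2000 : ℕ) = 5 ^ 3 * 16 by norm_num,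
      Nat.factorization_mul (by norm_num) (by norm_num), Finsupp.add_apply,
      Nat.Prime.factorization_pow (by norm_num), Finsupp.single_eq_same,
      Nat.factorization_eq_zero_of_not_dvd (by norm_num)] <;> norm_num
  have hWn : (W : Subgroup M0).Normal := by
    have hsyl := card_sylow_modEq_one 5 M0
    by_contra hcon
    -- otherwise Q1 is normal
    have hn1 : Nat.card (Sylow 5 M0) = 16 := by
      have h := W.card_dvd_index
      have h' := (W : Subgroup M0).card_mul_index
      rw [hWc, hM0] at h'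
      rw [show (W : Subgroup M0).index = 16 by omega] at h
      have hne : Nat.card (Sylow 5 M0) ≠ 1 := fun e => hcon (by
        haveI := (Nat.card_eq_one_iff_unique.1 e).1
        exact Sylow.normal_of_subsingleton W)
      have hle := Nat.le_of_dvd (by norm_num) h
      have hmod : Nat.card (Sylow 5 M0) % 5 = 1 := hsyl
      exact sixteen_of_dvd h hmod hne
    -- the Sylow subgroup of N lifts
    have hNtop : N = ⊤ := by
      by_contra hNt
      have hN1000 : Nat.card N = 1000 := by
        obtain ⟨e, he⟩ := h1000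
        have h := N.card_mul_index
        rw [hM0, he] at h
        have hi : N.index ≠ 1 := fun hi => hNt (Subgroup.index_eq_one.1 hi)
        have he2 : e * N.index = 2 := by linarith
        rcases (Nat.dvd_prime Nat.prime_two).1 ⟨_, he2.symm⟩ with rfl | rfl
        · rw [he]
        · exact absurd (by omega : N.index = 1) hi
      obtain ⟨T⟩ : Nonempty (Sylow 5 N) := inferInstance
      have hTc : Nat.card (T : Subgroup N) = 125 := by
        rw [T.card_eq_multiplicity, hN1000, show (1000 : ℕ) = 5 ^ 3 * 8 by norm_num,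
          Nat.factorization_mul (by norm_num) (by norm_num), Finsupp.add_apply,
          Nat.Prime.factorization_pow (by norm_num), Finsupp.single_eq_same,
          Nat.factorization_eq_zero_of_not_dvd (by norm_num)] <;> norm_num
      have hT1 : Nat.card (Sylow 5 N) = 1 := by
        have h := T.card_dvd_index
        have h' := (T : Subgroup N).card_mul_index
        rw [hTc, hN1000] at h'
        rw [show (T : Subgroup N).index = 8 by omega] at h
        have hle := Nat.le_of_dvd (by norm_num) h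
        have hmod : Nat.card (Sylow 5 N) % 5 = 1 := card_sylow_modEq_one 5 N
        exact one_of_dvd_eight h hmod
      haveI : Subsingleton (Sylow 5 N) := (Nat.card_eq_one_iff_unique.1 hT1).1
      haveI hTn : (T : Subgroup N).Normal := Sylow.normal_of_subsingleton T
      have hTW : Nat.card ((T : Subgroup N).map N.subtype) = 5 ^ (Nat.card M0).factorization 5 := by
        rw [Subgroup.card_map_of_injective N.subtype_injective, hTc, ← hWc, W.card_eq_multiplicity]
      let W' : Sylow 5 M0 := Sylow.ofCard _ hTW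
      have hle : N ≤ normalizer ((W' : Subgroup M0) : Set M0) := by
        intro n hn
        rw [Subgroup.mem_normalizer_iff]
        intro v
        simp only [W', Sylow.coe_ofCard, Subgroup.mem_map]
        constructor
        · rintro ⟨c, hc, rfl⟩
          exact ⟨⟨n, hn⟩ * c * (⟨n, hn⟩ : N)⁻¹, hTn.conj_mem c hc _, rfl⟩
        · rintro ⟨c, hc, e⟩
          refine ⟨(⟨n, hn⟩ : N)⁻¹ * c * ⟨n, hn⟩, by simpa using hTn.conj_mem c hc (⟨n, hn⟩ : N)⁻¹, ?_⟩
          simp only [map_mul, map_inv, e]
          show n⁻¹ * (n * v * n⁻¹) * n = v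
          group
      have h := Subgroup.card_le_of_le hle
      have h' := (normalizer ((W' : Subgroup M0) : Set M0)).card_mul_index
      have h'' : Nat.card (Sylow 5 M0) = (normalizer ((W' : Subgroup M0) : Set M0)).index :=
        Sylow.card_eq_index_normalizer W'
      rw [hM0, ← h'', hn1] at h'
      omega
    -- so Q1 is normal
    haveI hQ1n : Q1.Normal := Subgroup.normalizer_eq_top_iff.1 hNtop
    set Z := zpowers (⟨y, hyM⟩ : M0) with hZ
    haveI : Z.Normal := ⟨by
      rintro _ ⟨i, rfl⟩ g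
      refine ⟨i, ?_⟩
      have hg : Commute g (⟨y, hyM⟩ : M0) := Subtype.ext (mem_centralizer_singleton_iff.1 g.2)
      rw [(hg.zpow_right i).eq, mul_inv_cancel_right]⟩
    have hZc : Nat.card Z = 5 := by rw [hZ, Nat.card_zpowers, Subgroup.orderOf_mk, hy5]
    set π := QuotientGroup.mk' Z
    set Qb := Q1.map π with hQb
    haveI : Qb.Normal := Subgroup.Normal.map hQ1n π (QuotientGroup.mk'_surjective Z)
    have hxq : (⟨(x' : G), hQgM ⟨x', hx'Q, rfl⟩⟩ : M0) ∈ Q1 := ⟨x', hx'Q, rfl⟩
    have hq400 : Nat.card (M0 ⧸ Z) = 400 := by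
      have h := Z.card_mul_index
      rw [Subgroup.index_eq_card, hZc, hM0] at h
      omega
    have hQb5 : Nat.card Qb = 5 := by
      have hle : Z ≤ Q1 := zpowers_le.2 ⟨x, hxQ, hxy⟩
      have h := (Qb.comap π).card_mul_index
      rw [Subgroup.index_comap_of_surjective _ (QuotientGroup.mk'_surjective Z),
        hQb, Subgroup.comap_map_eq, QuotientGroup.ker_mk', sup_eq_left.2 hle, hQ1c, hM0] at h
      have h2 := (Q1.map π).card_mul_index
      rw [hq400] at h2
      rw [hQb]
      nlinarith
    obtain ⟨⟨qb, hqb⟩, hqbo⟩ := exists_prime_orderOf_dvd_card' (G := Qb) 5 (by rw [hQb5])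
    rw [Subgroup.orderOf_mk] at hqbo
    have hgen : zpowers qb = Qb := Subgroup.eq_of_le_of_card_ge (zpowers_le.2 hqb) (by
      rw [Nat.card_zpowers, hqbo, hQb5])
    set C := centralizer ({qb} : Set (M0 ⧸ Z)) with hC
    haveI : C.Normal := by
      rw [hC, ← cen_zpowers, hgen]; infer_instance
    obtain ⟨e, he, hNe⟩ := card_normalizer (q := 5) hqbo
    rw [hgen, Subgroup.normalizer_eq_top_iff.2 inferInstance, Subgroup.card_top, hq400] at hNe
    -- the kernel has small 2-part
    have h8C : ¬ 8 ∣ Nat.card C := by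
      intro h8C
      set K := C.comap π with hK
      have hKc : 8 ∣ Nat.card K := by
        have h := K.card_mul_index
        rw [hK, Subgroup.index_comap_of_surjective _ (QuotientGroup.mk'_surjective Z), hM0] at h
        have h' := C.card_mul_index
        rw [hq400] at h'
        have hi : C.index ≠ 0 := Subgroup.index_ne_zero_of_finite
        have : Nat.card (C.comap π) = 5 * Nat.card C := by
          refine Nat.eq_of_mul_eq_mul_right (Nat.pos_of_ne_zero hi) ?_
          linarith
        rw [this]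
        exact h8C.mul_left 5
      obtain ⟨R, hR⟩ := Sylow.exists_subgroup_card_pow_prime 2 (n := 3) (G := K) (by norm_num; exact hKc)
      have hfix : ∀ r ∈ R, (r : M0) ∈ centralizer ({⟨(x' : G), hQgM ⟨x', hx'Q, rfl⟩⟩} : Set M0) := by
        intro r hr
        set q' : M0 := ⟨(x' : G), hQgM ⟨x', hx'Q, rfl⟩⟩
        have hπ : π (r : M0) * π q' = π q' * π (r : M0) := by
          have h1 : π q' ∈ Qb := ⟨q', hxq, rfl⟩
          rw [← hgen] at h1
          obtain ⟨i, hi⟩ := h1
          rw [← hi]
          exact ((show Commute (π (r : M0)) qb from mem_centralizer_singleton_iff.1 r.2).zpow_right i).eq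
        have hmem : (r : M0) * q' * (r : M0)⁻¹ * q'⁻¹ ∈ Z := by
          rw [← QuotientGroup.ker_mk' Z, MonoidHom.mem_ker, map_mul, map_mul, map_mul, map_inv, map_inv,
            hπ, mul_inv_cancel_right, mul_inv_cancel]
        obtain ⟨z, hzZ, hz⟩ : ∃ z ∈ Z, (r : M0) * q' * (r : M0)⁻¹ = z * q' := ⟨_, hmem, by group⟩
        have hzc : ∀ g : M0, Commute g z := by
          intro g
          obtain ⟨i, rfl⟩ := hzZ
          exact (show Commute g (⟨y, hyM⟩ : M0) from Subtype.ext
            (mem_centralizer_singleton_iff.1 g.2)).zpow_right i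
        have hn : ∀ n : ℕ, (r : M0) ^ n * q' * ((r : M0) ^ n)⁻¹ = z ^ n * q' := by
          intro n
          induction n with
          | zero => simp
          | succ n ih =>
            calc (r : M0) ^ (n + 1) * q' * ((r : M0) ^ (n + 1))⁻¹
                = (r : M0) * ((r : M0) ^ n * q' * ((r : M0) ^ n)⁻¹) * (r : M0)⁻¹ := by rw [pow_succ']; group
              _ = z ^ n * ((r : M0) * q' * (r : M0)⁻¹) := by
                  rw [ih, ← mul_assoc, ((hzc (r : M0)).pow_right n).eq]; group
              _ = z ^ (n + 1) * q' := by rw [hz, ← mul_assoc, pow_succ]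
        have hr8 : (r : M0) ^ 8 = 1 := by
          have h : (⟨r, hr⟩ : R) ^ 8 = 1 := by
            rw [← orderOf_dvd_iff_pow_eq_one, show (8 : ℕ) = Nat.card R by rw [hR]; norm_num]
            exact orderOf_dvd_natCard _
          exact congrArg (fun w : R => ((w : K) : M0)) h
        have h8' := hn 8
        rw [hr8] at h8'
        simp only [one_mul, inv_one, mul_one] at h8'
        have hz8 : z ^ 8 = 1 := mul_eq_right.1 h8'.symm
        have hz5 : z ^ 5 = 1 := by
          rw [← orderOf_dvd_iff_pow_eq_one, ← hZc, ← Subgroup.orderOf_mk z hzZ]; exact orderOf_dvd_natCard _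
        have hz1 : z = 1 := orderOf_eq_one_iff.1 (Nat.eq_one_of_dvd_coprimes (by norm_num : Nat.Coprime 8 5)
          (orderOf_dvd_of_pow_eq_one hz8) (orderOf_dvd_of_pow_eq_one hz5))
        rw [hz1, one_mul] at hz
        exact mem_centralizer_singleton_iff.2 (mul_inv_eq_iff_eq_mul.1 hz)
      obtain ⟨-, hdv, -⟩ := hval S.t (x' : G) S.ht (mem_centralizer_singleton_iff.1 x'.2)
        (fun e => hx'1 (Subtype.ext e)) (hQel Q x' hx'Q)
      rw [hax'] at hdv
      have h8x : 8 ∣ Nat.card (centralizer ({(x' : G)} : Set G)) := by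
        have hle : ((R.map K.subtype).map M0.subtype) ≤ centralizer ({(x' : G)} : Set G) := by
          rintro _ ⟨_, ⟨r, hr, rfl⟩, rfl⟩
          exact mem_centralizer_singleton_iff.2
            (congrArg Subtype.val (mem_centralizer_singleton_iff.1 (hfix r hr)))
        have h := Subgroup.card_dvd_of_le hle
        rwa [Subgroup.card_map_of_injective M0.subtype_injective,
          Subgroup.card_map_of_injective K.subtype_injective, hR, show (2 : ℕ) ^ 3 = 8 by norm_num] at h
      have := (Int.natCast_dvd_natCast.2 h8x).trans hdv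
      norm_num at this
    have hC100 : Nat.card C = 100 := by
      rw [hC] at h8C ⊢
      have he4 := Nat.le_of_dvd (by norm_num) he
      interval_cases e <;> norm_num at he <;> omega
    obtain ⟨T⟩ : Nonempty (Sylow 5 C) := inferInstance
    have hTc : Nat.card (T : Subgroup C) = 25 := by
      rw [T.card_eq_multiplicity, hC100, show (100 : ℕ) = 5 ^ 2 * 4 by norm_num,
        Nat.factorization_mul (by norm_num) (by norm_num), Finsupp.add_apply,
        Nat.Prime.factorization_pow (by norm_num), Finsupp.single_eq_same,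
        Nat.factorization_eq_zero_of_not_dvd (by norm_num)] <;> norm_num
    have hT1 : Nat.card (Sylow 5 C) = 1 := by
      have h := T.card_dvd_index
      have h' := (T : Subgroup C).card_mul_index
      rw [hTc, hC100] at h'
      rw [show (T : Subgroup C).index = 4 by omega] at h
      have hle := Nat.le_of_dvd (by norm_num) h
      have hmod : Nat.card (Sylow 5 C) % 5 = 1 := card_sylow_modEq_one 5 C
      exact one_of_dvd_eight (h.trans (by norm_num)) hmod
    haveI : Subsingleton (Sylow 5 C) := (Nat.card_eq_one_iff_unique.1 hT1).1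
    haveI := Sylow.characteristic_of_subsingleton T
    set Tb := (T : Subgroup C).map C.subtype
    haveI : Tb.Normal := inferInstance
    have hWb : Nat.card (Tb.comap π) = 5 ^ (Nat.card M0).factorization 5 := by
      rw [← W.card_eq_multiplicity, hWc]
      have h := (Tb.comap π).card_mul_index
      rw [Subgroup.index_comap_of_surjective _ (QuotientGroup.mk'_surjective Z), hM0] at h
      have h' := Tb.card_mul_index
      rw [Subgroup.card_map_of_injective C.subtype_injective, hTc, hq400] at h'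
      have : Tb.index = 16 := by omega
      rw [this] at h
      omega
    let W' : Sylow 5 M0 := Sylow.ofCard _ hWb
    haveI : (W' : Subgroup M0).Normal := by
      simp only [W', Sylow.coe_ofCard]; infer_instance
    have : Nat.card (Sylow 5 M0) = (normalizer ((W' : Subgroup M0) : Set M0)).index :=
      Sylow.card_eq_index_normalizer W'
    rw [Subgroup.normalizer_eq_top_iff.2 inferInstance, Subgroup.index_top, hn1] at this
    norm_num at this
  -- the quotient by y
  set Z := zpowers (⟨y, hyM⟩ : M0) with hZ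
  haveI : Z.Normal := ⟨by
    rintro _ ⟨i, rfl⟩ g
    refine ⟨i, ?_⟩
    have hg : Commute g (⟨y, hyM⟩ : M0) := Subtype.ext (mem_centralizer_singleton_iff.1 g.2)
    rw [(hg.zpow_right i).eq, mul_inv_cancel_right]⟩
  have hZc : Nat.card Z = 5 := by rw [hZ, Nat.card_zpowers, Subgroup.orderOf_mk, hy5]
  have hq400 : Nat.card (M0 ⧸ Z) = 400 := by
    have h := Z.card_mul_index
    rw [Subgroup.index_eq_card, hZc, hM0] at h
    omega
  set π := QuotientGroup.mk' Z
  have hZW : Z ≤ (W : Subgroup M0) := by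
    haveI := hWn
    have hp : IsPGroup 5 Z := IsPGroup.of_card (n := 1) (by rw [hZc, pow_one])
    obtain ⟨W', hW'⟩ := hp.exists_le_sylow
    haveI := Sylow.unique_of_normal W hWn
    rwa [Subsingleton.elim W' W] at hW'
  haveI hAn : ((W : Subgroup M0).map π).Normal :=
    Subgroup.Normal.map hWn π (QuotientGroup.mk'_surjective Z)
  have hA : Nat.card ((W : Subgroup M0).map π) = 25 := by
    have h := (((W : Subgroup M0).map π).comap π).card_mul_index
    rw [Subgroup.index_comap_of_surjective _ (QuotientGroup.mk'_surjective Z), Subgroup.comap_map_eq,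
      QuotientGroup.ker_mk', sup_eq_left.2 hZW, hWc, hM0] at h
    have h2 := ((W : Subgroup M0).map π).card_mul_index
    rw [hq400] at h2
    nlinarith
  have hA2 : Nat.card ((W : Subgroup M0).map π) = 5 ^ 2 := by rw [hA]; norm_num
  refine reflection_false hq400 hA (fun a ha b hb => congrArg Subtype.val
    (IsPGroup.commutative_of_card_eq_prime_sq hA2 ⟨a, ha⟩ ⟨b, hb⟩ :)) ?_
  intro v hv
  obtain ⟨g, rfl⟩ := QuotientGroup.mk'_surjective Z v
  have hg2 : g ^ 2 ∈ Z := by
    rw [← QuotientGroup.ker_mk' Z, MonoidHom.mem_ker, map_pow, ← hv, pow_orderOf_eq_one]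
  set u := g ^ 5 with hu'
  have hπu : π u = π g := by
    rw [hu', map_pow, show (5 : ℕ) = 2 * 2 + 1 by norm_num, pow_succ, pow_mul,
      orderOf_dvd_iff_pow_eq_one.1 hv.dvd, one_pow, one_mul]
  have hu : orderOf u = 2 := by
    refine orderOf_eq_prime ?_ fun e => ?_
    · rw [hu', ← pow_mul, mul_comm, pow_mul, ← orderOf_dvd_iff_pow_eq_one, ← hZc,
        ← Subgroup.orderOf_mk _ hg2]
      exact orderOf_dvd_natCard _
    · rw [e, map_one] at hπu
      rw [← hπu, orderOf_one] at hv
      norm_num at hv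
  rw [← hπu]
  -- the fixed points lift
  have hug : orderOf (u : G) = 2 := by rw [Subgroup.orderOf_coe, hu]
  set CW := (W : Subgroup M0) ⊓ centralizer ({u} : Set M0) with hCW
  have hCWc : Nat.card CW = 25 := by
    set Lu := centralizer ({(u : G)} : Set G)
    have hLu := hL _ hug
    have hn : Nat.card (Sylow 5 Lu) = 1 := by
      obtain ⟨c, hc⟩ := isConj_iff.1 (S.hconj _ hug)
      have hmap : L.map (MulAut.conj c).toMonoidHom = Lu := by
        refine Subgroup.eq_of_le_of_card_ge ?_ ?_
        · rintro _ ⟨l, hl, rfl⟩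
          have hl' : l * S.t = S.t * l := mem_centralizer_singleton_iff.1 hl
          refine mem_centralizer_singleton_iff.2 ?_
          rw [MulEquiv.coe_toMonoidHom, MulAut.conj_apply, ← hc]
          calc c * l * c⁻¹ * (c * S.t * c⁻¹) = c * (l * S.t) * c⁻¹ := by group
            _ = c * S.t * c⁻¹ * (c * l * c⁻¹) := by rw [hl']; group
        · rw [Subgroup.card_map_of_injective (MulAut.conj c).injective, hLc, hLu]
      let eL : L ≃* Lu := (L.equivMapOfInjective _ (MulAut.conj c).injective).trans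
        (MulEquiv.subgroupCongr hmap)
      obtain ⟨T⟩ : Nonempty (Sylow 5 Lu) := inferInstance
      have : Subsingleton (Sylow 5 Lu) := by
        refine ⟨fun A B => ?_⟩
        have key : ∀ D : Sylow 5 Lu, ∃ D' : Sylow 5 L,
            (D' : Subgroup L) = (D : Subgroup Lu).comap eL.toMonoidHom := by
          intro D
          refine ⟨Sylow.ofCard _ ?_, Sylow.coe_ofCard _ _⟩
          rw [Subgroup.comap_equiv_eq_map_symm', Subgroup.card_map_of_injective eL.symm.injective,
            D.card_eq_multiplicity, hLu, hLc]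
        obtain ⟨A', hA'⟩ := key A
        obtain ⟨B', hB'⟩ := key B
        rw [huniq A' B', hB'] at hA'
        exact Sylow.ext (Subgroup.comap_injective eL.surjective hA'.symm)
      exact Nat.card_eq_one_iff_unique.2 ⟨this, ⟨T⟩⟩
    haveI : Subsingleton (Sylow 5 Lu) := (Nat.card_eq_one_iff_unique.1 hn).1
    obtain ⟨T⟩ : Nonempty (Sylow 5 Lu) := inferInstance
    have hTc : Nat.card (T : Subgroup Lu) = 25 := by
      rw [T.card_eq_multiplicity, hLu, show (1600 : ℕ) = 5 ^ 2 * 64 by norm_num,
        Nat.factorization_mul (by norm_num) (by norm_num), Finsupp.add_apply,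
        Nat.Prime.factorization_pow (by norm_num), Finsupp.single_eq_same,
        Nat.factorization_eq_zero_of_not_dvd (by norm_num)] <;> norm_num
    have huy : Commute (u : G) y := mem_centralizer_singleton_iff.1 u.2
    have hyLu : y ∈ Lu := mem_centralizer_singleton_iff.2 huy.symm.eq
    have hyT : (⟨y, hyLu⟩ : Lu) ∈ (T : Subgroup Lu) := by
      have hp : IsPGroup 5 (zpowers (⟨y, hyLu⟩ : Lu)) := IsPGroup.of_card (n := 1) (by
        rw [Nat.card_zpowers, Subgroup.orderOf_mk, hy5, pow_one])
      obtain ⟨T', hT'⟩ := hp.exists_le_sylow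
      rw [Subsingleton.elim T T']
      exact hT' (mem_zpowers _)
    have hTM : (T : Subgroup Lu).map Lu.subtype ≤ M0 := by
      rintro _ ⟨w, hw, rfl⟩
      exact mem_centralizer_singleton_iff.2 (congrArg (fun z : (T : Subgroup Lu) => ((z : Lu) : G))
        (IsPGroup.commutative_of_card_eq_prime_sq (by rw [hTc]; norm_num : _ = 5 ^ 2)
          ⟨w, hw⟩ ⟨⟨y, hyLu⟩, hyT⟩))
    set T1 := ((T : Subgroup Lu).map Lu.subtype).subgroupOf M0 with hT1
    have hT1c : Nat.card T1 = 25 := by
      rw [hT1, Nat.card_congr (Subgroup.subgroupOfEquivOfLe hTM).toEquiv,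
        Subgroup.card_map_of_injective Lu.subtype_injective, hTc]
    have hle : T1 ≤ CW := by
      refine le_inf ?_ ?_
      · have hp : IsPGroup 5 T1 := IsPGroup.of_card (n := 2) (by rw [hT1c]; norm_num)
        obtain ⟨W', hW'⟩ := hp.exists_le_sylow
        haveI := Sylow.unique_of_normal W hWn
        rwa [Subsingleton.elim W' W] at hW'
      · intro w hw
        obtain ⟨z, -, hz⟩ := hw
        refine mem_centralizer_singleton_iff.2 (Subtype.ext ?_)
        show (w : G) * (u : G) = (u : G) * (w : G)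
        rw [← show ((z : Lu) : G) = (w : G) from hz]
        exact mem_centralizer_singleton_iff.1 z.2
    have h1 : Nat.card CW ∣ 125 := hWc ▸ Subgroup.card_dvd_of_le inf_le_left
    have h2 : Nat.card CW ∣ 1600 := by
      have h : CW.map M0.subtype ≤ Lu := by
        rintro _ ⟨w, hw, rfl⟩
        exact mem_centralizer_singleton_iff.2
          (congrArg Subtype.val (mem_centralizer_singleton_iff.1 hw.2))
      have h' := Subgroup.card_dvd_of_le h
      rwa [Subgroup.card_map_of_injective M0.subtype_injective, hLu] at h'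
    have h3 : Nat.card CW ∣ 25 := by simpa using Nat.dvd_gcd h1 h2
    exact Nat.dvd_antisymm h3 (hT1c ▸ Subgroup.card_dvd_of_le hle)
  have hmapCW : (W : Subgroup M0).map π ⊓ centralizer ({π u} : Set (M0 ⧸ Z)) = CW.map π := by
    refine le_antisymm ?_ ?_
    · rintro _ ⟨⟨w, hw, rfl⟩, hwc⟩
      refine ⟨w, ⟨hw, mem_centralizer_singleton_iff.2 ?_⟩, rfl⟩
      have h1 : π (u * w * u⁻¹ * w⁻¹) = 1 := by
        rw [map_mul, map_mul, map_mul, map_inv, map_inv,
          ← (mem_centralizer_singleton_iff.1 hwc), mul_inv_cancel_right, mul_inv_cancel]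
      rw [← MonoidHom.mem_ker, QuotientGroup.ker_mk'] at h1
      set z := u * w * u⁻¹ * w⁻¹ with hz
      have huw : u * w * u⁻¹ = z * w := by rw [hz]; group
      have hzu : Commute u z := by
        obtain ⟨i, hi⟩ := h1
        rw [← hi]
        exact (show Commute u (⟨y, hyM⟩ : M0) from Subtype.ext
          (mem_centralizer_singleton_iff.1 u.2)).zpow_right i
      have hu2 : u * u = 1 := by rw [← pow_two, ← hu, pow_orderOf_eq_one]
      have h2 : z * z = 1 := by
        have e : (u * u) * w * (u * u)⁻¹ = z * (z * w) := by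
          calc (u * u) * w * (u * u)⁻¹ = u * (u * w * u⁻¹) * u⁻¹ := by group
            _ = u * z * w * u⁻¹ := by rw [huw]; group
            _ = z * (u * w * u⁻¹) := by rw [hzu.eq]; group
            _ = z * (z * w) := by rw [huw]
        rw [hu2, inv_one, one_mul, mul_one, ← mul_assoc] at e
        exact mul_eq_right.1 e.symm
      have hz5 : z ^ 5 = 1 := by
        rw [← orderOf_dvd_iff_pow_eq_one, ← hZc, ← Subgroup.orderOf_mk z h1]; exact orderOf_dvd_natCard _
      have hz1 : z = 1 := by
        rw [show (5 : ℕ) = 2 * 2 + 1 by norm_num, pow_succ, pow_mul, pow_two z, h2, one_pow, one_mul] at hz5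
        exact hz5
      rw [hz1, one_mul] at huw
      exact (mul_inv_eq_iff_eq_mul.1 huw).symm
    · rintro _ ⟨w, hw, rfl⟩
      exact ⟨⟨w, hw.1, rfl⟩, mem_centralizer_singleton_iff.2 (by
        rw [← map_mul, ← map_mul, mem_centralizer_singleton_iff.1 hw.2])⟩
  rw [hmapCW]
  have hZCW : Z ≤ CW := zpowers_le.2 ⟨hZW (mem_zpowers _), mem_centralizer_singleton_iff.2
    (Subtype.ext (mem_centralizer_singleton_iff.1 u.2).symm)⟩
  have h := ((CW.map π).comap π).card_mul_index
  rw [Subgroup.index_comap_of_surjective _ (QuotientGroup.mk'_surjective Z), Subgroup.comap_map_eq,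
    QuotientGroup.ker_mk', sup_eq_left.2 hZCW, hCWc, hM0] at h
  have h2 := (CW.map π).card_mul_index
  rw [hq400] at h2
  nlinarith

end Cfsg.Agent.Block.OnePrime
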