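import Cfsg.Agent.Lib.Block.OnePrime.Twist
import Cfsg.Prelude.Def_CaseTheorems

/-!
Local consequences of `OnePrime.Setup`: centralizers of involutions, cyclic 2-subgroups, 2-rank.
-/

namespace Cfsg.Agent.Block.OnePrime

open Cfsg Cfsg.Agent.Char Subgroup

set_option linter.style.haveILetI false

universe u

variable {G : Type u} [Group G] [Finite G] (S : Setup G)

omit [Finite G] in
theorem centralizer_le_pow (g : G) (n : ℕ) :
    centralizer ({g} : Set G) ≤ centralizer ({g ^ n} : Set G) := fun x hx =>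
  mem_centralizer_singleton_iff.2 ((show Commute x g from mem_centralizer_singleton_iff.1 hx).pow_right n)

theorem Setup.t_ne_one : S.t ≠ 1 := fun e => by simpa [e] using S.ht

theorem Setup.cen_invol {u : G} (hu : orderOf u = 2) :
    Nat.card (centralizer ({u} : Set G)) = Nat.card (centralizer ({S.t} : Set G)) :=
  card_centralizer_conj (S.hconj u hu)

theorem Setup.not_dvd_cen_t : ¬ S.p ∣ Nat.card (centralizer ({S.t} : Set G)) :=
  S.cen_coprime _ S.t_ne_one fun h => by
    rw [S.ht] at h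
    have := Nat.le_of_dvd two_pos h
    have := S.hp5
    omega

/-- Elements centralizing an involution are `p`-regular. -/
theorem Setup.regular_of_commute {u g : G} (hu : orderOf u = 2) (hc : Commute g u) : ¬ S.p ∣ orderOf g := by
  intro h
  refine S.not_dvd_cen_t (h.trans ?_)
  rw [← S.cen_invol hu, ← Nat.card_zpowers]
  exact Subgroup.card_dvd_of_le (zpowers_le.2 (mem_centralizer_singleton_iff.2 hc))

/-- The bounds for an element centralizing an involution, given a bound for its centralizer. -/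
theorem Setup.bound {u g : G} (hu : orderOf u = 2) (hc : Commute g u) (hg : g ≠ 1) {M : ℕ} (hM : M ≠ 0)
    (h : Nat.card (centralizer ({g} : Set G)) ∣ M) :
    1 + S.a g ^ 2 + (((S.p - 1) / 2 : ℕ) : ℤ) * (1 + S.δ * S.a g) ^ 2 ≤ (M : ℤ) ∧
      1 + S.a g ^ 2 + (((S.p - 1) / 2 : ℕ) : ℤ) * (1 + S.δ * S.a g) ^ 2 ≤
        (Nat.card (centralizer ({g} : Set G)) : ℤ) ∧
      (Nat.card (centralizer ({g} : Set G)) : ℤ) ∣ S.r * ((S.d : ℤ) - S.a g) := by
  have h1 := S.norm_le g (S.regular_of_commute hu hc)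
  refine ⟨h1.trans ?_, h1, S.cen_dvd g hg (S.regular_of_commute hu hc)⟩
  exact_mod_cast Nat.le_of_dvd (Nat.pos_of_ne_zero hM) h

theorem Setup.orderOf_pow_half {w : G} {m : ℕ} (hw : orderOf w = 2 ^ (m + 1)) :
    orderOf (w ^ 2 ^ m) = 2 := by
  rw [orderOf_pow' _ (pow_ne_zero _ two_ne_zero), hw,
    Nat.gcd_eq_right (pow_dvd_pow 2 (Nat.le_succ m)), Nat.pow_div (Nat.le_succ m) two_pos,
    Nat.succ_sub (le_refl m), Nat.sub_self, pow_one]

theorem Setup.cen_dvd_t {w : G} {m : ℕ} (hw : orderOf w = 2 ^ (m + 1)) :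
    Nat.card (centralizer ({w} : Set G)) ∣ Nat.card (centralizer ({S.t} : Set G)) := by
  rw [← S.cen_invol (Setup.orderOf_pow_half hw)]
  exact Subgroup.card_dvd_of_le (centralizer_le_pow w _)

/-- The order of a cyclic 2-subgroup divides `d - χ(t)`. -/
theorem Setup.orderOf_dvd_sub {w : G} {m : ℕ} (hw : orderOf w = 2 ^ (m + 1)) :
    (2 : ℤ) ^ (m + 1) ∣ (S.d : ℤ) - S.a S.t := by
  have h := S.cyclic_dvd (w := w) (k := 1) (z := 1) (m := m) (by rw [← hw, pow_orderOf_eq_one])
    (one_pow 2) (by simp) (Commute.one_right _) (Commute.one_right _) (Commute.one_right _)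
  simp only [mul_one] at h
  rw [S.hd, S.a_invol (Setup.orderOf_pow_half hw)] at h
  obtain ⟨c, hc⟩ := h
  refine ⟨c, ?_⟩
  push_cast at hc
  linarith

/-- The dimension fixed by a cyclic 2-subgroup. -/
theorem Setup.fix_cyclic {w : G} {m : ℕ} (hw : orderOf w = 2 ^ (m + 1)) :
    2 * (S.fix (zpowers w) : ℤ) = S.fix (zpowers (w ^ 2)) + S.a w := by
  classical
  have key : ∀ {x : G} {n : ℕ}, orderOf x = n →
      ∑ i ∈ Finset.range n, S.a (x ^ i) = (n : ℤ) * S.fix (zpowers x) := by
    intro x n hx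
    haveI : Fintype (zpowers x) := Fintype.ofFinite _
    have h := S.sum_eq_card_mul_fix (zpowers x)
    rw [Nat.card_zpowers, hx] at h
    rw [← h, ← Fintype.sum_equiv (finEquivZPowers (isOfFinOrder_of_finite x))
      (fun i : Fin (orderOf x) => S.a (x ^ (i : ℕ))) _ (fun i => by rw [finEquivZPowers_apply]),
      Fin.sum_univ_eq_sum_range (fun i => S.a (x ^ i)), hx]
  have hw2 : orderOf (w ^ 2) = 2 ^ m := by
    rw [orderOf_pow' _ two_ne_zero, hw, Nat.gcd_eq_right (dvd_pow_self 2 m.succ_ne_zero), pow_succ,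
      Nat.mul_div_cancel _ two_pos]
  have h1 := key hw
  have h2 := key hw2
  have split : ∀ n : ℕ, ∑ i ∈ Finset.range (2 * n), S.a (w ^ i) =
      ∑ i ∈ Finset.range n, (S.a (w ^ (2 * i)) + S.a (w ^ (2 * i + 1))) := by
    intro n
    induction n with
    | zero => simp
    | succ n ih =>
      rw [show 2 * (n + 1) = 2 * n + 1 + 1 by ring, Finset.sum_range_succ, Finset.sum_range_succ, ih,
        Finset.sum_range_succ, add_assoc]
  have hodd : ∀ i, S.a (w ^ (2 * i + 1)) = S.a w := fun i => S.a_pow_coprime_order w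
    (hw ▸ Nat.Coprime.pow_right _ (Nat.coprime_two_right.2 ⟨i, rfl⟩))
  rw [pow_succ', split, Finset.sum_add_distrib] at h1
  simp only [hodd, pow_mul, Finset.sum_const, Finset.card_range, nsmul_eq_mul, h2] at h1
  push_cast at h1
  have h0 : ((2 : ℤ) ^ m) ≠ 0 := pow_ne_zero _ two_ne_zero
  have h3 : (2 : ℤ) ^ m * (2 * (S.fix (zpowers w) : ℤ)) =
      2 ^ m * ((S.fix (zpowers (w ^ 2)) : ℤ) + S.a w) := by linarith
  exact mul_left_cancel₀ h0 h3

theorem Setup.fix_involution {u : G} (hu : orderOf u = 2) :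
    2 * (S.fix (zpowers u) : ℤ) = S.d + S.a S.t := by
  have h := S.fix_prime Nat.prime_two hu
  rw [S.a_invol hu] at h
  push_cast at h
  linarith

/-- Elementary abelian subgroups: the fixed space bounds the order. -/
theorem Setup.sum_elem (A : Subgroup G) [Fintype A] (hA : ∀ a ∈ A, a ^ 2 = 1) :
    ∑ x : A, S.a x = (S.d : ℤ) + ((Nat.card A : ℤ) - 1) * S.a S.t := by
  classical
  have he : ∀ x ∈ Finset.univ.erase (1 : A), S.a (x : G) = S.a S.t := fun x hx =>
    S.a_invol (orderOf_eq_prime (hA x x.2) fun h => (Finset.mem_erase.1 hx).1 (Subtype.ext h))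
  rw [← Finset.add_sum_erase _ _ (Finset.mem_univ (1 : A)), Finset.sum_congr rfl he, Subgroup.coe_one, S.hd,
    Finset.sum_const, Finset.card_erase_of_mem (Finset.mem_univ _), Finset.card_univ,
    ← Nat.card_eq_fintype_card, nsmul_eq_mul, Nat.cast_sub Nat.card_pos, Nat.cast_one]

theorem Setup.rank_two (h : (S.d : ℤ) + 7 * S.a S.t < 0) : PRankLE 2 2 G := by
  intro A _ hA
  by_contra hlt
  haveI : Fact (Nat.Prime 2) := ⟨Nat.prime_two⟩
  haveI : Fintype A := Fintype.ofFinite A
  have h1 := S.sum_elem A hA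
  rw [S.sum_eq_card_mul_fix A] at h1
  have h2 : (8 : ℤ) ≤ Nat.card A := by
    have hp : IsPGroup 2 A := fun a => ⟨1, Subtype.ext (by simpa using hA (a : G) a.2)⟩
    obtain ⟨n, hn⟩ := IsPGroup.iff_card.1 hp
    rw [hn] at hlt ⊢
    have : 3 ≤ n := by
      by_contra h3
      exact hlt (Nat.pow_le_pow_right two_pos (by omega))
    exact_mod_cast (Nat.pow_le_pow_right two_pos this : 2 ^ 3 ≤ 2 ^ n)
  have h3 : (0 : ℤ) ≤ (Nat.card A : ℤ) * (S.fix A : ℤ) := by positivity
  nlinarith

/-- Parity and congruence of the value at the product with a commuting involution. -/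
theorem Setup.a_invol_mul {u y : G} (hu : orderOf u = 2) (hc : Commute u y) :
    S.a (u * y) ≡ S.a y [ZMOD 2] :=
  S.a_congr_mul (n := 1) Nat.prime_two hc (orderOf_dvd_iff_pow_eq_one.1 (by rw [hu, pow_one]))

/-- The centralizer of a product of commuting elements of coprime order. -/
theorem cen_mul {x y : G} (hc : Commute x y) (hco : (orderOf x).Coprime (orderOf y)) :
    centralizer ({x * y} : Set G) = centralizer ({x} : Set G) ⊓ centralizer ({y} : Set G) := by
  refine le_antisymm (le_inf ?_ ?_) fun g hg => mem_centralizer_singleton_iff.2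
    ((show Commute g x from mem_centralizer_singleton_iff.1 hg.1).mul_right
      (mem_centralizer_singleton_iff.1 hg.2))
  · obtain ⟨n, hn1, hn0⟩ := Nat.chineseRemainder hco 1 0
    convert centralizer_le_pow (x * y) n using 3
    rw [hc.mul_pow, pow_eq_pow_iff_modEq.2 hn1, pow_eq_pow_iff_modEq.2 hn0, pow_one, pow_zero, mul_one]
  · obtain ⟨n, hn0, hn1⟩ := Nat.chineseRemainder hco 0 1
    convert centralizer_le_pow (x * y) n using 3
    rw [hc.mul_pow, pow_eq_pow_iff_modEq.2 hn1, pow_eq_pow_iff_modEq.2 hn0, pow_one, pow_zero, one_mul]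

theorem two_part_eq {n e o : ℕ} (hn : n = 2 ^ e * o) (ho : Odd o) : 2 ^ n.factorization 2 = 2 ^ e := by
  have h0 : o ≠ 0 := by rintro rfl; exact Nat.not_odd_zero ho
  rw [hn, Nat.factorization_mul (pow_ne_zero _ two_ne_zero) h0, Finsupp.add_apply,
    Nat.prime_two.factorization_pow, Finsupp.single_eq_same,
    Nat.factorization_eq_zero_of_not_dvd (by rw [← even_iff_two_dvd]; exact Nat.not_even_iff_odd.2 ho),
    add_zero]

end Cfsg.Agent.Block.OnePrime
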