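import Cfsg.Agent.Lib.Block.OnePrime.Local
import Cfsg.Agent.S0516
import Cfsg.Agent.S1248

/-!
The rows of 2-rank two: `(d, p, r) = (49, 5, 36)` and `(50, 17, 288)`.
-/

namespace Cfsg.Agent.Block.OnePrime

open Cfsg Cfsg.Agent.Char Subgroup

set_option linter.style.haveILetI false

universe u

variable {G : Type u} [Group G] [Finite G] (S : Setup G)

/-- With 2-rank two a large Sylow 2-subgroup has a long cyclic subgroup or is wreathed. -/
theorem Setup.shapes [IsSimpleGroup G] (h : (S.d : ℤ) + 7 * S.a S.t < 0) {e o : ℕ}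
    (hcard : Nat.card G = 2 ^ (e + 1) * o) (ho : Odd o) (he : 64 < 2 ^ (e + 1)) :
    (2 : ℤ) ^ e ∣ (S.d : ℤ) - S.a S.t ∨
      ∃ n : ℕ, 2 ≤ n ∧ e = 2 * n ∧ ∃ x y : G, orderOf x = 2 ^ n ∧ orderOf y = 2 ^ n ∧ Commute x y ∧
        zpowers x ⊓ zpowers y = ⊥ := by
  haveI : Fact (Nat.Prime 2) := ⟨Nat.prime_two⟩
  obtain ⟨P⟩ : Nonempty (Sylow 2 G) := inferInstance
  have hP : Nat.card (P : Subgroup G) = 2 ^ (e + 1) := by
    rw [P.card_eq_multiplicity, two_part_eq hcard ho]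
  have hcyc : ∀ w : (P : Subgroup G), orderOf w = 2 ^ e → (2 : ℤ) ^ e ∣ (S.d : ℤ) - S.a S.t := by
    intro w hw
    rcases Nat.eq_zero_or_pos e with rfl | he0
    · simp
    obtain ⟨m, rfl⟩ : ∃ m, e = m + 1 := ⟨e - 1, by omega⟩
    exact S.orderOf_dvd_sub (w := (w : G)) (by rw [Subgroup.orderOf_coe, hw])
  haveI : Fintype (GaloisField 2 4) := Fintype.ofFinite _
  have hF : Fintype.card (GaloisField 2 4) = 16 := by
    rw [Fintype.card_eq_nat_card, GaloisField.card 2 4 (by norm_num)]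
    norm_num
  obtain ⟨Q⟩ : Nonempty (Sylow 2 (Cfsg.PSU 3 (GaloisField 2 4) 4)) := inferInstance
  rcases Cfsg.Agent.S0516.result S.hna (S.rank_two h) P hF Q with ⟨n, -, ⟨φ⟩⟩ | ⟨n, -, hn, x, y, hx, -⟩ |
    ⟨n, hn2, hn, x, y, z, hx, hxy, hd, -, hz⟩ | ⟨⟨φ⟩⟩
  · refine Or.inl (hcyc (φ.symm (DihedralGroup.r 1)) ?_)
    have h2 := Nat.card_congr φ.toEquiv
    rw [hP, DihedralGroup.nat_card] at h2
    rw [MulEquiv.orderOf_eq, DihedralGroup.orderOf_r_one]
    rw [pow_succ] at h2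
    omega
  · refine Or.inl (hcyc x ?_)
    rw [hP] at hn
    rw [hx, show n = e by have := Nat.pow_right_injective le_rfl hn; omega]
  · refine Or.inr ⟨n, hn2, ?_, x, y, by rw [Subgroup.orderOf_coe, hx], ?_, ?_, ?_⟩
    · rw [hP] at hn
      have := Nat.pow_right_injective le_rfl hn
      omega
    · rw [Subgroup.orderOf_coe, ← hz, ← MulAut.conj_apply, MulEquiv.orderOf_eq, hx]
    · exact congrArg Subtype.val hxy
    · rw [← Subgroup.coe_subtype, ← MonoidHom.map_zpowers, ← MonoidHom.map_zpowers,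
        ← Subgroup.map_inf _ _ _ (Subgroup.subtype_injective _), hd, Subgroup.map_bot]
  · exfalso
    have h2 := Nat.card_congr φ.toEquiv
    rw [hP, (Cfsg.Agent.S1248.result hF Q).1] at h2
    omega

theorem row49 [IsSimpleGroup G] (hd : S.d = 49) (hp : S.p = 5) (hr : S.r = 36) (hv : S.a S.t = -15) :
    False := by
  have hδ : S.δ = -1 := by
    rcases S.hδ with h | h
    · have := S.hdp
      rw [h, hp, hd] at this
      norm_num at this
    · exact h
  have hd0 : S.d0 = 48 := by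
    have := S.hd0
    rw [hδ, hd] at this
    omega
  have hcard : Nat.card G = 2 ^ (7 + 1) * 59535 := by rw [S.card, hp, hr, hd, hd0]; norm_num
  rcases S.shapes (by rw [hd, hv]; norm_num) hcard (by decide) (by norm_num) with h | ⟨n, -, hn, -⟩
  · rw [hd, hv] at h
    norm_num at h
  · omega

/-- The values on elements whose centralizer contains a group of order 1024 (row `d = 50`). -/
theorem row50_value (hd : S.d = 50) (hp : S.p = 17) (hr : S.r = 288) (hv : S.a S.t = -14) (hδ : S.δ = -1)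
    {Q : Subgroup G} (hQ : Nat.card Q = 1024) {w : G} (hwQ : ∀ q ∈ Q, Commute q w) {m : ℕ}
    (hw : orderOf w = 2 ^ (m + 1)) : S.a w = -14 ∨ S.a w = 18 := by
  have hu := Setup.orderOf_pow_half hw
  have hne : w ≠ 1 := by
    intro e
    rw [e, orderOf_one] at hw
    exact (Nat.one_lt_two_pow m.succ_ne_zero).ne' hw.symm
  have hC : Nat.card (centralizer ({S.t} : Set G)) = 18432 := by
    rw [S.cen_t_nat, hd, hr, hv]; rfl
  obtain ⟨h1, -, h3⟩ := S.bound hu ((Commute.refl w).pow_right _) hne (show 18432 ≠ 0 by norm_num)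
    (hC ▸ S.cen_dvd_t hw)
  have h4 : Nat.card Q ∣ Nat.card (centralizer ({w} : Set G)) :=
    Subgroup.card_dvd_of_le fun q hq => mem_centralizer_singleton_iff.2 (hwQ q hq)
  rw [hQ] at h4
  have h5 : (1024 : ℤ) ∣ S.r * ((S.d : ℤ) - S.a w) := (Int.natCast_dvd_natCast.2 h4).trans h3
  have hlt := S.lt w hne
  have hgt := S.neg_lt w
  rw [hd] at h5 hlt hgt
  rw [hr] at h5
  rw [hp, hδ] at h1
  norm_num at h1
  push_cast at h5 hlt hgt
  have h32 : (32 : ℤ) ∣ 50 - S.a w := by omega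
  obtain ⟨c, hc⟩ := h32
  have : c = 0 ∨ c = 1 ∨ c = 2 ∨ c = 3 := by omega
  rcases this with rfl | rfl | rfl | rfl
  · omega
  · omega
  · omega
  · rw [show S.a w = -46 by omega] at h1
    norm_num at h1

/-- The product of two cyclic subgroups meeting trivially. -/
theorem exists_pair {x y : G} (hxy : Commute x y) (h0 : zpowers x ⊓ zpowers y = ⊥) :
    ∃ Q : Subgroup G, Nat.card Q = orderOf x * orderOf y ∧ ∀ g, g ∈ Q ↔ ∃ i j : ℕ, g = x ^ i * y ^ j := by
  classical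
  have hcomm : ∀ {a b : G}, a ∈ zpowers x → b ∈ zpowers y → Commute a b := by
    rintro a b ⟨i, rfl⟩ ⟨j, rfl⟩
    exact hxy.zpow_zpow i j
  let φ : zpowers x × zpowers y →* G :=
    (zpowers x).subtype.noncommCoprod (zpowers y).subtype fun a b => hcomm a.2 b.2
  have hφ : Function.Injective φ := by
    rw [injective_iff_map_eq_one]
    rintro ⟨a, b⟩ hab
    change (a : G) * b = 1 at hab
    have ha : (a : G) ∈ zpowers x ⊓ zpowers y :=
      ⟨a.2, by rw [eq_inv_of_mul_eq_one_left hab]; exact (zpowers y).inv_mem b.2⟩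
    rw [h0, mem_bot] at ha
    rw [ha, one_mul] at hab
    exact Prod.ext (Subtype.ext ha) (Subtype.ext hab)
  refine ⟨φ.range, ?_, fun g => ⟨?_, ?_⟩⟩
  · rw [← Nat.card_congr (MonoidHom.ofInjective hφ).toEquiv, Nat.card_prod, Nat.card_zpowers,
      Nat.card_zpowers]
  · rintro ⟨⟨⟨a, ha⟩, ⟨b, hb⟩⟩, rfl⟩
    rw [← mem_powers_iff_mem_zpowers] at ha hb
    obtain ⟨i, rfl⟩ := ha
    obtain ⟨j, rfl⟩ := hb
    exact ⟨i, j, rfl⟩
  · rintro ⟨i, j, rfl⟩
    exact ⟨(⟨x ^ i, pow_mem (mem_zpowers x) i⟩, ⟨y ^ j, pow_mem (mem_zpowers y) j⟩), rfl⟩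

theorem row50 [IsSimpleGroup G] (hd : S.d = 50) (hp : S.p = 17) (hr : S.r = 288) (hv : S.a S.t = -14) :
    False := by
  have hδ : S.δ = -1 := by
    rcases S.hδ with h | h
    · have := S.hdp
      rw [h, hp, hd] at this
      norm_num at this
    · exact h
  have hd0 : S.d0 = 49 := by
    have := S.hd0
    rw [hδ, hd] at this
    omega
  have hcard : Nat.card G = 2 ^ (10 + 1) * 1686825 := by rw [S.card, hp, hr, hd, hd0]; norm_num
  rcases S.shapes (by rw [hd, hv]; norm_num) hcard (by decide) (by norm_num) with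
    h | ⟨n, -, hn, x, y, hx, hy, hxy, hxy0⟩
  · rw [hd, hv] at h
    norm_num at h
  obtain rfl : n = 5 := by omega
  -- the homocyclic group generated by `x` and `y`
  obtain ⟨Q, hQ, hQm⟩ := exists_pair hxy hxy0
  rw [hx, hy] at hQ
  have hval : ∀ {w : G}, w ∈ Q → ∀ {m : ℕ}, orderOf w = 2 ^ (m + 1) → S.a w = -14 ∨ S.a w = 18 := by
    intro w hw m hm
    refine row50_value S hd hp hr hv hδ (Q := Q) (by rw [hQ]; norm_num) ?_ hm
    intro q hq
    obtain ⟨i, j, rfl⟩ := (hQm q).1 hq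
    obtain ⟨i', j', rfl⟩ := (hQm w).1 hw
    exact (((Commute.refl x).pow_pow i i').mul_right (hxy.pow_pow i j')).mul_left
      ((hxy.symm.pow_pow j i').mul_right ((Commute.refl y).pow_pow j j'))
  -- squares of order four take the value 18
  have h4 : ∀ {h : G}, h ∈ Q → orderOf h = 8 → S.a (h ^ 2) = 18 := by
    intro h hh ho
    have ho2 : orderOf (h ^ 2) = 2 ^ (1 + 1) := by
      rw [orderOf_pow' _ two_ne_zero, ho]; norm_num
    rcases hval (pow_mem hh 2) ho2 with h' | h'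
    · exfalso
      have e1 := S.fix_cyclic ho2
      rw [h', ← pow_mul, show 2 * 2 = 4 by rfl] at e1
      have hu : orderOf (h ^ 4) = 2 := by rw [orderOf_pow' _ (by norm_num), ho]; norm_num
      have e0 := S.fix_involution hu
      have e2 := S.fix_cyclic (m := 2) (w := h) (by rw [ho]; norm_num)
      have e3 : (S.fix (zpowers h) : ℤ) ≤ S.fix (zpowers (h ^ 2)) := by
        exact_mod_cast S.fix_antitone (zpowers_le.2 (pow_mem (mem_zpowers h) 2))
      rw [hd, hv] at e0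
      have e4 : (0 : ℤ) ≤ S.fix (zpowers h) := Int.natCast_nonneg _
      rcases hval hh (m := 2) (by rw [ho]; norm_num) with h'' | h'' <;> rw [h''] at e2 <;>
        push_cast at e0 <;> omega
    · exact h'
  classical
  have hpair : ∀ k : ℕ, k ≠ 0 → zpowers (x ^ k) ⊓ zpowers (y ^ k) = ⊥ := fun k _ =>
    le_bot_iff.1 (hxy0 ▸ inf_le_inf (zpowers_le.2 (pow_mem (mem_zpowers x) k))
      (zpowers_le.2 (pow_mem (mem_zpowers y) k)))
  obtain ⟨K, hKc, hKm⟩ := exists_pair (hxy.pow_pow 8 8) (hpair 8 (by norm_num))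
  obtain ⟨E, hEc, hEm⟩ := exists_pair (hxy.pow_pow 16 16) (hpair 16 (by norm_num))
  have ho : ∀ {u : G}, orderOf u = 2 ^ 5 → orderOf (u ^ 8) = 4 ∧ orderOf (u ^ 16) = 2 := by
    intro u hu
    rw [orderOf_pow' _ (by norm_num), orderOf_pow' _ (by norm_num), hu]
    norm_num
  rw [(ho hx).1, (ho hy).1] at hKc
  rw [(ho hx).2, (ho hy).2] at hEc
  have hEK : E ≤ K := by
    intro g hg
    obtain ⟨i, j, rfl⟩ := (hEm g).1 hg
    exact (hKm _).2 ⟨2 * i, 2 * j, by simp [← pow_mul]; ring_nf⟩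
  have hEel : ∀ g ∈ E, g ^ 2 = 1 := by
    intro g hg
    obtain ⟨i, j, rfl⟩ := (hEm g).1 hg
    rw [((hxy.pow_pow 16 16).pow_pow i j).mul_pow, ← pow_mul, mul_comm i, pow_mul, ← pow_mul _ j, mul_comm j,
      pow_mul, orderOf_dvd_iff_pow_eq_one.1 (ho hx).2.dvd, orderOf_dvd_iff_pow_eq_one.1 (ho hy).2.dvd,
      one_pow, one_pow, one_mul]
  haveI : Fintype E := Fintype.ofFinite E
  haveI : Fintype K := Fintype.ofFinite K
  have hfE := S.sum_elem E hEel
  rw [S.sum_eq_card_mul_fix E, hEc, hd, hv] at hfE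
  have hmono : S.fix K ≤ S.fix E := S.fix_antitone hEK
  -- every element of `K` outside `E` has value 18
  have hval18 : ∀ g ∈ K, g ∉ E → S.a g = 18 := by
    intro g hg hgE
    obtain ⟨i, j, rfl⟩ := (hKm g).1 hg
    have h2 : (x ^ (4 * i) * y ^ (4 * j)) ^ 2 = (x ^ 8) ^ i * (y ^ 8) ^ j := by
      rw [(hxy.pow_pow _ _).mul_pow, ← pow_mul, ← pow_mul, ← pow_mul, ← pow_mul]
      ring_nf
    rw [← h2]
    refine h4 ((hQm _).2 ⟨4 * i, 4 * j, rfl⟩) ?_
    rw [show (8 : ℕ) = 2 ^ (2 + 1) by norm_num]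
    refine orderOf_eq_prime_pow ?_ ?_
    · intro e
      refine hgE ?_
      rw [(hxy.pow_pow _ _).mul_pow, ← pow_mul, ← pow_mul] at e
      have hxi : x ^ (4 * i * 2 ^ 2) ∈ zpowers x ⊓ zpowers y :=
        ⟨pow_mem (mem_zpowers x) _, by
          rw [eq_inv_of_mul_eq_one_left e]; exact (zpowers y).inv_mem (pow_mem (mem_zpowers y) _)⟩
      rw [hxy0, mem_bot] at hxi
      rw [hxi, one_mul] at e
      have hi := orderOf_dvd_of_pow_eq_one hxi
      have hj := orderOf_dvd_of_pow_eq_one e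
      rw [hx] at hi
      rw [hy] at hj
      obtain ⟨i', rfl⟩ : 2 ∣ i := by omega
      obtain ⟨j', rfl⟩ : 2 ∣ j := by omega
      exact (hEm _).2 ⟨i', j', by rw [← pow_mul, ← pow_mul, ← pow_mul, ← pow_mul]; ring_nf⟩
    · rw [(hxy.pow_pow _ _).mul_pow, ← pow_mul, ← pow_mul,
        orderOf_dvd_iff_pow_eq_one.1 (show orderOf x ∣ 4 * i * 2 ^ (2 + 1) from hx ▸ ⟨i, by ring⟩),
        orderOf_dvd_iff_pow_eq_one.1 (show orderOf y ∣ 4 * j * 2 ^ (2 + 1) from hy ▸ ⟨j, by ring⟩), one_mul]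
  have hsum : ∑ g : K, S.a (g : G) = ∑ g : E, S.a (g : G) + 12 * 18 := by
    have hf : (Finset.univ.filter fun g : K => (g : G) ∈ E).card = 4 := by
      rw [show (4 : ℕ) = Nat.card E from hEc.symm, Nat.card_eq_fintype_card, ← Finset.card_univ (α := E)]
      exact Finset.card_bij (fun g h => ⟨(g : G), (Finset.mem_filter.1 h).2⟩) (fun _ _ => Finset.mem_univ _)
        (fun _ _ _ _ h => Subtype.ext (congrArg (fun z : E => (z : G)) h))
        fun g _ => ⟨⟨g, hEK g.2⟩, Finset.mem_filter.2 ⟨Finset.mem_univ _, g.2⟩, rfl⟩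
    have hf' : (Finset.univ.filter fun g : K => ¬ (g : G) ∈ E).card = 12 := by
      have h := Finset.card_filter_add_card_filter_not (s := (Finset.univ : Finset K))
        (fun g : K => (g : G) ∈ E)
      rw [hf, Finset.card_univ, ← Nat.card_eq_fintype_card, hKc] at h
      omega
    have he : ∀ g ∈ Finset.univ.filter (fun g : K => ¬ (g : G) ∈ E), S.a (g : G) = 18 := fun g hg =>
      hval18 g g.2 (Finset.mem_filter.1 hg).2
    rw [← Finset.sum_filter_add_sum_filter_not Finset.univ (fun g : K => (g : G) ∈ E),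
      Finset.sum_congr rfl he, Finset.sum_const, hf']
    congr 1
    exact Finset.sum_bij (fun g h => ⟨(g : G), (Finset.mem_filter.1 h).2⟩) (fun _ _ => Finset.mem_univ _)
      (fun _ _ _ _ h => Subtype.ext (congrArg (fun z : E => (z : G)) h))
      (fun g _ => ⟨⟨g, hEK g.2⟩, Finset.mem_filter.2 ⟨Finset.mem_univ _, g.2⟩, rfl⟩) fun _ _ => rfl
  rw [S.sum_eq_card_mul_fix K, S.sum_eq_card_mul_fix E, hKc, hEc] at hsum
  omega

end Cfsg.Agent.Block.OnePrime
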