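import Cfsg.Agent.Lib.Block.OnePrime.Minus

/-!
The row `(d, p, r) = (125, 31, 2016)`: a central element of order seven and a group of order 16 commuting with it.
-/

namespace Cfsg.Agent.Block.OnePrime

open Cfsg Cfsg.Agent.Char Subgroup

set_option linter.style.haveILetI false

universe u

variable {G : Type u} [Group G] [Finite G] (S : Setup G)

/-- The possible values `χ(k z)` for an involution `k` commuting with a central element `z` of order 7. -/
theorem row125_value (hd : S.d = 125) (hp : S.p = 31) (hr : S.r = 2016) (hv : S.a S.t = 61) (hδ : S.δ = 1)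
    {z : G} (hz : orderOf z = 7) {c : ℕ} (hc : Nat.card (centralizer ({z} : Set G)) ∣ c)
    {k : G} (hk : orderOf k = 2) (hkz : Commute k z) :
    S.a (k * z) ≡ 5 [ZMOD 7] ∧ S.a (k * z) ≡ S.a z [ZMOD 2] ∧
      1 + S.a (k * z) ^ 2 + 15 * (1 + S.a (k * z)) ^ 2 ≤ (Nat.gcd 129024 c : ℤ) ∧
      1 + S.a (k * z) ^ 2 + 15 * (1 + S.a (k * z)) ^ 2 ≤
        (Nat.card ↥(centralizer ({k} : Set G) ⊓ centralizer ({z} : Set G)) : ℤ) ∧
      Nat.card ↥(centralizer ({k} : Set G) ⊓ centralizer ({z} : Set G)) ∣ Nat.gcd 129024 c := by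
  have hC : Nat.card (centralizer ({S.t} : Set G)) = 129024 := by
    rw [S.cen_t_nat, hd, hr, hv]; rfl
  have hcen : centralizer ({k * z} : Set G) = centralizer ({k} : Set G) ⊓ centralizer ({z} : Set G) :=
    cen_mul hkz (by rw [hk, hz]; norm_num)
  have hdvd : Nat.card ↥(centralizer ({k} : Set G) ⊓ centralizer ({z} : Set G)) ∣ Nat.gcd 129024 c :=
    Nat.dvd_gcd ((Subgroup.card_dvd_of_le inf_le_left).trans (by rw [S.cen_invol hk, hC]))
      ((Subgroup.card_dvd_of_le inf_le_right).trans hc)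
  have hne : k * z ≠ 1 := by
    intro e
    rw [eq_inv_of_mul_eq_one_left e, orderOf_inv, hz] at hk
    norm_num at hk
  obtain ⟨h1, h2, -⟩ := S.bound hk ((Commute.refl k).mul_left hkz.symm) hne
    (Nat.gcd_ne_zero_left (by norm_num)) (hcen ▸ hdvd)
  rw [hp, hδ, one_mul] at h1 h2
  rw [hcen] at h2
  norm_num at h1 h2
  have h7 := S.a_congr_mul (q := 7) (n := 1) (by norm_num) hkz.symm (by rw [pow_one, ← hz, pow_orderOf_eq_one])
  rw [← hkz.eq, S.a_invol hk, hv] at h7
  exact ⟨h7.trans (by decide), S.a_invol_mul hk hkz, h1, h2, hdvd⟩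

/-- A suitable element of order 7. -/
theorem row125_seven (hd : S.d = 125) (hp : S.p = 31) (hr : S.r = 2016) (hv : S.a S.t = 61) (hδ : S.δ = 1) :
    ∃ z k : G, orderOf z = 7 ∧ orderOf k = 2 ∧ Commute k z ∧ S.a z = 27 ∧
      Nat.card (centralizer ({z} : Set G)) ∣ 197568 := by
  have hd0 : S.d0 = 126 := by
    have := S.hd0
    rw [hδ, hd] at this
    omega
  have hcard : Nat.card G = 7 ^ 3 * (2 ^ 11 * 3 ^ 6 * 5 ^ 3 * 31) := by
    rw [S.card, hp, hr, hd, hd0]; norm_num
  obtain ⟨z, hz, hz3⟩ := exists_central (H := G) (q := 7) (by norm_num)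
    (hcard ▸ dvd_mul_of_dvd_left (dvd_pow_self 7 three_ne_zero) _)
  have h343 : 7 ^ 3 ∣ Nat.card (centralizer ({z} : Set G)) := by
    refine dvd_trans (pow_dvd_pow 7 ?_) hz3
    exact (Nat.Prime.pow_dvd_iff_le_factorization (by norm_num) Nat.card_pos.ne').1 ⟨_, hcard⟩
  have hne : z ≠ 1 := by rintro rfl; simp at hz
  have hreg : ¬ S.p ∣ orderOf z := by rw [hz, hp]; norm_num
  have hc := S.cen_dvd z hne hreg
  have hn := S.norm_le z hreg
  have hlt := S.lt z hne
  have hfix := S.fix_prime (q := 7) (by norm_num) hz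
  rw [hr, hd] at hc
  rw [hp, hδ, one_mul] at hn
  rw [hd] at hlt hfix
  norm_num at hn
  push_cast at hc hlt hfix
  have h49 : (49 : ℤ) ∣ 125 - S.a z := by
    have h := ((Int.natCast_dvd_natCast.2 h343)).trans hc
    push_cast at h
    omega
  have hF : (0 : ℤ) ≤ S.fix (zpowers z) := Int.natCast_nonneg _
  have hcases : S.a z = 27 ∨ S.a z = 76 := by omega
  set c := Nat.card (centralizer ({z} : Set G))
  have hdvd : (S.a z = 27 ∧ c ∣ 197568) ∨ (S.a z = 76 ∧ c ∣ 98784) := by
    rcases hcases with h | h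
    · refine Or.inl ⟨h, ?_⟩
      rw [h] at hc
      norm_num at hc
      exact_mod_cast hc
    · refine Or.inr ⟨h, ?_⟩
      rw [h] at hc
      norm_num at hc
      exact_mod_cast hc
  have heven : 2 ∣ c := by
    by_contra hodd
    have hcop : Nat.Coprime c (2 ^ 6) :=
      Nat.Coprime.pow_right _ (Nat.coprime_two_right.2 (Nat.not_even_iff_odd.1 (fun h => hodd (even_iff_two_dvd.1 h))))
    have h0 : c ∣ 197568 := hdvd.elim (fun h => h.2) (fun h => h.2.trans (by norm_num))
    have h1 : c ∣ 3087 := hcop.dvd_of_dvd_mul_left (by norm_num; exact h0)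
    have h2 := Nat.le_of_dvd (by norm_num) h1
    have h3 : (c : ℤ) ≤ 3087 := Int.ofNat_le.2 h2
    rcases hdvd with ⟨h, -⟩ | ⟨h, -⟩ <;> rw [h] at hn <;> norm_num at hn <;> linarith
  haveI : Fact (Nat.Prime 2) := ⟨Nat.prime_two⟩
  obtain ⟨⟨k, hkC⟩, hk⟩ := exists_prime_orderOf_dvd_card' 2 heven
  rw [Subgroup.orderOf_mk] at hk
  have hkz : Commute k z := mem_centralizer_singleton_iff.1 hkC
  rcases hdvd with ⟨h, hdvd⟩ | ⟨h, hdvd⟩
  · exact ⟨z, k, hz, hk, hkz, h, hdvd⟩
  · exfalso
    obtain ⟨h7, h2, hb, -, -⟩ := row125_value S hd hp hr hv hδ hz (c := 98784) hdvd hk hkz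
    rw [h] at h2
    norm_num at hb
    have hlo : -12 ≤ S.a (k * z) ∧ S.a (k * z) ≤ 11 := by constructor <;> nlinarith
    obtain ⟨hlo, hhi⟩ := hlo
    have hm : S.a (k * z) = -2 := by
      simp only [Int.ModEq] at h7 h2
      omega
    have hle := S.abs_minus_le hk hkz.symm
    have e1 := S.two_mul_minus hk hkz.symm
    rw [h, ← hkz.eq, hm] at e1
    have e2 := S.minus_one hk
    rw [hd, hv] at e2
    push_cast at e2
    rw [show S.minus k z = 39 by omega, show S.minus k 1 = 32 by omega] at hle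
    norm_num at hle

theorem row125 [IsSimpleGroup G] (hd : S.d = 125) (hp : S.p = 31) (hr : S.r = 2016) (hv : S.a S.t = 61) :
    False := by
  have hδ : S.δ = 1 := by
    rcases S.hδ with h | h
    · exact h
    · have := S.hdp
      rw [h, hp, hd] at this
      norm_num at this
  obtain ⟨z, k₀, hz, hk₀, hk₀z, haz, hcz⟩ := row125_seven S hd hp hr hv hδ
  have hval : ∀ k : G, orderOf k = 2 → Commute k z → S.a (k * z) = -9 ∨ S.a (k * z) = 5 := by
    intro k hk hkz
    obtain ⟨h7, h2, hb, -, -⟩ := row125_value S hd hp hr hv hδ hz (c := 197568) hcz hk hkz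
    rw [haz] at h2
    norm_num at hb
    have hlo : -17 ≤ S.a (k * z) ∧ S.a (k * z) ≤ 15 := by constructor <;> nlinarith
    obtain ⟨hlo, hhi⟩ := hlo
    simp only [Int.ModEq] at h7 h2
    omega
  obtain ⟨-, -, -, hX, hX'⟩ := row125_value S hd hp hr hv hδ hz (c := 197568) hcz hk₀ hk₀z
  norm_num at hX'
  haveI : Fact (Nat.Prime 2) := ⟨Nat.prime_two⟩
  set D := centralizer ({k₀} : Set G) ⊓ centralizer ({z} : Set G) with hD
  have h16 : 2 ^ 4 ∣ Nat.card D := by
    by_contra hno
    obtain ⟨j, o, hodd, hj⟩ := Nat.exists_eq_two_pow_mul_odd (n := Nat.card D) Nat.card_pos.ne'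
    have hj3 : j ≤ 3 := by
      by_contra h
      exact hno (hj ▸ (pow_dvd_pow 2 (by omega : 4 ≤ j)).trans (dvd_mul_right _ _))
    have ho : o ∣ 63 := by
      refine (Nat.Coprime.pow_right 6 (Nat.coprime_two_right.2 hodd)).dvd_of_dvd_mul_left ?_
      exact (Dvd.intro_left _ hj.symm).trans (hX'.trans (by norm_num))
    have : Nat.card D ≤ 504 := by
      rw [hj]
      calc 2 ^ j * o ≤ 2 ^ 3 * 63 :=
            Nat.mul_le_mul (Nat.pow_le_pow_right two_pos hj3) (Nat.le_of_dvd (by norm_num) ho)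
        _ = 504 := by norm_num
    have : (Nat.card D : ℤ) ≤ 504 := by exact_mod_cast this
    rcases hval k₀ hk₀ hk₀z with h | h <;> rw [h] at hX <;> norm_num at hX <;> omega
  have hkD : k₀ ∈ D := ⟨mem_centralizer_singleton_iff.2 rfl, mem_centralizer_singleton_iff.2 hk₀z⟩
  obtain ⟨T, hT, hkT⟩ := Sylow.exists_subgroup_card_pow_prime_le 2 h16 (zpowers (⟨k₀, hkD⟩ : D))
    (n := 1) (by rw [Nat.card_zpowers, Subgroup.orderOf_mk, hk₀, pow_one]) (by norm_num)
  set U := T.map D.subtype with hU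
  have hUc : Nat.card U = 16 := by
    rw [hU, Subgroup.card_map_of_injective D.subtype_injective, hT]; norm_num
  have hkU : k₀ ∈ U := ⟨⟨k₀, hkD⟩, hkT (mem_zpowers _), rfl⟩
  have hUD : U ≤ D := Subgroup.map_subtype_le T
  have hUk : ∀ w ∈ U, Commute w k₀ := fun w hw => mem_centralizer_singleton_iff.1 (hUD hw).1
  have hUz : ∀ w ∈ U, Commute w z := fun w hw => mem_centralizer_singleton_iff.1 (hUD hw).2
  have hz7 : Odd (orderOf z) := by rw [hz]; decide
  have hk2 : k₀ ^ 2 = 1 := hk₀ ▸ pow_orderOf_eq_one k₀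
  set b := S.a (k₀ * z) with hb
  have hb0 : b = -9 ∨ b = 5 := hval k₀ hk₀ hk₀z
  have hUp : IsPGroup 2 U := IsPGroup.of_card (n := 4) (by rw [hUc]; norm_num)
  -- four-groups
  have hfour : ∀ e ∈ U, orderOf e = 2 → e ≠ k₀ →
      (b = 5 ∧ S.a (e * z) + S.a (e * k₀ * z) = -4) ∨ (b = -9 ∧ S.a (e * z) = S.a (e * k₀ * z)) := by
    intro e he ho hne
    have h := S.cyclic_dvd (w := e) (k := k₀) (z := z) (m := 0)
      (by rw [zero_add, pow_one, ← ho, pow_orderOf_eq_one]) hk2 hz7 (hUk e he) (hUz e he) hk₀z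
    simp only [pow_zero, pow_one, zero_add] at h
    rw [haz, ← hb] at h
    push_cast at h
    have hek : orderOf (e * k₀) = 2 := orderOf_eq_prime (by
      rw [(hUk e he).mul_pow, hk2, mul_one, ← ho, pow_orderOf_eq_one]) fun h' => hne (by
      rw [eq_inv_of_mul_eq_one_left h', inv_eq_of_mul_eq_one_right (by rw [← pow_two, hk2])])
    rcases hval e ho (hUz e he) with h1 | h1 <;>
      rcases hval _ hek ((hUz e he).mul_left hk₀z) with h2 | h2 <;>
      rw [h1, h2] at h ⊢ <;> rcases hb0 with h3 | h3 <;> rw [h3] at h ⊢ <;> omega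
  -- elements of order at least four
  have hbig : ∀ w ∈ U, ∀ m : ℕ, orderOf w = 2 ^ (m + 2) → b = -9 ∧ w ^ 2 ^ (m + 1) = k₀ := by
    intro w hw m ho
    set v := w ^ 2 ^ m with hv'
    have hv4 : orderOf v = 2 ^ (1 + 1) := by
      rw [hv', orderOf_pow' _ (pow_ne_zero _ two_ne_zero), ho,
        Nat.gcd_eq_right (pow_dvd_pow 2 (by omega : m ≤ m + 2)), Nat.pow_div (by omega) two_pos,
        Nat.add_sub_cancel_left]
    have hvv : v ^ 2 ^ 1 = w ^ 2 ^ (m + 1) := by rw [hv', ← pow_mul, ← pow_add]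
    have hvU : v ∈ U := pow_mem hw _
    have hu := Setup.orderOf_pow_half hv4
    have h1 := S.cyclic_dvd (w := v) (k := 1) (z := z) (m := 1)
      (by rw [← hv4, pow_orderOf_eq_one]) (one_pow 2) hz7 (Commute.one_right _) (hUz v hvU) (Commute.one_left _)
    have h2 := S.cyclic_dvd (w := v) (k := k₀) (z := z) (m := 1)
      (by rw [← hv4, pow_orderOf_eq_one]) hk2 hz7 (hUk v hvU) (hUz v hvU) hk₀z
    simp only [mul_one, one_mul] at h1
    rw [hvv] at h1 h2 hu
    rw [haz] at h1 h2
    rw [← hb] at h2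
    push_cast at h1 h2
    by_cases hcase : w ^ 2 ^ (m + 1) = k₀
    · refine ⟨?_, hcase⟩
      rw [hcase, ← hb] at h1
      rcases hb0 with h | h <;> rw [h] at h1 ⊢ <;> omega
    · exfalso
      rcases hval _ hu ((hUz w hw).pow_left _) with h | h <;> rw [h] at h1 h2
      · rcases hfour _ (pow_mem hw _) hu hcase with ⟨h5, hs⟩ | ⟨h5, hs⟩ <;> rw [h] at hs <;>
          rw [h5] at h2 <;> omega
      · omega
  classical
  haveI : Fintype U := Fintype.ofFinite U
  rcases hb0 with h9 | h5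
  · have hzero : ∀ w ∈ U, w ≠ 1 → w ≠ k₀ → S.minus k₀ (w * z) = 0 := by
      intro w hw h1 hk
      have e := S.two_mul_minus hk₀ (g := w * z) ((hUk w hw).mul_left hk₀z.symm)
      obtain ⟨j, hj⟩ := (IsPGroup.iff_orderOf.1 hUp) ⟨w, hw⟩
      rw [Subgroup.orderOf_mk] at hj
      have key : S.a (w * k₀ * z) = S.a (w * z) := by
        match j, hj with
        | 0, hj => exact absurd (orderOf_eq_one_iff.1 (by simpa using hj)) h1
        | 1, hj =>
          rcases hfour w hw (by simpa using hj) hk with ⟨h5, -⟩ | ⟨-, hs⟩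
          · omega
          · exact hs.symm
        | m + 2, hj =>
          obtain ⟨-, hu⟩ := hbig w hw m hj
          have h' := S.a_shift (w := w) (k := 1) (z := z) (m := m + 1) (j := 1) (by rw [← hj, pow_orderOf_eq_one])
            (one_pow 2) hz7 (Commute.one_right _) (hUz w hw) (Commute.one_left _) one_ne_zero
            (Nat.one_lt_two_pow m.succ_ne_zero)
          rwa [mul_one, mul_one, pow_add, pow_one, hu] at h'
      rw [mul_assoc w z, ← hk₀z.eq, ← mul_assoc, key, sub_self] at e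
      omega
    have hdvd := S.minus_sq_coset_dvd hk₀ U (fun w hw => (hUD hw).1) hk₀z.symm hUz
    have h18 : S.minus k₀ z = 18 := by
      have e := S.two_mul_minus hk₀ hk₀z.symm
      rw [← hk₀z.eq, haz, ← hb, h9] at e
      omega
    have h18' : S.minus k₀ (k₀ * z) = -18 := by
      have e := S.two_mul_minus hk₀ (g := k₀ * z) ((Commute.refl k₀).mul_left hk₀z.symm)
      rw [mul_assoc k₀ z, ← hk₀z.eq, ← mul_assoc, ← pow_two, hk2, one_mul, haz, ← hb, h9] at e
      omega
    have hk1 : (⟨k₀, hkU⟩ : U) ≠ 1 := fun e => by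
      have := congrArg Subtype.val e
      simp only [Subgroup.coe_one] at this
      rw [this, orderOf_one] at hk₀
      norm_num at hk₀
    have hsum : ∑ w : U, S.minus k₀ ((w : G) * z) ^ 2 = 648 := by
      rw [Finset.sum_eq_add (1 : U) ⟨k₀, hkU⟩ (Ne.symm hk1)
        (fun c _ hc => by
          rw [hzero c c.2 (fun e => hc.1 (Subtype.ext e)) (fun e => hc.2 (Subtype.ext e)), zero_pow two_ne_zero])
        (fun h => absurd (Finset.mem_univ _) h) (fun h => absurd (Finset.mem_univ _) h),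
        Subgroup.coe_one, one_mul, h18, h18']
      norm_num
    rw [hsum, hUc] at hdvd
    norm_num at hdvd
  · have hsq : ∀ w ∈ U, w ^ 2 = 1 := by
      intro w hw
      obtain ⟨j, hj⟩ := (IsPGroup.iff_orderOf.1 hUp) ⟨w, hw⟩
      rw [Subgroup.orderOf_mk] at hj
      match j, hj with
      | 0, hj => rw [orderOf_eq_one_iff.1 (show orderOf w = 1 by simpa using hj), one_pow]
      | 1, hj => rw [← show orderOf w = 2 by simpa using hj, pow_orderOf_eq_one]
      | m + 2, hj => have := (hbig w hw m hj).1; omega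
    have hdvd := S.a_coset_dvd U hUz
    set k : U := ⟨k₀, hkU⟩ with hk
    have hk1 : k ≠ 1 := fun e => by
      have := congrArg Subtype.val e
      simp only [hk, Subgroup.coe_one] at this
      rw [this, orderOf_one] at hk₀
      norm_num at hk₀
    have hkk : k * k = 1 := Subtype.ext (by simp [hk, ← pow_two, hk2])
    have h2 : 2 * ∑ w : U, S.a ((w : G) * z) = 8 := by
      have hperm : ∑ w : U, S.a ((w : G) * z) = ∑ w : U, S.a (((w * k : U) : G) * z) :=
        (Equiv.sum_comp (Equiv.mulRight k) (fun w : U => S.a ((w : G) * z))).symm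
      rw [two_mul]
      conv_lhs => arg 2; rw [hperm]
      rw [← Finset.sum_add_distrib, ← Finset.sum_add_sum_compl ({1, k} : Finset U),
        Finset.sum_pair (Ne.symm hk1)]
      have hrest : ∀ w ∈ ({1, k} : Finset U)ᶜ, S.a ((w : G) * z) + S.a (((w * k : U) : G) * z) = -4 := by
        intro w hw
        simp only [Finset.mem_compl, Finset.mem_insert, Finset.mem_singleton, not_or] at hw
        have ho : orderOf (w : G) = 2 := orderOf_eq_prime (hsq _ w.2) fun e => hw.1 (Subtype.ext e)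
        rcases hfour w w.2 ho (fun e => hw.2 (Subtype.ext e)) with ⟨-, hs⟩ | ⟨h', -⟩
        · simpa [hk] using hs
        · omega
      rw [Finset.sum_congr rfl hrest, Finset.sum_const, Finset.card_compl, Finset.card_pair (Ne.symm hk1),
        ← Nat.card_eq_fintype_card, hUc]
      rw [hkk, one_mul, Subgroup.coe_one, one_mul, haz, show ((k : G)) = k₀ from rfl, ← hb, h5]
      norm_num
    rw [hUc] at hdvd
    omega

end Cfsg.Agent.Block.OnePrime
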