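import Mathlib
import Cfsg.Agent.Lib.Grp.Frattini

/-!
A subgroup of prime order that is a Sylow subgroup: normalizers and Burnside's transfer.
-/

namespace Cfsg.Agent.Block.OnePrime

open Subgroup
open scoped Pointwise

set_option linter.style.haveILetI false

universe u

variable {L : Type u} [Group L] [Finite L]

omit [Finite L] in
theorem cen_zpowers (y : L) :
    centralizer ((zpowers y : Subgroup L) : Set L) = centralizer ({y} : Set L) := by
  rw [zpowers_eq_closure, centralizer_closure]

theorem sylow_of_order {q m : ℕ} [hq : Fact q.Prime] (hL : Nat.card L = q * m) (hm : ¬ q ∣ m) {y : L}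
    (hy : orderOf y = q) : ∃ P : Sylow q L, (P : Subgroup L) = zpowers y := by
  refine ⟨Sylow.ofCard (zpowers y) ?_, Sylow.coe_ofCard _ _⟩
  rw [Nat.card_zpowers, hy, hL, Nat.factorization_mul hq.out.ne_zero (fun h => hm (by rw [h]; exact dvd_zero q)),
    Finsupp.add_apply, hq.out.factorization_self, Nat.factorization_eq_zero_of_not_dvd hm, add_zero,
    pow_one]

/-- The normalizer is at most `q - 1` times the centralizer. -/
theorem card_normalizer {q : ℕ} [hq : Fact q.Prime] {y : L} (hy : orderOf y = q) :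
    ∃ e : ℕ, e ∣ q - 1 ∧
      Nat.card (normalizer ((zpowers y : Subgroup L) : Set L)) = Nat.card (centralizer ({y} : Set L)) * e := by
  classical
  set N := normalizer ((zpowers y : Subgroup L) : Set L)
  set φ := Subgroup.normalizerMonoidHom (zpowers y) with hφ
  have hker : φ.ker = (centralizer ({y} : Set L)).subgroupOf N := by
    rw [hφ, Subgroup.normalizerMonoidHom_ker, cen_zpowers]
  have hle : centralizer ({y} : Set L) ≤ N :=
    (cen_zpowers y).ge.trans (Subgroup.centralizer_le_normalizer _)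
  refine ⟨Nat.card φ.range, ?_, ?_⟩
  · refine (Subgroup.card_subgroup_dvd_card _).trans ?_
    rw [IsCyclic.card_mulAut, Nat.card_zpowers, hy, Nat.totient_prime hq.out]
  · have h := Subgroup.card_mul_index φ.ker
    rw [Subgroup.index_ker, hker, Nat.card_congr (Subgroup.subgroupOfEquivOfLe hle).toEquiv] at h
    exact h.symm

theorem index_normalizer {q m : ℕ} [Fact q.Prime] (hL : Nat.card L = q * m) (hm : ¬ q ∣ m) {y : L}
    (hy : orderOf y = q) :
    (normalizer ((zpowers y : Subgroup L) : Set L)).index % q = 1 := by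
  obtain ⟨P, hP⟩ := sylow_of_order hL hm hy
  have h := card_sylow_modEq_one q L
  have h2 : (P : Set L) = ((zpowers y : Subgroup L) : Set L) := by rw [← hP]; rfl
  rw [Sylow.card_eq_index_normalizer P, h2] at h
  rw [h, Nat.one_mod_eq_one]
  exact (Fact.out : q.Prime).ne_one

/-- All elements of order `q` are conjugate to powers of one of them. -/
theorem exists_conj_pow {q m : ℕ} [hq : Fact q.Prime] (hL : Nat.card L = q * m) (hm : ¬ q ∣ m) {x y : L}
    (hx : orderOf x = q) (hy : orderOf y = q) :
    ∃ (g : L) (i : ℕ), i.Coprime q ∧ y = g * x ^ i * g⁻¹ := by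
  obtain ⟨P, hP⟩ := sylow_of_order hL hm hx
  obtain ⟨Q, hQ⟩ := sylow_of_order hL hm hy
  obtain ⟨g, hg⟩ := MulAction.exists_smul_eq L P Q
  have hmem : y ∈ (zpowers x).map (MulAut.conj g).toMonoidHom := by
    have h := congrArg (fun R : Sylow q L => (R : Subgroup L)) hg
    simp only [Sylow.coe_subgroup_smul, hP, hQ] at h
    rw [show (zpowers x).map (MulAut.conj g).toMonoidHom = MulAut.conj g • zpowers x from rfl, h]
    exact mem_zpowers y
  obtain ⟨_, hz, hzy⟩ := hmem
  rw [SetLike.mem_coe, ← mem_powers_iff_mem_zpowers] at hz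
  obtain ⟨i, rfl⟩ := hz
  simp only at hzy
  refine ⟨g, i, ?_, hzy.symm⟩
  refine (hq.out.coprime_iff_not_dvd.2 fun hdvd => ?_).symm
  have h1 : y = 1 := by
    rw [← hzy, show x ^ i = 1 from orderOf_dvd_iff_pow_eq_one.1 (hx ▸ hdvd), map_one]
  rw [h1, orderOf_one] at hy
  exact hq.out.ne_one hy.symm

/-- Burnside: a self-centralizing normalizer gives a normal subgroup of index `q`. -/
theorem exists_complement {q m : ℕ} [Fact q.Prime] (hL : Nat.card L = q * m) (hm : ¬ q ∣ m) {y : L}
    (hy : orderOf y = q)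
    (hN : Nat.card (normalizer ((zpowers y : Subgroup L) : Set L)) ≤ Nat.card (centralizer ({y} : Set L))) :
    ∃ K : Subgroup L, K.Normal ∧ K.index = q := by
  obtain ⟨P, hP⟩ := sylow_of_order hL hm hy
  have hle : normalizer ((P : Subgroup L) : Set L) ≤ centralizer ((P : Subgroup L) : Set L) := by
    rw [hP, cen_zpowers]
    exact (Subgroup.eq_of_le_of_card_ge
      ((cen_zpowers y).ge.trans (Subgroup.centralizer_le_normalizer _)) hN).ge
  refine ⟨(MonoidHom.transferSylow P hle).ker, inferInstance, ?_⟩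
  rw [(MonoidHom.ker_transferSylow_isComplement' P hle).symm.index_eq_card, hP, Nat.card_zpowers, hy]

/-- A normal subgroup of prime index contains no Sylow subgroup with a small normalizer. -/
theorem not_complement {q r m : ℕ} [hq : Fact q.Prime] [hr : Fact r.Prime] (hqr : q ≠ r)
    (hL : Nat.card L = r * m) (hm : ¬ r ∣ m) {z : L} (hz : orderOf z = r)
    (hN : ¬ q ∣ Nat.card (normalizer ((zpowers z : Subgroup L) : Set L))) (K : Subgroup L) [K.Normal]
    (hK : K.index = q) : False := by
  have hmem : ∀ x : L, ¬ q ∣ orderOf x → x ∈ K := by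
    intro x hx
    rw [← QuotientGroup.eq_one_iff, ← orderOf_eq_one_iff]
    have h1 : orderOf (x : L ⧸ K) ∣ q := hK ▸ Subgroup.index_eq_card K ▸ orderOf_dvd_natCard _
    rcases (Nat.dvd_prime hq.out).1 h1 with h | h
    · exact h
    · exact absurd (h ▸ orderOf_map_dvd (QuotientGroup.mk' K) x) hx
  have hzK : z ∈ K := hmem z (by rw [hz]; exact fun h => hqr ((Nat.prime_dvd_prime_iff_eq hq.out hr.out).1 h))
  have hNK : normalizer ((zpowers z : Subgroup L) : Set L) ≤ K := by
    intro x hx
    refine hmem x fun h => hN (h.trans ?_)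
    rw [← Subgroup.orderOf_mk x hx]
    exact orderOf_dvd_natCard _
  obtain ⟨g, hg⟩ : ∃ g : L, g ∉ K := by
    by_contra h
    push Not at h
    rw [(Subgroup.eq_top_iff' K).2 h, index_top] at hK
    exact hq.out.ne_one hK.symm
  have hgz : g * z * g⁻¹ ∈ K := (inferInstance : K.Normal).conj_mem z hzK g
  have hKc : ∃ m', Nat.card K = r * m' ∧ ¬ r ∣ m' := by
    have h1 : r ∣ Nat.card K := by
      rw [← hz, ← Subgroup.orderOf_mk z hzK]
      exact orderOf_dvd_natCard _
    obtain ⟨m', hm'⟩ := h1
    refine ⟨m', hm', fun h => hm ?_⟩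
    have h2 := Subgroup.card_mul_index K
    rw [hL, hm', hK, mul_assoc] at h2
    exact (Nat.eq_of_mul_eq_mul_left hr.out.pos h2) ▸ h.mul_right q
  obtain ⟨m', hm', hrm'⟩ := hKc
  obtain ⟨k, i, -, hk⟩ := exists_conj_pow hm' hrm' (x := (⟨z, hzK⟩ : K)) (y := ⟨g * z * g⁻¹, hgz⟩)
    (by rw [Subgroup.orderOf_mk, hz]) (by rw [Subgroup.orderOf_mk, ← MulAut.conj_apply, MulEquiv.orderOf_eq, hz])
  have hk' : g * z * g⁻¹ = (k : L) * z ^ i * (k : L)⁻¹ := congrArg Subtype.val hk
  have hne : z ^ i ≠ 1 := fun e => by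
    rw [e] at hk'
    simp at hk'
    rw [hk', orderOf_one] at hz
    exact hr.out.ne_one hz.symm
  refine hg ?_
  have hN' : (k : L)⁻¹ * g ∈ normalizer ((zpowers z : Subgroup L) : Set L) := by
    have e : (k : L)⁻¹ * g * z * ((k : L)⁻¹ * g)⁻¹ = z ^ i := by
      calc (k : L)⁻¹ * g * z * ((k : L)⁻¹ * g)⁻¹ = (k : L)⁻¹ * (g * z * g⁻¹) * k := by group
        _ = z ^ i := by rw [hk']; group
    have hmap : (zpowers z).map (MulAut.conj ((k : L)⁻¹ * g)).toMonoidHom = zpowers z := by
      rw [MonoidHom.map_zpowers, MulEquiv.coe_toMonoidHom, MulAut.conj_apply, e]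
      refine Subgroup.eq_of_le_of_card_ge (zpowers_le.2 (pow_mem (mem_zpowers z) i)) ?_
      rw [Nat.card_zpowers, Nat.card_zpowers, hz]
      rcases (Nat.dvd_prime hr.out).1 (hz ▸ orderOf_pow_dvd i : orderOf (z ^ i) ∣ r) with h | h
      · exact absurd (orderOf_eq_one_iff.1 h) hne
      · exact h.ge
    rw [Subgroup.mem_normalizer_iff]
    intro x
    conv_rhs => rw [← hmap]
    constructor
    · exact fun h => ⟨x, h, rfl⟩
    · rintro ⟨x', hx', e⟩
      rwa [show x' = x from (MulAut.conj ((k : L)⁻¹ * g)).injective e] at hx'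
  have := K.mul_mem k.2 (hNK hN')
  simpa using this

/-- The size of a conjugacy class. -/
theorem card_class (y : L) :
    Nat.card {g : L // IsConj y g} * Nat.card (centralizer ({y} : Set L)) = Nat.card L := by
  have h := MulAction.index_stabilizer (ConjAct L) y
  have hs : Nat.card (MulAction.stabilizer (ConjAct L) y) = Nat.card (centralizer ({y} : Set L)) :=
    Nat.card_congr (Equiv.subtypeEquiv ConjAct.ofConjAct.toEquiv fun g => by
      rw [MulAction.mem_stabilizer_iff, ConjAct.smul_def, mem_centralizer_singleton_iff]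
      exact mul_inv_eq_iff_eq_mul)
  have horb : Nat.card {g : L // IsConj y g} = Nat.card (MulAction.orbit (ConjAct L) y) :=
    Nat.card_congr (Equiv.subtypeEquivRight fun g => by
      rw [ConjAct.mem_orbit_conjAct, isConj_comm])
  rw [horb, ← hs, Nat.card_coe_set_eq, ← h, mul_comm, Subgroup.card_mul_index]
  exact Nat.card_congr ConjAct.ofConjAct.toEquiv

/-- An element of order five acting on a normal subgroup: fixed points count modulo five. -/
theorem card_mod_five {W : Subgroup L} [W.Normal] {y : L} (hy : orderOf y = 5) :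
    Nat.card W % 5 = Nat.card ↥(W ⊓ centralizer ({y} : Set L)) % 5 := by
  classical
  haveI : Fintype W := Fintype.ofFinite W
  haveI : Fact (Nat.Prime 5) := ⟨Nat.prime_five⟩
  set σ : Equiv.Perm W := (MulAut.conjNormal (H := W) y).toEquiv with hσ
  have hσ5 : σ ^ 5 ^ 1 = 1 := by
    have h : (MulAut.conjNormal (H := W) y) ^ 5 = 1 := by
      rw [← map_pow, ← hy, pow_orderOf_eq_one, map_one]
    have h2 : ∀ (n : ℕ) (w : W), (σ ^ n) w = ((MulAut.conjNormal (H := W) y) ^ n) w := by
      intro n
      induction n with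
      | zero => intro w; rfl
      | succ n ih => intro w; rw [pow_succ', pow_succ', Equiv.Perm.mul_apply, ih, MulAut.mul_apply]; rfl
    refine Equiv.ext fun w => ?_
    rw [h2, pow_one, h]
    rfl
  have hmod := Equiv.Perm.card_compl_support_modEq hσ5
  rw [← Nat.card_eq_fintype_card] at hmod
  rw [← hmod]
  congr 1
  rw [← Fintype.card_coe, ← Nat.card_eq_fintype_card]
  refine Nat.card_congr
    { toFun := fun w => ⟨(w.1 : L), w.1.2, ?_⟩
      invFun := fun w => ⟨⟨(w : L), w.2.1⟩, ?_⟩
      left_inv := fun w => rfl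
      right_inv := fun w => rfl }
  · have hw := w.2
    simp only [Finset.mem_compl, Equiv.Perm.mem_support, not_not] at hw
    have e := congrArg Subtype.val hw
    simp only [hσ, MulEquiv.toEquiv_eq_coe, MulEquiv.coe_toEquiv, MulAut.conjNormal_apply] at e
    exact mem_centralizer_singleton_iff.2 (mul_inv_eq_iff_eq_mul.1 e).symm
  · simp only [Finset.mem_compl, Equiv.Perm.mem_support, not_not]
    refine Subtype.ext ?_
    simp only [hσ, MulEquiv.toEquiv_eq_coe, MulEquiv.coe_toEquiv, MulAut.conjNormal_apply]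
    exact mul_inv_eq_iff_eq_mul.2 (mem_centralizer_singleton_iff.1 w.2.2).symm

/-- In a group of order 64 acted upon by an element of order five with a cyclic fixed group of order four,
squares lie in the fixed group. -/
theorem sq_mem_fixed {R : Subgroup L} [R.Normal] (hR : Nat.card R = 64) {y g : L} (hy : orderOf y = 5)
    (hg : orderOf g = 4) (hgR : g ∈ R) (hgc : g ∈ center L)
    (hfix : ∀ r ∈ R, Commute r y → r ∈ zpowers g) : ∀ r ∈ R, r ^ 2 ∈ zpowers g := by
  classical
  haveI : Fact (Nat.Prime 2) := ⟨Nat.prime_two⟩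
  have hRp : IsPGroup 2 R := IsPGroup.of_card (n := 6) (by rw [hR]; norm_num)
  set W : Subgroup L := zpowers g ⊔ (frattini R).map R.subtype with hW
  haveI : (zpowers g).Normal := ⟨by
    rintro _ ⟨i, rfl⟩ x
    refine ⟨i, ?_⟩
    rw [(mem_center_iff.1 (zpow_mem hgc i) x)]
    group⟩
  haveI : W.Normal := Subgroup.sup_normal _ _
  have hWR : W ≤ R := sup_le (zpowers_le.2 hgR) (Subgroup.map_subtype_le _)
  have hgW : zpowers g ≤ W := le_sup_left
  have hgy : zpowers g ≤ centralizer ({y} : Set L) := zpowers_le.2 <|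
    mem_centralizer_singleton_iff.2 (mem_center_iff.1 hgc y).symm
  have h5 := card_mod_five (W := W) hy
  rw [show W ⊓ centralizer ({y} : Set L) = zpowers g from le_antisymm
    (fun r hr => hfix r (hWR hr.1) (mem_centralizer_singleton_iff.1 hr.2)) (le_inf hgW hgy),
    Nat.card_zpowers, hg] at h5
  have hne : W ≠ R := by
    intro e
    have htop : zpowers (⟨g, hgR⟩ : R) ⊔ frattini R = ⊤ := by
      refine Subgroup.map_injective R.subtype_injective ?_
      rw [Subgroup.map_sup, MonoidHom.map_zpowers, ← MonoidHom.range_eq_map, Subgroup.range_subtype]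
      exact e
    have h := frattini_nongenerating htop
    have h2 : Nat.card (zpowers (⟨g, hgR⟩ : R)) = 64 := by rw [h, Subgroup.card_top, hR]
    rw [Nat.card_zpowers, Subgroup.orderOf_mk, hg] at h2
    norm_num at h2
  have hlt : Nat.card W < 64 := by
    refine lt_of_le_of_ne (hR ▸ Subgroup.card_le_of_le hWR) fun h => hne ?_
    exact Subgroup.eq_of_le_of_card_ge hWR (by rw [h, hR])
  have hd : Nat.card W ∣ 2 ^ 6 := by
    rw [show (2 : ℕ) ^ 6 = Nat.card R by rw [hR]; norm_num]
    exact Subgroup.card_dvd_of_le hWR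
  obtain ⟨i, hi, hWi⟩ := (Nat.dvd_prime_pow Nat.prime_two).1 hd
  have hWc : Nat.card W = 4 := by
    rw [hWi] at h5 hlt ⊢
    interval_cases i <;> simp_all
  have hWeq : W = zpowers g :=
    (Subgroup.eq_of_le_of_card_ge hgW (by rw [hWc, Nat.card_zpowers, hg])).symm
  intro r hr
  rw [← hWeq]
  refine le_sup_right (a := zpowers g) ?_
  exact ⟨(⟨r, hr⟩ : R) ^ 2, Grp.pGroup_pow_mem_frattini hRp _, rfl⟩

end Cfsg.Agent.Block.OnePrime
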