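import Cfsg.Agent.Lib.Block.OnePrime.Minus
import Cfsg.Agent.Lib.Block.OnePrime.SylowPrime

/-!
The row `(d, p, r) = (35, 17, 120)`: the character `(χ(g) - χ(g t)) / 2` of the centralizer of `t` has too
large a norm on the classes of elements of order five and ten.
-/

namespace Cfsg.Agent.Block.OnePrime

open Cfsg Cfsg.Agent.Char Subgroup

set_option linter.style.haveILetI false
set_option linter.unusedSectionVars false

universe u

section Groups

variable {L : Type u} [Group L] [Finite L]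

theorem card_centralizer_sub (H : Subgroup L) (y : H) :
    Nat.card (centralizer ({y} : Set H)) = Nat.card ↥(H ⊓ centralizer ({(y : L)} : Set L)) :=
  Nat.card_congr
    { toFun := fun x => ⟨((x : H) : L), (x : H).2, mem_centralizer_singleton_iff.2
        (congrArg Subtype.val (mem_centralizer_singleton_iff.1 x.2))⟩
      invFun := fun x => ⟨⟨(x : L), x.2.1⟩, mem_centralizer_singleton_iff.2
        (Subtype.ext (mem_centralizer_singleton_iff.1 x.2.2))⟩
      left_inv := fun _ => rfl
      right_inv := fun _ => rfl }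

theorem not_conj_sq {y : L} (hy : orderOf y = 5)
    (hN : Nat.card (normalizer ((zpowers y : Subgroup L) : Set L)) ≤ 2 * Nat.card (centralizer ({y} : Set L)))
    (g : L) : g * y * g⁻¹ ≠ y ^ 2 := by
  intro e
  haveI : Fact (Nat.Prime 5) := ⟨Nat.prime_five⟩
  have hy2 : orderOf (y ^ 2) = 5 := by
    rw [← e, ← MulAut.conj_apply, MulEquiv.orderOf_eq, hy]
  have hg : g ∈ normalizer ((zpowers y : Subgroup L) : Set L) := by
    have hmap : (zpowers y).map (MulAut.conj g).toMonoidHom = zpowers y := by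
      rw [MonoidHom.map_zpowers, MulEquiv.coe_toMonoidHom, MulAut.conj_apply, e]
      exact Subgroup.eq_of_le_of_card_ge (zpowers_le.2 (pow_mem (mem_zpowers y) 2))
        (by rw [Nat.card_zpowers, Nat.card_zpowers, hy2, hy])
    rw [Subgroup.mem_normalizer_iff]
    intro x
    conv_rhs => rw [← hmap]
    constructor
    · exact fun h => ⟨x, h, rfl⟩
    · rintro ⟨x', hx', e'⟩
      rwa [show x' = x from (MulAut.conj g).injective e'] at hx'
  set N := normalizer ((zpowers y : Subgroup L) : Set L)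
  have hle : centralizer ({y} : Set L) ≤ N :=
    (cen_zpowers y).ge.trans (Subgroup.centralizer_le_normalizer _)
  have h := Subgroup.card_mul_index ((centralizer ({y} : Set L)).subgroupOf N)
  rw [Nat.card_congr (Subgroup.subgroupOfEquivOfLe hle).toEquiv] at h
  set k := ((centralizer ({y} : Set L)).subgroupOf N).index with hk
  have hk2 : k = 1 ∨ k = 2 := by
    have hC := Nat.card_pos (α := centralizer ({y} : Set L))
    have hN0 := Nat.card_pos (α := N)
    rcases Nat.lt_or_ge k 3 with h3 | h3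
    · rcases Nat.eq_zero_or_pos k with h0 | h0
      · rw [h0, mul_zero] at h; omega
      · omega
    · nlinarith
  have hgg : g ^ 2 ∈ centralizer ({y} : Set L) := by
    rcases hk2 with h1 | h1
    · exact pow_mem (show (⟨g, hg⟩ : N) ∈ (centralizer ({y} : Set L)).subgroupOf N by
        rw [Subgroup.index_eq_one.1 h1]; exact mem_top _) 2
    · exact Subgroup.sq_mem_of_index_two h1 ⟨g, hg⟩
  have h4 : g ^ 2 * y * (g ^ 2)⁻¹ = y ^ 4 := by
    calc g ^ 2 * y * (g ^ 2)⁻¹ = g * (g * y * g⁻¹) * g⁻¹ := by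
          rw [pow_two, mul_inv_rev]; simp only [mul_assoc]
      _ = (g * y * g⁻¹) ^ 2 := by rw [conj_pow, e]
      _ = y ^ 4 := by rw [e, ← pow_mul]
  rw [mul_inv_eq_iff_eq_mul.2 (mem_centralizer_singleton_iff.1 hgg)] at h4
  have h5 : y ^ 3 = 1 := by
    rw [pow_succ' y 3] at h4
    exact left_eq_mul.1 h4
  have := orderOf_dvd_of_pow_eq_one h5
  rw [hy] at this
  norm_num at this

/-- The contribution of `1`, a central involution and four classes of elements of order five and ten. -/
theorem class_sum_bound [Fintype L] {y u : L} (hy : orderOf y = 5) (hu : orderOf u = 2)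
    (huc : ∀ g : L, Commute g u)
    (hN : Nat.card (normalizer ((zpowers y : Subgroup L) : Set L)) ≤ 2 * Nat.card (centralizer ({y} : Set L)))
    {n : ℕ} (hn : n * Nat.card (centralizer ({y} : Set L)) = Nat.card L) (F : L → ℤ) (hF : ∀ g, 0 ≤ F g)
    {A : ℤ} (hA : ∀ x : L, orderOf x = 5 → F x = A ∧ F (x * u) = A) :
    F 1 + F u + 4 * n * A ≤ ∑ g, F g := by
  classical
  haveI : Fact (Nat.Prime 5) := ⟨Nat.prime_five⟩
  set T : L → Finset L := fun x => Finset.univ.filter (IsConj x) with hT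
  have hmem : ∀ x g, g ∈ T x ↔ IsConj x g := fun x g => by simp [hT]
  have hord : ∀ x g, g ∈ T x → orderOf g = orderOf x := by
    intro x g h
    obtain ⟨c, rfl⟩ := isConj_iff.1 ((hmem x g).1 h)
    rw [← MulAut.conj_apply, MulEquiv.orderOf_eq]
  have hcu : ∀ x : L, centralizer ({x * u} : Set L) = centralizer ({x} : Set L) := by
    intro x
    ext g
    simp only [mem_centralizer_singleton_iff]
    rw [← mul_assoc, mul_assoc x, (huc g).symm.eq, ← mul_assoc, mul_left_inj]
  have hy2 : orderOf (y ^ 2) = 5 :=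
    orderOf_eq_prime (by rw [← pow_mul, mul_comm, pow_mul, ← hy, pow_orderOf_eq_one, one_pow])
      fun h => by
        have := orderOf_dvd_of_pow_eq_one h
        rw [hy] at this
        norm_num at this
  have hc2 : centralizer ({y ^ 2} : Set L) = centralizer ({y} : Set L) := by
    refine le_antisymm ?_ (centralizer_le_pow y 2)
    have e : y = (y ^ 2) ^ 3 := by rw [← pow_mul, pow_succ, ← hy, pow_orderOf_eq_one, one_mul]
    conv_rhs => rw [e]
    exact centralizer_le_pow (y ^ 2) 3
  have hcard : ∀ x, centralizer ({x} : Set L) = centralizer ({y} : Set L) → (T x).card = n := by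
    intro x hx
    have h := card_class x
    rw [hx, Nat.card_eq_fintype_card, Fintype.card_subtype, ← hn] at h
    exact Nat.eq_of_mul_eq_mul_right Nat.card_pos h
  have h10 : ∀ x : L, orderOf x = 5 → orderOf (x * u) = 10 := fun x hx => by
    rw [(huc x).orderOf_mul_eq_mul_orderOf_of_coprime (by rw [hx, hu]; norm_num), hx, hu]
  have hconj : ∀ c x : L, c * (x * u) * c⁻¹ = c * x * c⁻¹ * u := fun c x => by
    rw [mul_assoc c, mul_assoc x, ← (huc c⁻¹).eq, ← mul_assoc x, ← mul_assoc, ← mul_assoc]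
  have hd12 : Disjoint (T y) (T (y ^ 2)) := Finset.disjoint_left.2 fun g h1 h2 => by
    obtain ⟨c, hc⟩ := isConj_iff.1 (((hmem _ _).1 h1).trans ((hmem _ _).1 h2).symm)
    exact not_conj_sq hy hN c hc
  have hd34 : Disjoint (T (y * u)) (T (y ^ 2 * u)) := Finset.disjoint_left.2 fun g h1 h2 => by
    obtain ⟨c, hc⟩ := isConj_iff.1 (((hmem _ _).1 h1).trans ((hmem _ _).1 h2).symm)
    rw [hconj, mul_left_inj] at hc
    exact not_conj_sq hy hN c hc
  have hne : (1 : L) ≠ u := fun e => by rw [← e, orderOf_one] at hu; norm_num at hu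
  have hdA : Disjoint ({1, u} : Finset L) (T y ∪ T (y ^ 2)) := Finset.disjoint_left.2 fun g h1 h2 => by
    simp only [Finset.mem_insert, Finset.mem_singleton] at h1
    rcases Finset.mem_union.1 h2 with h | h <;> have := hord _ _ h <;> rcases h1 with rfl | rfl <;>
      simp_all
  have hdB : Disjoint (({1, u} : Finset L) ∪ (T y ∪ T (y ^ 2))) (T (y * u) ∪ T (y ^ 2 * u)) :=
    Finset.disjoint_left.2 fun g h1 h2 => by
      have hg : orderOf g = 10 := by
        rcases Finset.mem_union.1 h2 with h | h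
        · rw [hord _ _ h, h10 _ hy]
        · rw [hord _ _ h, h10 _ hy2]
      rcases Finset.mem_union.1 h1 with h | h
      · simp only [Finset.mem_insert, Finset.mem_singleton] at h
        rcases h with rfl | rfl <;> simp_all
      · rcases Finset.mem_union.1 h with h | h <;> have := hord _ _ h <;> simp_all
  have hval1 : ∀ x, orderOf x = 5 → ∀ g ∈ T x, F g = A := fun x hx g hg =>
    (hA g ((hord x g hg).trans hx)).1
  have hval2 : ∀ x, orderOf x = 5 → ∀ g ∈ T (x * u), F g = A := fun x hx g hg => by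
    obtain ⟨c, rfl⟩ := isConj_iff.1 ((hmem _ _).1 hg)
    rw [hconj]
    exact (hA _ (by rw [← MulAut.conj_apply, MulEquiv.orderOf_eq, hx])).2
  refine le_trans (le_of_eq ?_) (Finset.sum_le_sum_of_subset_of_nonneg
    (Finset.subset_univ ((({1, u} : Finset L) ∪ (T y ∪ T (y ^ 2))) ∪ (T (y * u) ∪ T (y ^ 2 * u))))
    fun g _ _ => hF g)
  rw [Finset.sum_union hdB, Finset.sum_union hdA, Finset.sum_union hd12, Finset.sum_union hd34,
    Finset.sum_pair hne, Finset.sum_congr rfl (hval1 y hy), Finset.sum_congr rfl (hval1 _ hy2),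
    Finset.sum_congr rfl (hval2 y hy), Finset.sum_congr rfl (hval2 _ hy2)]
  simp only [Finset.sum_const, nsmul_eq_mul, hcard y rfl, hcard _ hc2, hcard _ (hcu y),
    hcard _ ((hcu _).trans hc2)]
  ring

/-- Centralizers and normalizers of elements of order three and five in a group of order 3840. -/
theorem group3840 (hL : Nat.card L = 3840) {y z : L} (hy : orderOf y = 5) (hz : orderOf z = 3)
    (h5 : Nat.card (centralizer ({y} : Set L)) = 20 ∨ Nat.card (centralizer ({y} : Set L)) = 40)
    (h3 : Nat.card (centralizer ({z} : Set L)) = 12 ∨ Nat.card (centralizer ({z} : Set L)) = 24) :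
    Nat.card (centralizer ({y} : Set L)) = 20 ∧ Nat.card (centralizer ({z} : Set L)) = 12 ∧
      Nat.card (normalizer ((zpowers y : Subgroup L) : Set L)) = 40 := by
  haveI : Fact (Nat.Prime 5) := ⟨Nat.prime_five⟩
  haveI : Fact (Nat.Prime 3) := ⟨Nat.prime_three⟩
  have hL5 : Nat.card L = 5 * 768 := by rw [hL]
  have hL3 : Nat.card L = 3 * 1280 := by rw [hL]
  obtain ⟨e, he, hN⟩ := card_normalizer (q := 5) hy
  obtain ⟨f, hf, hM⟩ := card_normalizer (q := 3) hz
  have hi := index_normalizer hL5 (by norm_num) hy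
  have hj := index_normalizer hL3 (by norm_num) hz
  have hiN := Subgroup.card_mul_index (normalizer ((zpowers y : Subgroup L) : Set L))
  have hjM := Subgroup.card_mul_index (normalizer ((zpowers z : Subgroup L) : Set L))
  rw [hN, hL] at hiN
  rw [hM, hL] at hjM
  have he' : e = 1 ∨ e = 2 ∨ e = 4 := by
    have := Nat.le_of_dvd (by norm_num) he
    interval_cases e <;> first | omega | norm_num at he
  have hf' : f = 1 ∨ f = 2 := (Nat.dvd_prime Nat.prime_two).1 hf
  have key5 : (Nat.card (centralizer ({y} : Set L)) = 20 ∧ e = 2) ∨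
      (Nat.card (centralizer ({y} : Set L)) = 40 ∧ e = 1) := by
    rcases h5 with h | h <;> rw [h] at hiN <;> rcases he' with rfl | rfl | rfl <;> simp_all <;> omega
  have key3 : (Nat.card (centralizer ({z} : Set L)) = 12 ∧ f = 2) ∨
      (Nat.card (centralizer ({z} : Set L)) = 24 ∧ f = 1) := by
    rcases h3 with h | h <;> rw [h] at hjM <;> rcases hf' with rfl | rfl <;> simp_all <;> omega
  rcases key5 with ⟨hc5, rfl⟩ | ⟨hc5, rfl⟩
  · rcases key3 with ⟨hc3, rfl⟩ | ⟨hc3, rfl⟩
    · exact ⟨hc5, hc3, by rw [hN, hc5]⟩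
    · exfalso
      obtain ⟨K, hK, hKi⟩ := exists_complement hL3 (by norm_num) hz (by rw [hM, mul_one])
      exact not_complement (q := 3) (r := 5) (by norm_num) hL5 (by norm_num) hy
        (by rw [hN, hc5]; norm_num) K hKi
  · exfalso
    obtain ⟨K, hK, hKi⟩ := exists_complement hL5 (by norm_num) hy (by rw [hN, mul_one])
    refine not_complement (q := 5) (r := 3) (by norm_num) hL3 (by norm_num) hz ?_ K hKi
    rw [hM]
    rcases key3 with ⟨hc3, rfl⟩ | ⟨hc3, rfl⟩ <;> rw [hc3] <;> norm_num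

/-- An integer valued character at a `q`-th power. -/
theorem char_congr_pow {ψ : L → ℂ} (hψ : IsCharacter L ψ) {b : L → ℤ} (hb : ∀ g, ψ g = (b g : ℂ))
    (g : L) {q : ℕ} (hq : q.Prime) : b (g ^ q) ≡ b g [ZMOD q] := by
  haveI := Fact.mk hq
  obtain ⟨n, ρ, hρ⟩ := hψ
  obtain ⟨v, c, -, hc, hk⟩ := exists_rep_eigenbasis ρ g
  have hint : ∀ i, IsIntegral ℤ (c i) := fun i => isIntegral_of_pow_eq_one (orderOf_pos g) (hc i)
  set C : _ → integralClosure ℤ ℂ := fun i => ⟨c i, hint i⟩ with hC
  have h1 : ((b g : ℤ) : ℂ) = ∑ i, c i := by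
    rw [← hb, ← hρ]; simpa using hk 1
  have h2 : ((b (g ^ q) : ℤ) : ℂ) = ∑ i, c i ^ q := by
    rw [← hb, ← hρ]; exact hk q
  obtain ⟨X, hX⟩ := exists_sum_pow_prime hq Finset.univ C
  have h3 : ((b g ^ q - b (g ^ q) : ℤ) : ℂ) = (q : ℂ) * (X : ℂ) := by
    have h4 := congrArg (Subtype.val : integralClosure ℤ ℂ → ℂ) hX
    push_cast at h4 ⊢
    simp only [hC, AddSubmonoidClass.coe_finset_sum] at h4
    rw [h1, h2, h4]
    ring
  have h5 : (q : ℤ) ∣ b g ^ q - b (g ^ q) := by
    have hq0 : (q : ℂ) ≠ 0 := Nat.cast_ne_zero.2 hq.ne_zero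
    obtain ⟨m, hm⟩ := int_of_isIntegral_rat (q := ((b g ^ q - b (g ^ q) : ℤ) : ℚ) / q) (by
      rw [Rat.cast_div, Rat.cast_intCast, Rat.cast_natCast, h3, mul_div_cancel_left₀ _ hq0]
      exact X.2)
    refine ⟨m, ?_⟩
    rw [Rat.cast_div, Rat.cast_intCast, Rat.cast_natCast, div_eq_iff hq0] at hm
    have : ((b g ^ q - b (g ^ q) : ℤ) : ℂ) = (((q : ℤ) * m : ℤ) : ℂ) := by
      rw [hm]; push_cast; ring
    exact_mod_cast this
  exact (Int.modEq_iff_dvd.2 h5).trans ((ZMod.intCast_eq_intCast_iff _ _ _).1 (by push_cast; exact ZMod.pow_card _))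

end Groups

variable {G : Type u} [Group G] [Finite G] (S : Setup G)

/-- Elements of prime order commuting with involutions are all conjugate to powers of one of them, if the
prime divides the centralizer of an involution only once. -/
theorem Setup.commuting_prime {q m : ℕ} [hq : Fact q.Prime]
    (hC : Nat.card (centralizer ({S.t} : Set G)) = q * m) (hm : ¬ q ∣ m) {u₀ z₀ u z : G}
    (hu₀ : orderOf u₀ = 2) (hz₀ : orderOf z₀ = q) (hc₀ : Commute z₀ u₀)
    (hu : orderOf u = 2) (hz : orderOf z = q) (hc : Commute z u) :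
    S.a z = S.a z₀ ∧ Nat.card (centralizer ({z} : Set G)) = Nat.card (centralizer ({z₀} : Set G)) := by
  obtain ⟨c, hcu⟩ := isConj_iff.1 ((S.hconj u hu).symm.trans (S.hconj u₀ hu₀))
  have hzc : Commute (c * z * c⁻¹) u₀ := hcu ▸ (hc.map (MulAut.conj c).toMonoidHom)
  obtain ⟨g, i, hi, hg⟩ := exists_conj_pow (L := centralizer ({u₀} : Set G))
    (by rw [S.cen_invol hu₀, hC]) hm
    (x := ⟨z₀, mem_centralizer_singleton_iff.2 hc₀⟩) (y := ⟨c * z * c⁻¹, mem_centralizer_singleton_iff.2 hzc⟩)
    (by rw [Subgroup.orderOf_mk, hz₀])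
    (by rw [Subgroup.orderOf_mk, ← MulAut.conj_apply, MulEquiv.orderOf_eq, hz])
  have hg' : c * z * c⁻¹ = (g : G) * z₀ ^ i * (g : G)⁻¹ := congrArg Subtype.val hg
  have hconj : IsConj (z₀ ^ i) z := (isConj_iff.2 ⟨(g : G), hg'.symm⟩).trans (isConj_iff.2 ⟨c, rfl⟩).symm
  refine ⟨?_, ?_⟩
  · rw [S.a_isConj hconj, S.a_pow_coprime_order z₀ (hz₀ ▸ hi)]
  · rw [card_centralizer_conj hconj]
    have hp : zpowers (z₀ ^ i) = zpowers z₀ := by
      refine Subgroup.eq_of_le_of_card_ge (zpowers_le.2 (pow_mem (mem_zpowers z₀) i)) ?_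
      rw [Nat.card_zpowers, Nat.card_zpowers, (hz₀ ▸ hi.symm : (orderOf z₀).Coprime i).orderOf_pow]
    rw [← cen_zpowers (z₀ ^ i), hp, cen_zpowers]

theorem Setup.minus_self {u : G} (hu : orderOf u = 2) : S.minus u u = -S.minus u 1 := by
  have h1 := S.two_mul_minus hu (Commute.refl u)
  have h2 := S.minus_one hu
  rw [← pow_two, show u ^ 2 = 1 by rw [← hu, pow_orderOf_eq_one], S.hd, S.a_invol hu] at h1
  omega

theorem Setup.minus_invol_eq_zero {u g : G} (hu : orderOf u = 2) (hg : orderOf g = 2) (hc : Commute g u)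
    (hne : g ≠ u) : S.minus u g = 0 := by
  have h1 := S.two_mul_minus hu hc
  have hu2 : u ^ 2 = 1 := hu ▸ pow_orderOf_eq_one u
  have hgu : orderOf (g * u) = 2 := orderOf_eq_prime
    (by rw [hc.mul_pow, hu2, mul_one, ← hg, pow_orderOf_eq_one]) fun h => hne (by
      rw [eq_inv_of_mul_eq_one_left h, inv_eq_of_mul_eq_one_right (by rw [← pow_two, hu2])])
  rw [S.a_invol hg, S.a_invol hgu, sub_self] at h1
  omega

theorem Setup.minus_half_eq_zero {u g : G} {m : ℕ} (hg : orderOf g = 2 ^ (m + 2))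
    (hu : g ^ 2 ^ (m + 1) = u) : S.minus u g = 0 := by
  have hu' : orderOf u = 2 := hu ▸ Setup.orderOf_pow_half hg
  have h1 := S.two_mul_minus hu' (g := g) (hu ▸ (Commute.refl g).pow_right _)
  have h' := S.a_shift (w := g) (k := 1) (z := 1) (m := m + 1) (j := 1) (by rw [← hg, pow_orderOf_eq_one])
    (one_pow 2) (by simp) (Commute.one_right _) (Commute.one_right _) (Commute.one_left _) one_ne_zero
    (Nat.one_lt_two_pow m.succ_ne_zero)
  rw [mul_one, mul_one, mul_one, mul_one, pow_add, pow_one, hu] at h'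
  rw [h', sub_self] at h1
  omega

/-- A suitable element of order five. -/
theorem row35_five (hd : S.d = 35) (hp : S.p = 17) (hr : S.r = 120) (hδ : S.δ = 1) :
    ∃ u y : G, orderOf u = 2 ∧ orderOf y = 5 ∧ Commute y u ∧ S.a y = 10 ∧
      Nat.card (centralizer ({y} : Set G)) ∣ 3000 := by
  have hd0 : S.d0 = 36 := by
    have := S.hd0
    rw [hδ, hd] at this
    omega
  have hcard : Nat.card G = 5 ^ 3 * (2 ^ 8 * 3 ^ 4 * 7 * 17) := by
    rw [S.card, hp, hr, hd, hd0]; norm_num
  obtain ⟨y, hy, hy3⟩ := exists_central (H := G) (q := 5) (by norm_num)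
    (hcard ▸ dvd_mul_of_dvd_left (dvd_pow_self 5 three_ne_zero) _)
  have h125 : 5 ^ 3 ∣ Nat.card (centralizer ({y} : Set G)) := by
    refine dvd_trans (pow_dvd_pow 5 ?_) hy3
    exact (Nat.Prime.pow_dvd_iff_le_factorization (by norm_num) Nat.card_pos.ne').1 ⟨_, hcard⟩
  have hne : y ≠ 1 := by rintro rfl; simp at hy
  have hreg : ¬ S.p ∣ orderOf y := by rw [hy, hp]; norm_num
  have hc := S.cen_dvd y hne hreg
  have hn := S.norm_le y hreg
  have hlt := S.lt y hne
  have hfix := S.fix_prime (q := 5) (by norm_num) hy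
  rw [hr, hd] at hc
  rw [hp, hδ, one_mul] at hn
  rw [hd] at hlt hfix
  norm_num at hn
  push_cast at hc hlt hfix
  have h := (Int.natCast_dvd_natCast.2 h125).trans hc
  push_cast at h
  have hF : (0 : ℤ) ≤ S.fix (zpowers y) := Int.natCast_nonneg _
  have ha : S.a y = 10 := by omega
  rw [ha] at hc hn
  norm_num at hc hn
  set c := Nat.card (centralizer ({y} : Set G))
  have hc' : c ∣ 3000 := by exact_mod_cast hc
  have heven : 2 ∣ c := by
    by_contra hodd
    have h1 : c ∣ 375 := (Nat.Coprime.pow_right 3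
      (Nat.coprime_two_right.2 (Nat.odd_iff.2 (by omega)))).dvd_of_dvd_mul_left
        (show c ∣ 2 ^ 3 * 375 by norm_num; exact hc')
    have := Nat.le_of_dvd (by norm_num) h1
    omega
  haveI : Fact (Nat.Prime 2) := ⟨Nat.prime_two⟩
  obtain ⟨⟨k, hkC⟩, hk⟩ := exists_prime_orderOf_dvd_card' 2 heven
  rw [Subgroup.orderOf_mk] at hk
  exact ⟨k, y, hk, hy, (show Commute k y from mem_centralizer_singleton_iff.1 hkC).symm, ha, hc'⟩

/-- A suitable element of order three. -/
theorem row35_three (hd : S.d = 35) (hp : S.p = 17) (hr : S.r = 120) (hδ : S.δ = 1) :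
    ∃ u z : G, orderOf u = 2 ∧ orderOf z = 3 ∧ Commute z u ∧ S.a z = 8 ∧
      Nat.card (centralizer ({z} : Set G)) ∣ 3240 := by
  have hd0 : S.d0 = 36 := by
    have := S.hd0
    rw [hδ, hd] at this
    omega
  have hcard : Nat.card G = 3 ^ 4 * (2 ^ 8 * 5 ^ 3 * 7 * 17) := by
    rw [S.card, hp, hr, hd, hd0]; norm_num
  obtain ⟨z, hz, hz3⟩ := exists_central (H := G) (q := 3) (by norm_num)
    (hcard ▸ dvd_mul_of_dvd_left (dvd_pow_self 3 (by norm_num)) _)
  have h81 : 3 ^ 4 ∣ Nat.card (centralizer ({z} : Set G)) := by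
    refine dvd_trans (pow_dvd_pow 3 ?_) hz3
    exact (Nat.Prime.pow_dvd_iff_le_factorization (by norm_num) Nat.card_pos.ne').1 ⟨_, hcard⟩
  have hne : z ≠ 1 := by rintro rfl; simp at hz
  have hreg : ¬ S.p ∣ orderOf z := by rw [hz, hp]; norm_num
  have hc := S.cen_dvd z hne hreg
  have hn := S.norm_le z hreg
  have hlt := S.lt z hne
  have hfix := S.fix_prime (q := 3) (by norm_num) hz
  rw [hr, hd] at hc
  rw [hp, hδ, one_mul] at hn
  rw [hd] at hlt hfix
  norm_num at hn
  push_cast at hc hlt hfix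
  have h := (Int.natCast_dvd_natCast.2 h81).trans hc
  push_cast at h
  have hF : (0 : ℤ) ≤ S.fix (zpowers z) := Int.natCast_nonneg _
  have ha : S.a z = 8 := by omega
  rw [ha] at hc hn
  norm_num at hc hn
  set c := Nat.card (centralizer ({z} : Set G))
  have hc' : c ∣ 3240 := by exact_mod_cast hc
  have heven : 2 ∣ c := by
    by_contra hodd
    have h1 : c ∣ 405 := (Nat.Coprime.pow_right 3
      (Nat.coprime_two_right.2 (Nat.odd_iff.2 (by omega)))).dvd_of_dvd_mul_left
        (show c ∣ 2 ^ 3 * 405 by norm_num; exact hc')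
    have := Nat.le_of_dvd (by norm_num) h1
    omega
  haveI : Fact (Nat.Prime 2) := ⟨Nat.prime_two⟩
  obtain ⟨⟨k, hkC⟩, hk⟩ := exists_prime_orderOf_dvd_card' 2 heven
  rw [Subgroup.orderOf_mk] at hk
  exact ⟨k, z, hk, hz, (show Commute k z from mem_centralizer_singleton_iff.1 hkC).symm, ha, hc'⟩


set_option maxHeartbeats 800000 in
theorem row35_local (hd : S.d = 35) (hp : S.p = 17) (hr : S.r = 120) (hv : S.a S.t = 3) (hδ : S.δ = 1) :
    (∀ u y : G, orderOf u = 2 → orderOf y = 5 → Commute y u →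
      S.a y = 10 ∧ S.a (u * y) = -2 ∧
        Nat.card ↥(centralizer ({u} : Set G) ⊓ centralizer ({y} : Set G)) = 20 ∧
        ∀ h : y ∈ centralizer ({u} : Set G),
          Nat.card (normalizer ((zpowers (⟨y, h⟩ : centralizer ({u} : Set G)) :
            Subgroup (centralizer ({u} : Set G))) : Set (centralizer ({u} : Set G)))) = 40) ∧
    ∀ u z : G, orderOf u = 2 → orderOf z = 3 → Commute z u →
      S.a z = 8 ∧ Nat.card ↥(centralizer ({u} : Set G) ⊓ centralizer ({z} : Set G)) = 12 := by
  obtain ⟨u₅, y₀, hu₅, hy₀, hc₅, hay₀, hC₅⟩ := row35_five S hd hp hr hδ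
  obtain ⟨u₃, z₀, hu₃, hz₀, hc₃, haz₀, hC₃⟩ := row35_three S hd hp hr hδ
  haveI : Fact (Nat.Prime 5) := ⟨Nat.prime_five⟩
  haveI : Fact (Nat.Prime 3) := ⟨Nat.prime_three⟩
  have hC : Nat.card (centralizer ({S.t} : Set G)) = 3840 := by
    rw [S.cen_t_nat, hd, hr, hv]; rfl
  have val5 : ∀ u y : G, orderOf u = 2 → orderOf y = 5 → Commute y u →
      S.a y = 10 ∧ S.a (u * y) = -2 ∧
        Nat.card ↥(centralizer ({u} : Set G) ⊓ centralizer ({y} : Set G)) ∣ 120 ∧
        13 ≤ Nat.card ↥(centralizer ({u} : Set G) ⊓ centralizer ({y} : Set G)) := by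
    intro u y hu hy hc
    obtain ⟨ha, hcy⟩ := S.commuting_prime (m := 768) (by rw [hC]) (by norm_num) hu₅ hy₀ hc₅ hu hy hc
    rw [hay₀] at ha
    have hco : (orderOf u).Coprime (orderOf y) := by rw [hu, hy]; norm_num
    have hcen := cen_mul hc.symm hco
    have hdvd : Nat.card ↥(centralizer ({u} : Set G) ⊓ centralizer ({y} : Set G)) ∣ 120 :=
      (Nat.dvd_gcd ((Subgroup.card_dvd_of_le inf_le_left).trans (by rw [S.cen_invol hu, hC]))
        ((Subgroup.card_dvd_of_le inf_le_right).trans (hcy ▸ hC₅)))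
    have hne : u * y ≠ 1 := fun e => by
      have := hc.symm.orderOf_mul_eq_mul_orderOf_of_coprime hco
      rw [e, orderOf_one, hu, hy] at this
      norm_num at this
    obtain ⟨h1, h2, -⟩ := S.bound hu ((Commute.refl u).mul_left hc) hne (by norm_num) (hcen ▸ hdvd)
    rw [hp, hδ, one_mul] at h1 h2
    norm_num at h1 h2
    have e5 := S.a_congr_mul (n := 1) Nat.prime_five hc (by rw [pow_one, ← hy, pow_orderOf_eq_one])
    rw [hc.eq, S.a_invol hu, hv] at e5
    have e2 := S.a_invol_mul hu hc.symm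
    rw [ha] at e2
    simp only [Int.ModEq] at e2 e5
    have hlo : -4 ≤ S.a (u * y) := by nlinarith
    have hhi : S.a (u * y) ≤ 2 := by nlinarith
    have hb : S.a (u * y) = -2 := by omega
    rw [hb] at h2
    norm_num at h2
    rw [hcen] at h2
    exact ⟨ha, hb, hdvd, by omega⟩
  have val3 : ∀ u z : G, orderOf u = 2 → orderOf z = 3 → Commute z u →
      S.a z = 8 ∧ S.a (u * z) = 0 ∧
        Nat.card ↥(centralizer ({u} : Set G) ⊓ centralizer ({z} : Set G)) ∣ 120 ∧
        9 ≤ Nat.card ↥(centralizer ({u} : Set G) ⊓ centralizer ({z} : Set G)) := by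
    intro u z hu hz hc
    obtain ⟨ha, hcz⟩ := S.commuting_prime (m := 1280) (by rw [hC]) (by norm_num) hu₃ hz₀ hc₃ hu hz hc
    rw [haz₀] at ha
    have hco : (orderOf u).Coprime (orderOf z) := by rw [hu, hz]; norm_num
    have hcen := cen_mul hc.symm hco
    have hdvd : Nat.card ↥(centralizer ({u} : Set G) ⊓ centralizer ({z} : Set G)) ∣ 120 :=
      (Nat.dvd_gcd ((Subgroup.card_dvd_of_le inf_le_left).trans (by rw [S.cen_invol hu, hC]))
        ((Subgroup.card_dvd_of_le inf_le_right).trans (hcz ▸ hC₃)))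
    have hne : u * z ≠ 1 := fun e => by
      have := hc.symm.orderOf_mul_eq_mul_orderOf_of_coprime hco
      rw [e, orderOf_one, hu, hz] at this
      norm_num at this
    obtain ⟨h1, h2, -⟩ := S.bound hu ((Commute.refl u).mul_left hc) hne (by norm_num) (hcen ▸ hdvd)
    rw [hp, hδ, one_mul] at h1 h2
    norm_num at h1 h2
    have e3 := S.a_congr_mul (n := 1) Nat.prime_three hc (by rw [pow_one, ← hz, pow_orderOf_eq_one])
    rw [hc.eq, S.a_invol hu, hv] at e3
    have e2 := S.a_invol_mul hu hc.symm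
    rw [ha] at e2
    simp only [Int.ModEq] at e2 e3
    have hlo : -4 ≤ S.a (u * z) := by nlinarith
    have hhi : S.a (u * z) ≤ 2 := by nlinarith
    have hb : S.a (u * z) = 0 := by omega
    rw [hb] at h2
    norm_num at h2
    rw [hcen] at h2
    exact ⟨ha, hb, hdvd, by omega⟩
  have no15 : ∀ u y z : G, orderOf u = 2 → orderOf y = 5 → orderOf z = 3 → Commute y u → Commute z u →
      ¬ Commute y z := by
    intro u y z hu hy hz hyu hzu hyz
    obtain ⟨-, hby, hdy, -⟩ := val5 u y hu hy hyu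
    obtain ⟨-, hbz, -, -⟩ := val3 u z hu hz hzu
    have hyz15 : orderOf (y * z) = 15 := by
      rw [hyz.orderOf_mul_eq_mul_orderOf_of_coprime (by rw [hy, hz]; norm_num), hy, hz]
    have hu_yz : Commute u (y * z) := hyu.symm.mul_right hzu.symm
    have ho : orderOf (u * (y * z)) = 30 := by
      rw [hu_yz.orderOf_mul_eq_mul_orderOf_of_coprime (by rw [hu, hyz15]; norm_num), hu, hyz15]
    have hle : centralizer ({u * (y * z)} : Set G) ≤
        centralizer ({u} : Set G) ⊓ centralizer ({y} : Set G) := by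
      rw [cen_mul hu_yz (by rw [hu, hyz15]; norm_num), cen_mul hyz (by rw [hy, hz]; norm_num)]
      exact inf_le_inf_left _ inf_le_left
    obtain ⟨h1, -, -⟩ := S.bound (g := u * (y * z)) hu ((Commute.refl u).mul_left (hu_yz.symm))
      (fun e => by rw [e, orderOf_one] at ho; norm_num at ho) (by norm_num)
      ((Subgroup.card_dvd_of_le hle).trans hdy)
    rw [hp, hδ, one_mul] at h1
    norm_num at h1
    have e3 := S.a_congr_mul (x := z) (y := u * y) (n := 1) Nat.prime_three
      (hzu.mul_right hyz.symm) (by rw [pow_one, ← hz, pow_orderOf_eq_one])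
    have e5 := S.a_congr_mul (x := y) (y := u * z) (n := 1) Nat.prime_five
      (hyu.mul_right hyz) (by rw [pow_one, ← hy, pow_orderOf_eq_one])
    rw [(hzu.mul_right hyz.symm).eq, mul_assoc, hby] at e3
    rw [(hyu.mul_right hyz).eq, mul_assoc, ← hyz.eq, hbz] at e5
    simp only [Int.ModEq] at e3 e5
    have hlo : -4 ≤ S.a (u * (y * z)) := by nlinarith
    have hhi : S.a (u * (y * z)) ≤ 2 := by nlinarith
    omega
  have key : ∀ u y z : G, orderOf u = 2 → orderOf y = 5 → orderOf z = 3 → Commute y u → Commute z u →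
      Nat.card ↥(centralizer ({u} : Set G) ⊓ centralizer ({y} : Set G)) = 20 ∧
      Nat.card ↥(centralizer ({u} : Set G) ⊓ centralizer ({z} : Set G)) = 12 ∧
      ∀ h : y ∈ centralizer ({u} : Set G),
          Nat.card (normalizer ((zpowers (⟨y, h⟩ : centralizer ({u} : Set G)) :
            Subgroup (centralizer ({u} : Set G))) : Set (centralizer ({u} : Set G)))) = 40 := by
    intro u y z hu hy hz hyu hzu
    obtain ⟨-, -, hdy, h13⟩ := val5 u y hu hy hyu
    obtain ⟨-, -, hdz, h9⟩ := val3 u z hu hz hzu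
    set D := centralizer ({u} : Set G) ⊓ centralizer ({y} : Set G)
    set E := centralizer ({u} : Set G) ⊓ centralizer ({z} : Set G)
    have hyD : y ∈ D := ⟨mem_centralizer_singleton_iff.2 hyu, mem_centralizer_singleton_iff.2 rfl⟩
    have hzE : z ∈ E := ⟨mem_centralizer_singleton_iff.2 hzu, mem_centralizer_singleton_iff.2 rfl⟩
    have h5D : 5 ∣ Nat.card D := by
      rw [← hy, ← Subgroup.orderOf_mk y hyD]; exact orderOf_dvd_natCard _
    have h3E : 3 ∣ Nat.card E := by
      rw [← hz, ← Subgroup.orderOf_mk z hzE]; exact orderOf_dvd_natCard _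
    have h3D : ¬ 3 ∣ Nat.card D := fun h => by
      obtain ⟨x, hx⟩ := exists_prime_orderOf_dvd_card' 3 h
      exact no15 u y x hu hy (by rwa [Subgroup.orderOf_coe]) hyu
        (mem_centralizer_singleton_iff.1 x.2.1) (mem_centralizer_singleton_iff.1 x.2.2).symm
    have h5E : ¬ 5 ∣ Nat.card E := fun h => by
      obtain ⟨x, hx⟩ := exists_prime_orderOf_dvd_card' 5 h
      exact no15 u x z hu (by rwa [Subgroup.orderOf_coe]) hz
        (mem_centralizer_singleton_iff.1 x.2.1) hzu (mem_centralizer_singleton_iff.1 x.2.2)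
    have hD40 : Nat.card D ∣ 40 := ((Nat.Prime.coprime_iff_not_dvd Nat.prime_three).2 h3D).symm.dvd_of_dvd_mul_left
      (show Nat.card D ∣ 3 * 40 from hdy)
    have hE24 : Nat.card E ∣ 24 := ((Nat.Prime.coprime_iff_not_dvd Nat.prime_five).2 h5E).symm.dvd_of_dvd_mul_left
      (show Nat.card E ∣ 5 * 24 from hdz)
    have hD : Nat.card D = 20 ∨ Nat.card D = 40 := by
      obtain ⟨k, hk⟩ := hD40
      have : k ≤ 3 := by nlinarith
      interval_cases k <;> omega
    have hE : Nat.card E = 12 ∨ Nat.card E = 24 := by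
      obtain ⟨k, hk⟩ := hE24
      have : k ≤ 2 := by nlinarith
      interval_cases k <;> omega
    have hyL : y ∈ centralizer ({u} : Set G) := hyD.1
    have hzL : z ∈ centralizer ({u} : Set G) := hzE.1
    have h := group3840 (L := centralizer ({u} : Set G)) (by rw [S.cen_invol hu, hC])
      (y := ⟨y, hyL⟩) (z := ⟨z, hzL⟩) (by rw [Subgroup.orderOf_mk, hy]) (by rw [Subgroup.orderOf_mk, hz])
      (by rw [card_centralizer_sub]; exact hD) (by rw [card_centralizer_sub]; exact hE)
    simp only [card_centralizer_sub] at h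
    exact ⟨h.1, h.2.1, fun _ => h.2.2⟩
  have exq : ∀ {q : ℕ}, q.Prime → q ∣ 3840 → ∀ u : G, orderOf u = 2 →
      ∃ x : G, orderOf x = q ∧ Commute x u := by
    intro q hq hdvd u hu
    haveI := Fact.mk hq
    obtain ⟨x, hx⟩ := exists_prime_orderOf_dvd_card' (G := centralizer ({u} : Set G)) q
      (by rw [S.cen_invol hu, hC]; exact hdvd)
    exact ⟨x, by rwa [Subgroup.orderOf_coe], mem_centralizer_singleton_iff.1 x.2⟩
  refine ⟨fun u y hu hy hc => ?_, fun u z hu hz hc => ?_⟩
  · obtain ⟨z, hz, hzu⟩ := exq Nat.prime_three (by norm_num) u hu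
    obtain ⟨ha, hb, -, -⟩ := val5 u y hu hy hc
    obtain ⟨h1, -, h3⟩ := key u y z hu hy hz hc hzu
    exact ⟨ha, hb, h1, h3⟩
  · obtain ⟨y, hy, hyu⟩ := exq Nat.prime_five (by norm_num) u hu
    exact ⟨(val3 u z hu hz hc).1, (key u y z hu hy hz hyu hc).2.1⟩

omit [Finite G] in
/-- The involution of a cyclic group of order four. -/
theorem eq_sq_of_mem_zpowers [Finite G] {w x : G} (hw : orderOf w = 4) (hx : orderOf x = 2)
    (h : x ∈ zpowers w) : x = w ^ 2 := by
  rw [← mem_powers_iff_mem_zpowers] at h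
  obtain ⟨i, rfl⟩ := h
  simp only at hx ⊢
  rw [← pow_mod_orderOf, hw] at hx ⊢
  have hi := Nat.mod_lt i (show 4 > 0 by norm_num)
  interval_cases hk : i % 4
  · simp at hx
  · rw [pow_one, hw] at hx; omega
  · rfl
  · exfalso
    rw [(show (orderOf w).Coprime 3 by rw [hw]; norm_num).orderOf_pow, hw] at hx
    omega

/-- The values of `(χ(g) - χ(g u)) / 2` at elements of order five and ten. -/
theorem row35_minus_five (hd : S.d = 35) (hp : S.p = 17) (hr : S.r = 120) (hv : S.a S.t = 3) (hδ : S.δ = 1)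
    {u y : G} (hu : orderOf u = 2) (hy : orderOf y = 5) (hc : Commute y u) :
    S.minus u y ^ 2 = 36 ∧ S.minus u (y * u) ^ 2 = 36 := by
  obtain ⟨ha, hb, -, -⟩ := (row35_local S hd hp hr hv hδ).1 u y hu hy hc
  have h1 := S.two_mul_minus hu hc
  have h2 := S.two_mul_minus hu (g := y * u) (hc.mul_left (Commute.refl u))
  rw [mul_assoc, ← pow_two, show u ^ 2 = 1 from hu ▸ pow_orderOf_eq_one u, mul_one] at h2
  rw [hc.eq, ha, hb] at h1 h2
  rw [hc.eq]
  exact ⟨by rw [show S.minus u y = 6 by omega]; norm_num,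
    by rw [show S.minus u (u * y) = -6 by omega]; norm_num⟩

set_option maxHeartbeats 800000 in
/-- An element `w` of order four with `χ(w) = -5` cannot commute with an element of order five. -/
theorem row35_four (hd : S.d = 35) (hp : S.p = 17) (hr : S.r = 120) (hv : S.a S.t = 3) (hδ : S.δ = 1)
    {w y : G} (hw : orderOf w = 4) (hy : orderOf y = 5) (hwy : Commute w y)
    (hc : Nat.card (centralizer ({w} : Set G)) = 160 ∨ Nat.card (centralizer ({w} : Set G)) = 320) :
    False := by
  classical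
  haveI : Fact (Nat.Prime 5) := ⟨Nat.prime_five⟩
  haveI : Fact (Nat.Prime 2) := ⟨Nat.prime_two⟩
  set u := w ^ 2 with hu_def
  have hu : orderOf u = 2 := by
    have := Setup.orderOf_pow_half (w := w) (m := 1) (by rw [hw]; norm_num)
    simpa using this
  set X := centralizer ({w} : Set G) with hX
  have hXu : ∀ g ∈ X, Commute g u := fun g hg =>
    (show Commute g w from mem_centralizer_singleton_iff.1 hg).pow_right 2
  have hwX : w ∈ X := mem_centralizer_singleton_iff.2 rfl
  have hyX : y ∈ X := mem_centralizer_singleton_iff.2 hwy.symm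
  have huX : u ∈ X := pow_mem hwX 2
  obtain ⟨-, -, hD, -⟩ := (row35_local S hd hp hr hv hδ).1 u y hu hy (hXu y hyX)
  set yX : X := ⟨y, hyX⟩ with hyX'
  set wX : X := ⟨w, hwX⟩ with hwX'
  have hyo : orderOf yX = 5 := by rw [hyX', Subgroup.orderOf_mk, hy]
  have hwo : orderOf wX = 4 := by rw [hwX', Subgroup.orderOf_mk, hw]
  have hwc : ∀ g : X, g * wX = wX * g := fun g => Subtype.ext (mem_centralizer_singleton_iff.1 g.2)
  have hC : Nat.card (centralizer ({yX} : Set X)) = 20 := by
    refine Nat.dvd_antisymm ?_ (Nat.Coprime.mul_dvd_of_dvd_of_dvd (by norm_num : Nat.Coprime 4 5) ?_ ?_)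
    · rw [card_centralizer_sub, ← hD]
      exact Subgroup.card_dvd_of_le fun g hg => ⟨mem_centralizer_singleton_iff.2 (hXu g hg.1), hg.2⟩
    · have h : wX ∈ centralizer ({yX} : Set X) := mem_centralizer_singleton_iff.2 (hwc yX).symm
      rw [← hwo, ← Subgroup.orderOf_mk wX h]; exact orderOf_dvd_natCard _
    · have h : yX ∈ centralizer ({yX} : Set X) := mem_centralizer_singleton_iff.2 rfl
      rw [← hyo, ← Subgroup.orderOf_mk yX h]; exact orderOf_dvd_natCard _
  obtain ⟨e, he, hN⟩ := card_normalizer (q := 5) hyo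
  rw [hC] at hN
  have he' : e = 1 ∨ e = 2 ∨ e = 4 := by
    have := Nat.le_of_dvd (by norm_num) he
    interval_cases e <;> first | omega | norm_num at he
  have hiN := Subgroup.card_mul_index (normalizer ((zpowers yX : Subgroup X) : Set X))
  rw [hN] at hiN
  have h320 : Nat.card X = 320 ∧ e = 1 := by
    rcases hc with h | h
    · exfalso
      have hi := index_normalizer (q := 5) (m := 32) (by rw [h]) (by norm_num) hyo
      rw [h] at hiN
      rcases he' with rfl | rfl | rfl <;> omega
    · have hi := index_normalizer (q := 5) (m := 64) (by rw [h]) (by norm_num) hyo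
      rw [h] at hiN
      refine ⟨h, ?_⟩
      rcases he' with rfl | rfl | rfl <;> omega
  obtain ⟨h320, rfl⟩ := h320
  rw [mul_one] at hN
  obtain ⟨R, hRn, hRi⟩ := exists_complement (q := 5) (m := 64) (by rw [h320]) (by norm_num) hyo
    (by rw [hN, hC])
  have hR : Nat.card R = 64 := by
    have := Subgroup.card_mul_index R
    rw [hRi, h320] at this
    omega
  have hwR : wX ∈ R := by
    rw [← QuotientGroup.eq_one_iff, ← orderOf_eq_one_iff]
    refine Nat.eq_one_of_dvd_coprimes (by norm_num : Nat.Coprime 5 4) ?_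
      (hwo ▸ orderOf_map_dvd (QuotientGroup.mk' R) wX)
    exact hRi ▸ Subgroup.index_eq_card R ▸ orderOf_dvd_natCard _
  have hfix : ∀ r ∈ R, Commute r yX → r ∈ zpowers wX := by
    intro r hr hry
    have hle : zpowers wX ≤ R ⊓ centralizer ({yX} : Set X) :=
      zpowers_le.2 ⟨hwR, mem_centralizer_singleton_iff.2 (hwc yX).symm⟩
    rw [Subgroup.eq_of_le_of_card_ge hle ?_]
    · exact ⟨hr, mem_centralizer_singleton_iff.2 hry⟩
    · rw [Nat.card_zpowers, hwo]
      refine Nat.le_of_dvd (by norm_num) ?_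
      have := Nat.dvd_gcd (Subgroup.card_dvd_of_le (inf_le_left : R ⊓ centralizer ({yX} : Set X) ≤ R))
        (Subgroup.card_dvd_of_le (inf_le_right : R ⊓ centralizer ({yX} : Set X) ≤ _))
      rw [hR, hC] at this
      exact this
  have hsq := sq_mem_fixed hR hyo hwo hwR (mem_center_iff.2 hwc) hfix
  set b : X → ℤ := fun g => S.minus u (g : G) with hb
  have hchar : IsCharacter X (fun g : X => (b g : ℂ)) :=
    IsChar.comp (Subgroup.inclusion (centralizer_le_pow w 2)) (S.minus_isCharacter hu)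
  have h1 : b 1 = 16 := by
    have := S.minus_one hu
    rw [hd, hv] at this
    push_cast at this
    simp only [hb, Subgroup.coe_one]
    omega
  set uX : X := ⟨u, huX⟩ with huX'
  have huo : orderOf uX = 2 := by rw [huX', Subgroup.orderOf_mk, hu]
  have hu1 : b uX = -16 := by
    simp only [hb, huX'] at h1 ⊢
    rw [S.minus_self hu]
    simpa using h1
  have huR : uX ∈ R := by
    have : uX = wX ^ 2 := Subtype.ext rfl
    rw [this]
    exact pow_mem hwR 2
  haveI : Fintype R := Fintype.ofFinite R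
  haveI : Fintype X := Fintype.ofFinite X
  have hzero : ∀ r : R, r ≠ 1 → r ≠ ⟨uX, huR⟩ → b r = 0 := by
    intro r hr1 hru
    obtain ⟨j, hj⟩ := (IsPGroup.iff_orderOf.1 (IsPGroup.of_card (p := 2) (n := 6) (by rw [hR]; norm_num))) r
    have hrG : orderOf ((r : X) : G) = 2 ^ j := by rw [Subgroup.orderOf_coe, Subgroup.orderOf_coe, hj]
    have hsqG : ((r : X) : G) ^ 2 ∈ zpowers w := by
      obtain ⟨i, hi⟩ := mem_zpowers_iff.1 (hsq r r.2)
      exact mem_zpowers_iff.2 ⟨i, by simpa [hwX'] using congrArg Subtype.val hi⟩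
    match j, hj, hrG with
    | 0, hj, _ => exact absurd (orderOf_eq_one_iff.1 (by simpa using hj)) hr1
    | 1, _, hrG =>
      exact S.minus_invol_eq_zero hu (by simpa using hrG) (hXu _ (r : X).2)
        fun e => hru (Subtype.ext (Subtype.ext e))
    | m + 2, _, hrG =>
      refine S.minus_half_eq_zero hrG ?_
      refine eq_sq_of_mem_zpowers hw (Setup.orderOf_pow_half hrG) ?_
      rw [pow_succ', pow_mul]
      exact pow_mem hsqG _
  have hne : (1 : R) ≠ ⟨uX, huR⟩ := fun e => by
    have e' : (1 : X) = uX := congrArg Subtype.val e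
    rw [← e', orderOf_one] at huo
    norm_num at huo
  have hsumR : ∑ r : R, b (r : X) ^ 2 = 512 := by
    rw [Finset.sum_eq_add (1 : R) ⟨uX, huR⟩ hne
      (fun r _ hr => by rw [hzero r hr.1 hr.2, zero_pow two_ne_zero])
      (fun h => absurd (Finset.mem_univ _) h) (fun h => absurd (Finset.mem_univ _) h),
      Subgroup.coe_one, h1, hu1]
    norm_num
  have hupper := char_norm_res hchar (b := b) (fun _ => rfl) R
  have hlower := class_sum_bound (y := yX) hyo huo (fun g => Subtype.ext (hXu g g.2))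
    (by rw [hN, hC]; norm_num) (n := 16) (by rw [hC, h320]) (fun g => b g ^ 2) (fun g => sq_nonneg _)
    (A := 36) fun x hx => row35_minus_five S hd hp hr hv hδ hu (by rw [Subgroup.orderOf_coe, hx]) (hXu x x.2)
  rw [hsumR, hR, h320] at hupper
  simp only [h1, hu1] at hlower
  push_cast at hupper hlower
  linarith

set_option maxHeartbeats 800000 in
/-- The values at elements of 2-power order at least four. -/
theorem row35_value (hd : S.d = 35) (hp : S.p = 17) (hr : S.r = 120) (hv : S.a S.t = 3) (hδ : S.δ = 1)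
    {w : G} {m : ℕ} (hw : orderOf w = 2 ^ (m + 2)) : -3 ≤ S.a w ∧ S.a w ≤ 3 := by
  haveI : Fact (Nat.Prime 5) := ⟨Nat.prime_five⟩
  haveI : Fact (Nat.Prime 3) := ⟨Nat.prime_three⟩
  obtain ⟨h5, h3⟩ := row35_local S hd hp hr hv hδ
  set u := w ^ 2 ^ (m + 1)
  have hu : orderOf u = 2 := Setup.orderOf_pow_half hw
  have hwu : Commute w u := (Commute.refl w).pow_right _
  have hne : w ≠ 1 := fun e => by
    rw [e, orderOf_one] at hw
    exact (Nat.one_lt_two_pow (by omega)).ne hw
  have hC : Nat.card (centralizer ({S.t} : Set G)) = 3840 := by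
    rw [S.cen_t_nat, hd, hr, hv]; rfl
  have hct : Nat.card (centralizer ({w} : Set G)) ∣ 3840 := hC ▸ S.cen_dvd_t hw
  obtain ⟨h1, h2, h4⟩ := S.bound hu hwu hne (by norm_num) hct
  rw [hp, hδ, one_mul] at h1 h2
  rw [hd, hr] at h4
  norm_num at h1 h2
  push_cast at h4
  have hodd := S.a_congr_d (n := m + 2) Nat.prime_two (by rw [← hw, pow_orderOf_eq_one])
  rw [hd] at hodd
  simp only [Int.ModEq] at hodd
  push_cast at hodd
  have hlo : -21 ≤ S.a w := by nlinarith
  have hhi : S.a w ≤ 19 := by nlinarith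
  set c := Nat.card (centralizer ({w} : Set G))
  have hgcd : c ∣ Nat.gcd 3840 (120 * (35 - S.a w)).natAbs := Nat.dvd_gcd hct (Int.natCast_dvd.1 h4)
  have hle : (c : ℤ) ≤ (Nat.gcd 3840 (120 * (35 - S.a w)).natAbs : ℤ) :=
    Int.ofNat_le.2 (Nat.le_of_dvd (Nat.gcd_pos_of_pos_left _ (by norm_num)) hgcd)
  have hcases : (S.a w = -13 ∧ c = 1920) ∨ (S.a w = -5 ∧ c ∣ 960 ∧ 154 ≤ c) ∨
      (-3 ≤ S.a w ∧ S.a w ≤ 3) := by
    generalize S.a w = a at *
    interval_cases a
    all_goals try norm_num at hodd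
    all_goals norm_num at h2 hle hgcd ⊢
    all_goals first
      | omega
      | (obtain ⟨k, hk⟩ := hgcd
         have hk1 : k ≤ 1 := by nlinarith
         interval_cases k <;> omega)
      | exact ⟨hgcd, by omega⟩
  -- elements of order five centralizing `w`
  have five : 5 ∣ c → m = 0 ∧ (S.a w % 5 = 3 ∨ S.a w % 5 = 0) ∧ ∃ y, orderOf y = 5 ∧ Commute w y := by
    intro hdvd
    obtain ⟨⟨y, hyC⟩, hy⟩ := exists_prime_orderOf_dvd_card' 5 hdvd
    rw [Subgroup.orderOf_mk] at hy
    have hwy : Commute w y := (show Commute y w from mem_centralizer_singleton_iff.1 hyC).symm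
    obtain ⟨hay, -, hD, -⟩ := h5 u y hu hy (hwy.symm.pow_right _)
    have hwD : w ∈ centralizer ({u} : Set G) ⊓ centralizer ({y} : Set G) :=
      ⟨mem_centralizer_singleton_iff.2 hwu, mem_centralizer_singleton_iff.2 hwy⟩
    have hm : 2 ^ (m + 2) ∣ 20 := by
      rw [← hw, ← hD, ← Subgroup.orderOf_mk w hwD]; exact orderOf_dvd_natCard _
    refine ⟨?_, ?_, y, hy, hwy⟩
    · by_contra h
      have h8 := (pow_dvd_pow 2 (show 3 ≤ m + 2 by omega)).trans hm
      norm_num at h8
    have hcen : centralizer ({w * y} : Set G) ≤ centralizer ({u} : Set G) ⊓ centralizer ({y} : Set G) := by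
      rw [cen_mul hwy (by rw [hw, hy]; exact (Nat.Coprime.pow_left _ (by norm_num)))]
      exact inf_le_inf_right _ (centralizer_le_pow w _)
    have hwy1 : w * y ≠ 1 := fun e => by
      have := hwy.orderOf_mul_eq_mul_orderOf_of_coprime
        (by rw [hw, hy]; exact (Nat.Coprime.pow_left _ (by norm_num)))
      rw [e, orderOf_one, hy] at this
      omega
    obtain ⟨hb, -, -⟩ := S.bound (g := w * y) hu (hwu.mul_left (hwy.symm.pow_right _)) hwy1
      (by norm_num) ((Subgroup.card_dvd_of_le hcen).trans hD.dvd)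
    rw [hp, hδ, one_mul] at hb
    norm_num at hb
    have e2 := S.a_congr_mul (n := m + 2) Nat.prime_two hwy (by rw [← hw, pow_orderOf_eq_one])
    have e5 := S.a_congr_mul (n := 1) Nat.prime_five hwy.symm (by rw [pow_one, ← hy, pow_orderOf_eq_one])
    rw [hay] at e2
    rw [← hwy.eq] at e5
    simp only [Int.ModEq] at e2 e5
    push_cast at e2 e5
    have h0 : -2 ≤ S.a (w * y) := by nlinarith
    have h0' : S.a (w * y) ≤ 0 := by nlinarith
    interval_cases S.a (w * y) <;> omega
  have three : 3 ∣ c → S.a w % 3 = 0 := by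
    intro hdvd
    obtain ⟨⟨z, hzC⟩, hz⟩ := exists_prime_orderOf_dvd_card' 3 hdvd
    rw [Subgroup.orderOf_mk] at hz
    have hwz : Commute w z := (show Commute z w from mem_centralizer_singleton_iff.1 hzC).symm
    obtain ⟨haz, hE⟩ := h3 u z hu hz (hwz.symm.pow_right _)
    have hcen : centralizer ({w * z} : Set G) ≤ centralizer ({u} : Set G) ⊓ centralizer ({z} : Set G) := by
      rw [cen_mul hwz (by rw [hw, hz]; exact (Nat.Coprime.pow_left _ (by norm_num)))]
      exact inf_le_inf_right _ (centralizer_le_pow w _)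
    have hwz1 : w * z ≠ 1 := fun e => by
      have := hwz.orderOf_mul_eq_mul_orderOf_of_coprime
        (by rw [hw, hz]; exact (Nat.Coprime.pow_left _ (by norm_num)))
      rw [e, orderOf_one, hz] at this
      omega
    obtain ⟨hb, -, -⟩ := S.bound (g := w * z) hu (hwu.mul_left (hwz.symm.pow_right _)) hwz1
      (by norm_num) ((Subgroup.card_dvd_of_le hcen).trans hE.dvd)
    rw [hp, hδ, one_mul] at hb
    norm_num at hb
    have e2 := S.a_congr_mul (n := m + 2) Nat.prime_two hwz (by rw [← hw, pow_orderOf_eq_one])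
    have e3 := S.a_congr_mul (n := 1) Nat.prime_three hwz.symm (by rw [pow_one, ← hz, pow_orderOf_eq_one])
    rw [haz] at e2
    rw [← hwz.eq] at e3
    simp only [Int.ModEq] at e2 e3
    push_cast at e2 e3
    have h0 : -1 ≤ S.a (w * z) := by nlinarith
    have h0' : S.a (w * z) ≤ 0 := by nlinarith
    omega
  rcases hcases with ⟨ha, hc⟩ | ⟨ha, hc, hc'⟩ | h
  · exfalso
    obtain ⟨-, hmod, -⟩ := five (by rw [hc]; norm_num)
    omega
  · exfalso
    have h3c : ¬ 3 ∣ c := fun h => by have := three h; omega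
    have h320 : c ∣ 320 := ((Nat.Prime.coprime_iff_not_dvd Nat.prime_three).2 h3c).symm.dvd_of_dvd_mul_left
      (show c ∣ 3 * 320 from hc)
    have hc2 : c = 160 ∨ c = 320 := by
      obtain ⟨k, hk⟩ := h320
      have : k ≤ 2 := by nlinarith
      interval_cases k <;> omega
    obtain ⟨rfl, -, y, hy, hwy⟩ := five (by rcases hc2 with h | h <;> rw [h] <;> norm_num)
    exact row35_four S hd hp hr hv hδ (by rw [hw]; norm_num) hy hwy hc2
  · exact h

set_option maxHeartbeats 800000 in
theorem row35 [IsSimpleGroup G] (hd : S.d = 35) (hp : S.p = 17) (hr : S.r = 120) (hv : S.a S.t = 3) :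
    False := by
  classical
  have hδ : S.δ = 1 := by
    rcases S.hδ with h | h
    · exact h
    · have := S.hdp
      rw [h, hp, hd] at this
      norm_num at this
  haveI : Fact (Nat.Prime 5) := ⟨Nat.prime_five⟩
  haveI : Fact (Nat.Prime 2) := ⟨Nat.prime_two⟩
  have hC : Nat.card (centralizer ({S.t} : Set G)) = 3840 := by
    rw [S.cen_t_nat, hd, hr, hv]; rfl
  set L := centralizer ({S.t} : Set G) with hLdef
  have hLt : ∀ g : L, Commute (g : G) S.t := fun g => mem_centralizer_singleton_iff.1 g.2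
  set tL : L := ⟨S.t, mem_centralizer_singleton_iff.2 rfl⟩ with htL
  have hto : orderOf tL = 2 := by rw [htL, Subgroup.orderOf_mk, S.ht]
  set b : L → ℤ := fun g => S.minus S.t (g : G) with hb
  have hchar : IsCharacter L (fun g : L => (b g : ℂ)) := S.minus_isCharacter S.ht
  have h1 : b 1 = 16 := by
    have := S.minus_one S.ht
    rw [hd, hv] at this
    push_cast at this
    simp only [hb, Subgroup.coe_one]
    omega
  have ht1 : b tL = -16 := by
    simp only [hb, htL] at h1 ⊢
    rw [S.minus_self S.ht]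
    simpa using h1
  obtain ⟨y, hy⟩ := exists_prime_orderOf_dvd_card' (G := L) 5 (by rw [hC]; norm_num)
  obtain ⟨-, -, hD, hN⟩ := (row35_local S hd hp hr hv hδ).1 S.t y S.ht
    (by rw [Subgroup.orderOf_coe, hy]) (hLt y)
  have hcy : Nat.card (centralizer ({y} : Set L)) = 20 := by rw [card_centralizer_sub]; exact hD
  haveI : Fintype L := Fintype.ofFinite L
  have hlower := class_sum_bound hy hto (fun g => Subtype.ext (hLt g))
    (by rw [hN y.2, hcy]) (n := 192) (by rw [hcy, hC]) (fun g => b g ^ 2) (fun g => sq_nonneg _)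
    (A := 36) fun x hx => row35_minus_five S hd hp hr hv hδ S.ht (by rw [Subgroup.orderOf_coe, hx]) (hLt x)
  -- a subgroup of order 256
  obtain ⟨R, hR⟩ := Sylow.exists_subgroup_card_pow_prime (G := L) 2 (n := 8) (by rw [hC]; norm_num)
  haveI : Fintype R := Fintype.ofFinite R
  have hRp : IsPGroup 2 R := IsPGroup.of_card hR
  have hval : ∀ r : L, r ∈ R → r ≠ 1 → r ≠ tL → b r ^ 2 ≤ 4 := by
    intro r hr' hr1 hrt
    obtain ⟨j, hj⟩ := (IsPGroup.iff_orderOf.1 hRp) ⟨r, hr'⟩
    rw [Subgroup.orderOf_mk] at hj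
    have hrG : orderOf (r : G) = 2 ^ j := by rw [Subgroup.orderOf_coe, hj]
    match j, hj, hrG with
    | 0, hj, _ => exact absurd (orderOf_eq_one_iff.1 (by simpa using hj)) hr1
    | 1, _, hrG =>
      simp only [hb]
      rw [S.minus_invol_eq_zero S.ht (by simpa using hrG) (hLt r) fun e => hrt (Subtype.ext e)]
      norm_num
    | m + 2, hj, hrG =>
      by_cases hhalf : (r : G) ^ 2 ^ (m + 1) = S.t
      · simp only [hb]
        rw [S.minus_half_eq_zero hrG hhalf]
        norm_num
      have hrt2 : orderOf ((r : G) * S.t) = 2 ^ (m + 1 + 1) := by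
        refine orderOf_eq_prime_pow ?_ ?_
        · rw [(hLt r).mul_pow, pow_succ' 2 m, pow_mul S.t, ← S.ht, pow_orderOf_eq_one, one_pow, mul_one,
            S.ht, ← pow_succ']
          exact fun e => Nat.not_lt.2 (Nat.le_of_dvd (pow_pos two_pos _) (orderOf_dvd_of_pow_eq_one e))
            (hrG ▸ Nat.pow_lt_pow_right (by norm_num) (by omega))
        · rw [(hLt r).mul_pow, pow_succ' 2 (m + 1), pow_mul S.t, ← S.ht, pow_orderOf_eq_one, one_pow,
            mul_one, S.ht, ← pow_succ', ← hrG, pow_orderOf_eq_one]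
      obtain ⟨a1, a2⟩ := row35_value S hd hp hr hv hδ hrG
      obtain ⟨c1, c2⟩ := row35_value S hd hp hr hv hδ hrt2
      have e := S.two_mul_minus S.ht (hLt r)
      have hcong : ∀ k : ℕ, b (r ^ 2 ^ k) ≡ b r [ZMOD 2] := by
        intro k
        induction k with
        | zero => rw [pow_zero, pow_one]
        | succ k ih =>
          rw [pow_succ, pow_mul]
          exact (char_congr_pow hchar (fun _ => rfl) _ Nat.prime_two).trans ih
      have hv0 : b (r ^ 2 ^ (m + 1)) = 0 := by
        simp only [hb, Subgroup.coe_pow]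
        exact S.minus_invol_eq_zero S.ht (Setup.orderOf_pow_half hrG) ((hLt r).pow_left _) hhalf
      have h2 := hcong (m + 1)
      rw [hv0] at h2
      simp only [Int.ModEq] at h2
      have hb1 : -2 ≤ b r := by simp only [hb] at h2 ⊢; omega
      have hb2 : b r ≤ 2 := by simp only [hb] at h2 ⊢; omega
      nlinarith
  have hupperR : ∑ r : R, b (r : L) ^ 2 ≤ 1528 := by
    set s : Finset R := Finset.univ.filter (fun r => (r : L) = 1 ∨ (r : L) = tL) with hs
    have hs2 : s.card ≤ 2 := by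
      refine (Finset.card_le_card_of_injOn (fun r : R => (r : L)) (t := {1, tL}) ?_ ?_).trans
        Finset.card_le_two
      · intro r hr'
        simpa [hs] using hr'
      · exact Subtype.val_injective.injOn
    rw [← Finset.sum_add_sum_compl s]
    have hA : ∑ r ∈ s, b (r : L) ^ 2 ≤ s.card • (256 : ℤ) := by
      refine Finset.sum_le_card_nsmul _ _ _ fun r hr' => ?_
      simp only [hs, Finset.mem_filter, Finset.mem_univ, true_and] at hr'
      rcases hr' with e | e <;> rw [e]
      · rw [h1]; norm_num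
      · rw [ht1]; norm_num
    have hB : ∑ r ∈ sᶜ, b (r : L) ^ 2 ≤ sᶜ.card • (4 : ℤ) := by
      refine Finset.sum_le_card_nsmul _ _ _ fun r hr' => ?_
      simp only [hs, Finset.mem_compl, Finset.mem_filter, Finset.mem_univ, true_and, not_or] at hr'
      exact hval r r.2 hr'.1 hr'.2
    rw [Finset.card_compl, ← Nat.card_eq_fintype_card, hR] at hB
    simp only [nsmul_eq_mul] at hA hB
    rw [Nat.cast_sub (by omega)] at hB
    push_cast at hA hB
    have : (s.card : ℤ) ≤ 2 := by exact_mod_cast hs2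
    linarith
  have hupper := char_norm_res hchar (b := b) (fun _ => rfl) R
  rw [hC, hR] at hupper
  simp only [h1, ht1] at hlower
  push_cast at hupper hlower
  linarith

end Cfsg.Agent.Block.OnePrime
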