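import Cfsg.Agent.Lib.Block.OnePrime.UnitR
import Cfsg.Agent.Lib.Block.Order168Classes
import Cfsg.Agent.Lib.Transfer.NormalComplement
import Cfsg.Agent.Lib.Fus.SelfCentThree.Engel

/-!
For `r = 1`: composite degrees, the classes of zeros, small centralizers of involutions, and an
abelian Sylow subgroup for the largest degree.
-/

namespace Cfsg.Agent.Block.OnePrime

open scoped commutatorElement
open Cfsg Subgroup

set_option linter.style.haveILetI false

universe u

variable {G : Type u} [Group G] [Finite G] (S : Setup G)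

/-- A class of zeros has at least `p d0` elements, at least `q p d0` if it is not of centralizer order `d`. -/
theorem Setup.zero_class [IsSimpleGroup G] (hr : S.r = 1) {x : G} (h0 : S.a x = 0) :
    S.p * S.d0 ≤ Nat.card {g : G // IsConj x g} ∧
      (Nat.card (centralizer ({x} : Set G)) ≠ S.d →
        ∃ m, 2 ≤ m ∧ m ∣ S.d ∧ Nat.card {g : G // IsConj x g} = m * (S.p * S.d0)) := by
  obtain ⟨-, -, m, hm⟩ := S.zero_cen hr h0
  have hc := Cfsg.Agent.Block.card_conj_mul_centralizer x
  have hpos : 0 < Nat.card (centralizer ({x} : Set G)) := Nat.card_pos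
  have hK : Nat.card {g : G // IsConj x g} = m * (S.p * S.d0) := by
    refine Nat.eq_of_mul_eq_mul_right hpos ?_
    rw [hc, S.card_of_one hr, hm]
    ring
  have hm0 : 0 < m := Nat.pos_of_ne_zero fun h => by
    have := S.hd2
    rw [h, mul_zero] at hm
    omega
  refine ⟨by rw [hK]; exact Nat.le_mul_of_pos_left _ hm0, fun hne => ⟨m, ?_, hm ▸ dvd_mul_left m _, hK⟩⟩
  by_contra h2
  rw [show m = 1 by omega, mul_one] at hm
  exact hne hm.symm

/-- Nonconjugate zeros. -/
theorem Setup.zero_classes [IsSimpleGroup G] (hr : S.r = 1) (l : List G) (h0 : ∀ x ∈ l, S.a x = 0)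
    (hpair : l.Pairwise fun x y => ¬ IsConj x y) :
    (l.map fun x => Nat.card {g : G // IsConj x g}).sum + 1 ≤ S.d ^ 2 := by
  classical
  haveI := Fintype.ofFinite G
  rw [← S.card_zero hr, Nat.add_le_add_iff_right]
  suffices h : ∀ l : List G, l.Pairwise (fun x y => ¬ IsConj x y) →
      (l.map fun x => Nat.card {g : G // IsConj x g}).sum =
        (Finset.univ.filter fun g : G => ∃ x ∈ l, IsConj x g).card by
    rw [h l hpair, Nat.card_eq_fintype_card, Fintype.card_subtype]
    refine Finset.card_le_card fun g hg => ?_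
    obtain ⟨x, hx, hxg⟩ := (Finset.mem_filter.1 hg).2
    exact Finset.mem_filter.2 ⟨Finset.mem_univ _, (S.a_isConj hxg).trans (h0 x hx)⟩
  intro l hl
  induction l with
  | nil => simp
  | cons x l ih =>
    rw [List.pairwise_cons] at hl
    rw [List.map_cons, List.sum_cons, ih hl.2, Nat.card_eq_fintype_card, Fintype.card_subtype,
      ← Finset.card_union_of_disjoint]
    · congr 1
      ext g
      simp
    · refine Finset.disjoint_filter.2 fun g _ hxg => ?_
      rintro ⟨y, hy, hyg⟩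
      exact hl.1 y hy (hxg.trans hyg.symm)

theorem Setup.zero_of_dvd (hr : S.r = 1) {x : G} {q : ℕ} (hq : q.Prime) (hqd : q ∣ S.d)
    (hxp : ¬ S.p ∣ orderOf x) (hqx : q ∣ orderOf x) : S.a x = 0 :=
  S.const_d q hq (hr ▸ hq.not_dvd_one) hqd x hxp hqx

/-- For `h ≤ 2` the degree has one prime divisor. -/
theorem Setup.not_composite [IsSimpleGroup G] (hr : S.r = 1) {q l : ℕ} (hq : q.Prime) (hl : l.Prime)
    (hql : q ≠ l) (hqd : q ∣ S.d) (hld : l ∣ S.d) (hsmall : S.d ^ 2 ≤ 3 * (S.p * S.d0)) : False := by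
  haveI := Fact.mk hq
  haveI := Fact.mk hl
  have hdG : S.d ∣ Nat.card G := by rw [S.card_of_one hr]; exact Dvd.dvd.mul_right (dvd_mul_left _ _) _
  obtain ⟨x, hx⟩ := exists_prime_orderOf_dvd_card' q (hqd.trans hdG)
  obtain ⟨y, hy⟩ := exists_prime_orderOf_dvd_card' l (hld.trans hdG)
  have hzero : ∀ {g : G} {n : ℕ}, orderOf g = n → q ∣ n ∨ l ∣ n → (∀ r : ℕ, r.Prime → r ∣ n → r ∣ S.d) →
      S.a g = 0 := by
    intro g n hg hdiv hall
    have hgp : ¬ S.p ∣ orderOf g := fun h => S.not_dvd_d (hall _ S.hp (hg ▸ h))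
    rcases hdiv with h | h
    · exact S.zero_of_dvd hr hq hqd hgp (hg ▸ h)
    · exact S.zero_of_dvd hr hl hld hgp (hg ▸ h)
  have hsub : ∀ r : ℕ, r.Prime → r ∣ q * l → r ∣ S.d := by
    intro r hr' h
    rcases hr'.dvd_mul.1 h with h | h
    · exact (Nat.prime_dvd_prime_iff_eq hr' hq).1 h ▸ hqd
    · exact (Nat.prime_dvd_prime_iff_eq hr' hl).1 h ▸ hld
  have hx0 := hzero hx (Or.inl dvd_rfl) fun r h1 h2 => hsub r h1 (h2.mul_right l)
  have hy0 := hzero hy (Or.inr dvd_rfl) fun r h1 h2 => hsub r h1 (h2.mul_left q)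
  have hnc : ∀ {g g' : G} {m n : ℕ}, orderOf g = m → orderOf g' = n → m ≠ n → ¬ IsConj g g' := by
    intro g g' m n hg hg' hmn h
    obtain ⟨c, rfl⟩ := isConj_iff.1 h
    rw [Invol.orderOf_conj_eq] at hg'
    exact hmn (hg ▸ hg')
  have hpd : 0 < S.p * S.d0 := Nat.mul_pos S.hp.pos S.d0_pos
  obtain ⟨hx1, hx2⟩ := S.zero_class hr hx0
  have hy1 := (S.zero_class hr hy0).1
  by_cases hcx : Nat.card (centralizer ({x} : Set G)) = S.d
  · obtain ⟨⟨y', hy'c⟩, hy'⟩ := exists_prime_orderOf_dvd_card' (G := centralizer ({x} : Set G)) l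
      (hcx.symm ▸ hld)
    rw [Subgroup.orderOf_mk] at hy'
    have hxy : Commute x y' := (mem_centralizer_singleton_iff.1 hy'c).symm
    have hco : orderOf (x * y') = q * l := by
      rw [hxy.orderOf_mul_eq_mul_orderOf_of_coprime (by rw [hx, hy']; exact (Nat.coprime_primes hq hl).2 hql),
        hx, hy']
    have hz0 := hzero hco (Or.inl (dvd_mul_right q l)) hsub
    have hz1 := (S.zero_class hr hz0).1
    have h := S.zero_classes hr [x, y, x * y'] (by simp [hx0, hy0, hz0]) (by
      have h1 : ¬ IsConj x y := hnc hx hy hql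
      have h2 : ¬ IsConj x (x * y') := hnc hx hco fun h => hl.ne_one (by
        nth_rw 1 [← mul_one q] at h
        exact (Nat.eq_of_mul_eq_mul_left hq.pos h).symm)
      have h3 : ¬ IsConj y (x * y') := hnc hy hco fun h => hq.ne_one (by
        nth_rw 1 [← one_mul l] at h
        exact (Nat.eq_of_mul_eq_mul_right hl.pos h).symm)
      simp [-isConj_iff, h1, h2, h3])
    simp only [List.map_cons, List.map_nil, List.sum_cons, List.sum_nil] at h
    omega
  · obtain ⟨m, hm, -, hm'⟩ := hx2 hcx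
    have h := S.zero_classes hr [x, y] (by simp [hx0, hy0]) (by simp [-isConj_iff, hnc hx hy hql])
    simp only [List.map_cons, List.map_nil, List.sum_cons, List.sum_nil] at h
    have h5 := Nat.mul_le_mul_right (S.p * S.d0) hm
    omega

/-- For an odd prime power degree with few classes of zeros the centralizer order of a zero is `d`. -/
theorem Setup.zero_cen_eq [IsSimpleGroup G] (hr : S.r = 1) {q k : ℕ} (hq : q.Prime) (hd : S.d = q ^ k)
    (hsmall : S.d ^ 2 ≤ q * (S.p * S.d0)) {x : G} (h0 : S.a x = 0) :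
    Nat.card (centralizer ({x} : Set G)) = S.d := by
  by_contra hcx
  obtain ⟨m, hm, hmd, hm'⟩ := (S.zero_class hr h0).2 hcx
  have h := S.zero_classes hr [x] (by simp [h0]) (by simp)
  simp only [List.map_cons, List.map_nil, List.sum_cons, List.sum_nil] at h
  obtain ⟨j, -, rfl⟩ := (Nat.dvd_prime_pow hq).1 (hd ▸ hmd)
  have h5 : q ≤ q ^ j := Nat.le_self_pow (fun e => by rw [e, pow_zero] at hm; omega) q
  have := Nat.mul_le_mul_right (S.p * S.d0) h5
  omega

/-- A group of order `2 ^ (a + 1) * l ^ b` with a central involution and a forced normal Sylow `l`-subgroup. -/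
theorem npc_of_central {C : Type*} [Group C] [Finite C] {a b l : ℕ} [Fact l.Prime] (hl2 : l ≠ 2)
    (hC : Nat.card C = 2 ^ (a + 1) * l ^ b) {z : C} (hz : orderOf z = 2) (hzc : ∀ g, Commute z g)
    (hone : ∀ j ≤ a, 2 ^ j % l = 1 → j = 0) : HasNormalPComplement 2 C := by
  classical
  have hl : l.Prime := Fact.out
  haveI : Fact (Nat.Prime 2) := ⟨Nat.prime_two⟩
  obtain ⟨P⟩ : Nonempty (Sylow l C) := inferInstance
  have hcop : Nat.Coprime 2 l := (Nat.coprime_primes Nat.prime_two hl).2 hl2.symm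
  have hP : Nat.card (P : Subgroup C) = l ^ b := by
    rw [P.card_eq_multiplicity, hC, Nat.factorization_mul (pow_ne_zero _ two_ne_zero)
      (pow_ne_zero _ hl.ne_zero), Finsupp.add_apply, Nat.Prime.factorization_pow hl, Finsupp.single_eq_same,
      Nat.factorization_eq_zero_of_not_dvd (fun h => hl.ne_one
        (Nat.eq_one_of_dvd_coprimes (Nat.Coprime.pow_left _ hcop) h dvd_rfl)), zero_add]
  have hzN : z ∈ normalizer ((P : Subgroup C) : Set C) := Subgroup.mem_normalizer_iff.2 fun g => by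
    rw [(hzc g).eq, mul_inv_cancel_right]
  have h2 : 2 ∣ Nat.card (normalizer ((P : Subgroup C) : Set C)) := hz ▸ Subgroup.orderOf_dvd_natCard _ hzN
  have hPN : l ^ b ∣ Nat.card (normalizer ((P : Subgroup C) : Set C)) :=
    hP ▸ Subgroup.card_dvd_of_le Subgroup.le_normalizer
  obtain ⟨w, hw⟩ := (Nat.Coprime.pow_right b hcop).mul_dvd_of_dvd_of_dvd h2 hPN
  have hidx := (normalizer ((P : Subgroup C) : Set C)).card_mul_index
  have hdvd : (normalizer ((P : Subgroup C) : Set C)).index ∣ 2 ^ a := by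
    refine ⟨w, ?_⟩
    rw [hC, hw, pow_succ] at hidx
    refine Nat.eq_of_mul_eq_mul_left (Nat.mul_pos two_pos (pow_pos hl.pos b)) ?_
    linarith
  obtain ⟨j, hj, hj'⟩ := (Nat.dvd_prime_pow Nat.prime_two).1 hdvd
  have hn : Nat.card (Sylow l C) ≡ 1 [MOD l] := card_sylow_modEq_one l C
  rw [P.card_eq_index_normalizer.trans hj', Nat.ModEq, Nat.mod_eq_of_lt hl.one_lt] at hn
  rw [hone j hj hn, pow_zero, Subgroup.index_eq_one] at hj'
  haveI : (P : Subgroup C).Normal := Subgroup.normalizer_eq_top_iff.1 hj'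
  refine Transfer.hasNormalPComplement_iff_exists.2 ⟨P, inferInstance, ?_, a + 1, ?_⟩
  · rw [hP]
    exact fun h => hl2.symm ((Nat.prime_dvd_prime_iff_eq Nat.prime_two hl).1 (Nat.prime_two.dvd_of_dvd_pow h))
  · refine Nat.eq_of_mul_eq_mul_left (pow_pos hl.pos b) ?_
    rw [← hP, Subgroup.card_mul_index, hC, hP, mul_comm]

/-- The involution centralizers are 2-nilpotent when their common order has such a shape. -/
theorem Setup.npc_invol (hr : S.r = 1) {a b l : ℕ} [Fact l.Prime] (hl2 : l ≠ 2)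
    (hw : (S.d : ℤ) - S.a S.t = ((2 ^ (a + 1) * l ^ b : ℕ) : ℤ))
    (hone : ∀ j ≤ a, 2 ^ j % l = 1 → j = 0) (x : G) (hx : orderOf x = 2) :
    HasNormalPComplement 2 (centralizer ({x} : Set G)) := by
  have h := S.cen_t
  rw [hr, hw, Nat.cast_one, one_mul] at h
  have h' : Nat.card (centralizer ({S.t} : Set G)) = 2 ^ (a + 1) * l ^ b := by exact_mod_cast h
  refine npc_of_central (b := b) hl2 (z := ⟨x, mem_centralizer_singleton_iff.2 rfl⟩) ?_ ?_ ?_ hone
  · rw [card_centralizer_conj (S.hconj x hx), h']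
  · rw [Subgroup.orderOf_mk, hx]
  · exact fun g => Subtype.ext (mem_centralizer_singleton_iff.1 g.2).symm

/-- An abelian Sylow subgroup for `d = 2401`. -/
theorem Setup.abelian_2401 [IsSimpleGroup G] (hr : S.r = 1) (hd : S.d = 2401) (hd0 : S.d0 = 2400)
    (hp : S.p = 1201) (R : Sylow 7 G) : IsMulCommutative (R : Subgroup G) := by
  classical
  haveI : Fact (Nat.Prime 7) := ⟨by norm_num⟩
  haveI := Fintype.ofFinite (Sylow 7 G)
  have hcard : Nat.card G = 7 ^ 4 * 2882400 := by rw [S.card_of_one hr, hd, hd0, hp]; norm_num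
  have hR : ∀ T : Sylow 7 G, Nat.card (T : Subgroup G) = 7 ^ 4 := fun T => by
    rw [T.card_eq_multiplicity, hcard, Nat.factorization_mul (by norm_num) (by norm_num), Finsupp.add_apply,
      Nat.Prime.factorization_pow (by norm_num), Finsupp.single_eq_same,
      Nat.factorization_eq_zero_of_not_dvd (by norm_num), add_zero]
  have hd7 : S.d = 7 ^ 4 := by rw [hd]; norm_num
  have hzero : ∀ {g : G}, g ≠ 1 → g ^ 7 ^ 4 = 1 →
      S.a g = 0 ∧ Nat.card (centralizer ({g} : Set G)) = 7 ^ 4 := by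
    intro g hg h
    obtain ⟨j, -, hj⟩ := (Nat.dvd_prime_pow (by norm_num : Nat.Prime 7)).1 (orderOf_dvd_of_pow_eq_one h)
    have hj0 : j ≠ 0 := fun h0 => hg (orderOf_eq_one_iff.1 (by rw [hj, h0, pow_zero]))
    have ha := S.zero_of_dvd hr (x := g) (by norm_num : Nat.Prime 7) (hd7 ▸ dvd_pow_self 7 (by norm_num))
      (fun hdiv => by
        have := S.hp.dvd_of_dvd_pow (hj ▸ hdiv)
        rw [hp] at this
        norm_num at this)
      (hj ▸ dvd_pow_self 7 hj0)
    refine ⟨ha, (S.zero_cen_eq hr (by norm_num : Nat.Prime 7) hd7 ?_ ha).trans hd7⟩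
    rw [hd, hd0, hp]; norm_num
  have hpow : ∀ {T : Sylow 7 G} {g : G}, g ∈ (T : Subgroup G) → g ^ 7 ^ 4 = 1 := fun {T g} hg =>
    orderOf_dvd_iff_pow_eq_one.1 (hR T ▸ Subgroup.orderOf_dvd_natCard _ hg)
  have hmem : ∀ {T : Sylow 7 G} {x : G}, x ≠ 1 → x ∈ (T : Subgroup G) →
      (∀ y ∈ (T : Subgroup G), y * x = x * y) → centralizer ({x} : Set G) = (T : Subgroup G) := by
    intro T x hx hxT hc
    refine (Subgroup.eq_of_le_of_card_ge (fun y hy => mem_centralizer_singleton_iff.2 (hc y hy)) ?_).symm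
    rw [(hzero hx (hpow hxT)).2, hR T]
  -- the centre
  obtain ⟨i, hi⟩ := IsPGroup.iff_card.1 (R.isPGroup'.to_subgroup (center (R : Subgroup G)))
  haveI : Nontrivial (R : Subgroup G) :=
    Finite.one_lt_card_iff_nontrivial.1 (by rw [hR R]; norm_num)
  haveI := R.isPGroup'.center_nontrivial
  have hi1 : i ≠ 0 := fun h => by
    have := Finite.one_lt_card (α := center (R : Subgroup G))
    rw [hi, h] at this
    omega
  have hi4 : 7 ^ i ∣ 7 ^ 4 := hR R ▸ hi ▸ Subgroup.card_subgroup_dvd_card _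
  have hi4' : i ≤ 4 := (Nat.pow_dvd_pow_iff_le_right (by norm_num : 1 < 7)).1 hi4
  have hZcard : ∀ T : Sylow 7 G, Nat.card (center (T : Subgroup G)) = 7 ^ i := fun T => by
    rw [← hi]
    exact Nat.card_congr (Subgroup.centerCongr (T.equiv R)).toEquiv
  -- the zeros are the nontrivial central elements
  let f : (Σ T : Sylow 7 G, {x : center (T : Subgroup G) // x ≠ 1}) → {g : G // S.a g = 0} := fun y =>
    ⟨((y.2.1 : (y.1 : Subgroup G)) : G),
      (hzero (fun h => y.2.2 (Subtype.ext (Subtype.ext h))) (hpow (y.2.1 : (y.1 : Subgroup G)).2)).1⟩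
  have hf : Function.Bijective f := by
    constructor
    · rintro ⟨T, ⟨⟨x, hx⟩, hxc⟩, hx1⟩ ⟨T', ⟨⟨x', hx'⟩, hxc'⟩, hx1'⟩ h
      obtain rfl : x = x' := congrArg (fun z : {g : G // S.a g = 0} => (z : G)) h
      have hne : x ≠ 1 := fun h => hx1 (Subtype.ext (Subtype.ext h))
      obtain rfl : T = T' := Sylow.ext <| by
        rw [← hmem hne hx fun y hy => congrArg Subtype.val (Subgroup.mem_center_iff.1 hxc ⟨y, hy⟩),
          hmem hne hx' fun y hy => congrArg Subtype.val (Subgroup.mem_center_iff.1 hxc' ⟨y, hy⟩)]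
      rfl
    · rintro ⟨g, hg⟩
      obtain ⟨hg1, -, -⟩ := S.zero_cen hr hg
      have hgc := S.zero_cen_eq hr (by norm_num : Nat.Prime 7) hd7 (by rw [hd, hd0, hp]; norm_num) hg
      rw [hd7] at hgc
      let T : Sylow 7 G := Sylow.ofCard (centralizer ({g} : Set G)) (by rw [hgc, ← hR R, R.card_eq_multiplicity])
      have hgT : g ∈ (T : Subgroup G) := mem_centralizer_singleton_iff.2 rfl
      refine ⟨⟨T, ⟨⟨g, hgT⟩, Subgroup.mem_center_iff.2 fun y => Subtype.ext ?_⟩, fun h => hg1 ?_⟩, rfl⟩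
      · exact mem_centralizer_singleton_iff.1 y.2
      · exact congrArg (fun z : center (T : Subgroup G) => ((z : (T : Subgroup G)) : G)) h
  have hcount := Nat.card_congr (Equiv.ofBijective f hf)
  rw [Nat.card_sigma, Finset.sum_congr rfl (g := fun _ => 7 ^ i - 1) fun T _ => by
      haveI := Fintype.ofFinite (center (T : Subgroup G))
      rw [Nat.card_eq_fintype_card, Fintype.card_subtype_compl, Fintype.card_subtype_eq,
        ← Nat.card_eq_fintype_card, hZcard T],
    Finset.sum_const, smul_eq_mul, Finset.card_univ, ← Nat.card_eq_fintype_card] at hcount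
  have h0 := S.card_zero hr
  rw [← hcount, hd] at h0
  norm_num at h0
  -- the normalizer
  set N := normalizer ((R : Subgroup G) : Set G) with hN
  obtain ⟨M, hM⟩ : 7 ^ 4 ∣ Nat.card N := hR R ▸ Subgroup.card_dvd_of_le Subgroup.le_normalizer
  have hnM : Nat.card (Sylow 7 G) * M = 2882400 := by
    have h1 := N.card_mul_index
    rw [show N.index = Nat.card (Sylow 7 G) from R.card_eq_index_normalizer.symm, hM, hcard] at h1
    refine Nat.eq_of_mul_eq_mul_left (show 0 < 7 ^ 4 by norm_num) ?_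
    linarith
  -- an element of the normalizer acting without fixed points
  have hact : ∀ {s : ℕ}, s.Prime → s ≠ 7 → s ∣ M → ∃ φ : (R : Subgroup G) ≃* (R : Subgroup G),
      (∀ x, φ x = x → x = 1) ∧ φ ^ s = 1 := by
    intro s hs hs7 hsM
    haveI := Fact.mk hs
    obtain ⟨y, hy⟩ := exists_prime_orderOf_dvd_card' (G := N) s (hM ▸ hsM.mul_left _)
    refine ⟨(R : Subgroup G).normalizerMonoidHom y, fun x hx => ?_, by
      rw [← map_pow, orderOf_dvd_iff_pow_eq_one.1 hy.dvd, map_one]⟩
    by_contra hx1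
    have hxy : (y : G) * x * (y : G)⁻¹ = x := congrArg Subtype.val hx
    have h1 : orderOf (y : G) ∣ 7 ^ 4 := by
      rw [← (hzero (fun h => hx1 (Subtype.ext h)) (hpow x.2)).2]
      exact Subgroup.orderOf_dvd_natCard _
        (mem_centralizer_singleton_iff.2 (mul_inv_eq_iff_eq_mul.1 hxy))
    rw [Subgroup.orderOf_coe, hy] at h1
    exact hs7 ((Nat.prime_dvd_prime_iff_eq hs (by norm_num)).1 (hs.dvd_of_dvd_pow h1))
  rcases (by omega : i = 1 ∨ i = 2 ∨ i = 3 ∨ i = 4) with rfl | rfl | rfl | rfl <;>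
    norm_num at h0 hZcard <;> simp only [← Nat.card_eq_fintype_card] at h0
  · -- centre of order seven: class two is impossible
    exfalso
    have hM3 : M = 3 := by
      rw [show Nat.card (Sylow 7 G) = 960800 by omega] at hnM
      omega
    obtain ⟨φ, hφ, hφ3⟩ := hact Nat.prime_three (by norm_num) (hM3 ▸ dvd_rfl)
    have h3 : Fus.SCThree.IsFpfThree φ := ⟨fun a => by
      have := congrArg (fun e : MulAut (R : Subgroup G) => e a) hφ3
      simpa [pow_succ] using this, hφ⟩
    have hZR := hZcard R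
    obtain ⟨a, ha⟩ : ∃ a, a ∉ center (R : Subgroup G) := by
      by_contra hall
      push Not at hall
      rw [(Subgroup.eq_top_iff' _).2 hall, Subgroup.card_top, hR R] at hZR
      norm_num at hZR
    obtain ⟨c, hac⟩ : ∃ c : ↥(R : Subgroup G), ⁅a, c⁆ ≠ 1 := by
      by_contra hall
      push Not at hall
      exact ha (Subgroup.mem_center_iff.2 fun g => (commutatorElement_eq_one_iff_mul_comm.1 (hall g)).symm)
    let ψ : (R : Subgroup G) →* center (R : Subgroup G) × center (R : Subgroup G) :=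
      { toFun := fun b => (⟨⁅a, b⁆, h3.comm_mem_center a b⟩, ⟨⁅c, b⁆, h3.comm_mem_center c b⟩)
        map_one' := by simp
        map_mul' := fun b b' => by
          refine Prod.ext (Subtype.ext ?_) (Subtype.ext ?_)
          · exact h3.comm_mul_right a b b'
          · exact h3.comm_mul_right c b b' }
    have hsurj : Function.Surjective ψ := by
      haveI := Fact.mk (show (7 : ℕ).Prime by norm_num)
      rintro ⟨u, v⟩
      have hgen : ∀ {z : center (R : Subgroup G)}, z ≠ 1 → ∀ w, w ∈ zpowers z := fun hz w =>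
        mem_zpowers_of_prime_card hZR hz
      have h1 : (⟨⁅a, c⁆, h3.comm_mem_center a c⟩ : center (R : Subgroup G)) ≠ 1 := fun h =>
        hac (congrArg Subtype.val h)
      have h2 : (⟨⁅c, a⁆, h3.comm_mem_center c a⟩ : center (R : Subgroup G)) ≠ 1 := fun h =>
        hac (by rw [← commutatorElement_inv, show ⁅c, a⁆ = 1 from congrArg Subtype.val h, inv_one])
      obtain ⟨m, hm⟩ := Subgroup.mem_zpowers_iff.1 (hgen h1 u)
      obtain ⟨n, hn⟩ := Subgroup.mem_zpowers_iff.1 (hgen h2 v)
      refine ⟨c ^ m * a ^ n, ?_⟩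
      rw [map_mul, map_zpow, map_zpow]
      refine Prod.ext ?_ ?_
      · show (⟨⁅a, c⁆, _⟩ : center (R : Subgroup G)) ^ m * (⟨⁅a, a⁆, _⟩ : center (R : Subgroup G)) ^ n = u
        rw [hm, show (⟨⁅a, a⁆, h3.comm_mem_center a a⟩ : center (R : Subgroup G)) = 1 from
          Subtype.ext (commutatorElement_self a), one_zpow, mul_one]
      · show (⟨⁅c, c⁆, _⟩ : center (R : Subgroup G)) ^ m * (⟨⁅c, a⁆, _⟩ : center (R : Subgroup G)) ^ n = v
        rw [hn, show (⟨⁅c, c⁆, h3.comm_mem_center c c⟩ : center (R : Subgroup G)) = 1 from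
          Subtype.ext (commutatorElement_self c), one_zpow, one_mul]
    have hker : Nat.card ψ.ker = 7 ^ 2 := by
      have h1 := ψ.ker.card_mul_index
      rw [Subgroup.index_ker, MonoidHom.range_eq_top.2 hsurj, Subgroup.card_top, Nat.card_prod, hZR, hR R] at h1
      omega
    have hle : ψ.ker ≤ center (R : Subgroup G) := by
      intro x hx
      have hxa : ⁅a, x⁆ = 1 := congrArg (fun z => ((z.1 : center (R : Subgroup G)) : (R : Subgroup G))) (MonoidHom.mem_ker.1 hx)
      have hxc : ⁅c, x⁆ = 1 := congrArg (fun z => ((z.2 : center (R : Subgroup G)) : (R : Subgroup G))) (MonoidHom.mem_ker.1 hx)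
      have hkC : ψ.ker ≤ centralizer ({x} : Set (R : Subgroup G)) := fun y hy =>
        mem_centralizer_singleton_iff.2 (congrArg Subtype.val
          (IsPGroup.commutative_of_card_eq_prime_sq hker ⟨y, hy⟩ ⟨x, hx⟩))
      have ha' : a ∈ centralizer ({x} : Set (R : Subgroup G)) :=
        mem_centralizer_singleton_iff.2 (commutatorElement_eq_one_iff_mul_comm.1 hxa)
      have hc' : c ∈ centralizer ({x} : Set (R : Subgroup G)) :=
        mem_centralizer_singleton_iff.2 (commutatorElement_eq_one_iff_mul_comm.1 hxc)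
      refine Subgroup.mem_center_iff.2 fun g => ?_
      obtain ⟨g', hg', hgg⟩ : ∃ g' ∈ centralizer ({x} : Set (R : Subgroup G)), ψ g' = ψ g := by
        obtain ⟨u, hu⟩ : ∃ u, u = ψ g := ⟨_, rfl⟩
        have hgen : ∀ {z : center (R : Subgroup G)}, z ≠ 1 → ∀ w, w ∈ zpowers z := fun hz w =>
          mem_zpowers_of_prime_card hZR hz
        have h1 : (⟨⁅a, c⁆, h3.comm_mem_center a c⟩ : center (R : Subgroup G)) ≠ 1 := fun h =>
          hac (congrArg Subtype.val h)
        have h2 : (⟨⁅c, a⁆, h3.comm_mem_center c a⟩ : center (R : Subgroup G)) ≠ 1 := fun h =>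
          hac (by rw [← commutatorElement_inv, show ⁅c, a⁆ = 1 from congrArg Subtype.val h, inv_one])
        obtain ⟨m, hm⟩ := Subgroup.mem_zpowers_iff.1 (hgen h1 (ψ g).1)
        obtain ⟨n, hn⟩ := Subgroup.mem_zpowers_iff.1 (hgen h2 (ψ g).2)
        refine ⟨c ^ m * a ^ n, mul_mem (zpow_mem hc' m) (zpow_mem ha' n), ?_⟩
        rw [map_mul, map_zpow, map_zpow]
        refine Prod.ext ?_ ?_
        · show (⟨⁅a, c⁆, _⟩ : center (R : Subgroup G)) ^ m * (⟨⁅a, a⁆, _⟩ : center (R : Subgroup G)) ^ n = _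
          rw [hm, show (⟨⁅a, a⁆, h3.comm_mem_center a a⟩ : center (R : Subgroup G)) = 1 from
            Subtype.ext (commutatorElement_self a), one_zpow, mul_one]
        · show (⟨⁅c, c⁆, _⟩ : center (R : Subgroup G)) ^ m * (⟨⁅c, a⁆, _⟩ : center (R : Subgroup G)) ^ n = _
          rw [hn, show (⟨⁅c, c⁆, h3.comm_mem_center c c⟩ : center (R : Subgroup G)) = 1 from
            Subtype.ext (commutatorElement_self c), one_zpow, one_mul]
      have : g'⁻¹ * g ∈ ψ.ker := by rw [MonoidHom.mem_ker, map_mul, map_inv, hgg, inv_mul_cancel]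
      have hgC := mul_mem hg' (hkC this)
      rw [mul_inv_cancel_left] at hgC
      exact mem_centralizer_singleton_iff.1 hgC
    have := Nat.le_of_dvd Nat.card_pos (Subgroup.card_dvd_of_le hle)
    omega
  · -- centre of order 49: an inverting involution
    have hM2 : M = 24 := by
      rw [show Nat.card (Sylow 7 G) = 120100 by omega] at hnM
      omega
    obtain ⟨φ, hφ, hφ2⟩ := hact Nat.prime_two (by norm_num) (hM2 ▸ by norm_num)
    have hinv : Function.Involutive (φ.toMonoidHom : ↥(R : Subgroup G) → ↥(R : Subgroup G)) := fun a => by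
      have := congrArg (fun e : MulAut (R : Subgroup G) => e a) hφ2
      simpa [pow_succ] using this
    exact ⟨⟨fun a b => MonoidHom.FixedPointFree.commute_all_of_involutive (φ := φ.toMonoidHom)
      (fun a ha => hφ a ha) hinv a b⟩⟩
  · omega
  · -- the centre is everything
    have h1 : center (R : Subgroup G) = ⊤ := Subgroup.eq_top_of_card_eq _ (by rw [hR R]; exact hZcard R)
    exact ⟨⟨fun a b => Subgroup.mem_center_iff.1 (h1 ▸ Subgroup.mem_top b) a⟩⟩

end Cfsg.Agent.Block.OnePrime
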