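import Cfsg.Agent.Lib.Block.OnePrime.UnitR
import Cfsg.Agent.S0340

/-!
For `r = 1` and an abelian Sylow subgroup of order `d` the group acts on its `d + 1` Sylow subgroups as a
Zassenhaus group.
-/

namespace Cfsg.Agent.Block.OnePrime

open Cfsg Subgroup

set_option linter.style.haveILetI false

universe u

variable {G : Type u} [Group G] [Finite G] (S : Setup G)

/-- For `r = 1` the centralizer of a nontrivial element of an abelian Sylow subgroup of order `d`. -/
theorem Setup.cen_eq_sylow [IsSimpleGroup G] (hr : S.r = 1) {q k : ℕ} [Fact q.Prime] (hd : S.d = q ^ k)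
    (R : Sylow q G) (hRd : Nat.card (R : Subgroup G) = S.d) (hab : IsMulCommutative (R : Subgroup G))
    {x : G} (hx : x ∈ (R : Subgroup G)) (hx1 : x ≠ 1) :
    S.a x = 0 ∧ centralizer ({x} : Set G) = (R : Subgroup G) := by
  have hq : q.Prime := Fact.out
  have hk : k ≠ 0 := fun h => by
    have := S.hd2
    rw [hd, h, pow_zero] at this
    omega
  have hqd : q ∣ S.d := hd ▸ dvd_pow_self q hk
  have hqp : q ≠ S.p := fun h => S.not_dvd_d (h ▸ hqd)
  obtain ⟨i, hi⟩ := R.isPGroup' ⟨x, hx⟩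
  have hxq : x ^ q ^ i = 1 := congrArg Subtype.val hi
  obtain ⟨j, -, hj⟩ := (Nat.dvd_prime_pow hq).1 (orderOf_dvd_of_pow_eq_one hxq)
  have hqx : q ∣ orderOf x := hj ▸ dvd_pow_self q fun h => hx1 (orderOf_eq_one_iff.1 (by rw [hj, h, pow_zero]))
  have hxp : ¬ S.p ∣ orderOf x := fun h => by
    rw [hj] at h
    exact hqp ((Nat.prime_dvd_prime_iff_eq S.hp hq).1 (S.hp.dvd_of_dvd_pow h)).symm
  have ha := S.const_d q hq (hr ▸ hq.not_dvd_one) hqd x hxp hqx
  refine ⟨ha, (Subgroup.eq_of_le_of_card_ge (fun y hy => mem_centralizer_singleton_iff.2 ?_) ?_).symm⟩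
  · exact congrArg Subtype.val (hab.is_comm.comm ⟨y, hy⟩ ⟨x, hx⟩)
  · rw [hRd]
    exact Nat.le_of_dvd (by have := S.hd2; omega) (S.zero_cen hr ha).2.2

/-- `G` has `d + 1` such subgroups. -/
theorem Setup.sylow_count [IsSimpleGroup G] (hr : S.r = 1) {q k : ℕ} [Fact q.Prime] (hd : S.d = q ^ k)
    (hall : ∀ R : Sylow q G, Nat.card (R : Subgroup G) = S.d ∧ IsMulCommutative (R : Subgroup G)) :
    Nat.card (Sylow q G) = S.d + 1 := by
  classical
  haveI := Fintype.ofFinite (Sylow q G)
  have hq : q.Prime := Fact.out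
  have hd2 := S.hd2
  let f : (Σ R : Sylow q G, {x : (R : Subgroup G) // x ≠ 1}) → {g : G // S.a g = 0} := fun y =>
    ⟨(y.2.1 : G), (S.cen_eq_sylow hr hd y.1 (hall y.1).1 (hall y.1).2 y.2.1.2
      fun h => y.2.2 (Subtype.ext h)).1⟩
  have hf : Function.Bijective f := by
    constructor
    · rintro ⟨R, ⟨x, hx⟩, hx1⟩ ⟨R', ⟨x', hx'⟩, hx1'⟩ h
      obtain rfl : x = x' := congrArg (fun z : {g : G // S.a g = 0} => (z : G)) h
      have hne : x ≠ 1 := fun h => hx1 (Subtype.ext h)
      obtain rfl : R = R' := Sylow.ext <| by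
        rw [← (S.cen_eq_sylow hr hd R (hall R).1 (hall R).2 hx hne).2,
          (S.cen_eq_sylow hr hd R' (hall R').1 (hall R').2 hx' hne).2]
      rfl
    · rintro ⟨g, hg⟩
      obtain ⟨hg1, -, hgc⟩ := S.zero_cen hr hg
      have hP : IsPGroup q (zpowers g) := by
        rw [hd] at hgc
        obtain ⟨j, -, hj⟩ := (Nat.dvd_prime_pow hq).1 ((Subgroup.orderOf_dvd_natCard _
          (mem_centralizer_singleton_iff.2 rfl : g ∈ centralizer ({g} : Set G))).trans hgc)
        exact IsPGroup.of_card (n := j) (by rw [Nat.card_zpowers, hj])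
      obtain ⟨R, hR⟩ := hP.exists_le_sylow
      exact ⟨⟨R, ⟨g, hR (mem_zpowers g)⟩, fun h => hg1 (congrArg Subtype.val h)⟩, rfl⟩
  have h := Nat.card_congr (Equiv.ofBijective f hf)
  rw [Nat.card_sigma, Finset.sum_congr rfl (g := fun _ => S.d - 1) fun R _ => by
      haveI := Fintype.ofFinite (R : Subgroup G)
      rw [Nat.card_eq_fintype_card, Fintype.card_subtype_compl, Fintype.card_subtype_eq,
        ← Nat.card_eq_fintype_card, (hall R).1],
    Finset.sum_const, smul_eq_mul, Finset.card_univ, ← Nat.card_eq_fintype_card] at h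
  have h0 := S.card_zero hr
  obtain ⟨e, he⟩ : ∃ e, S.d = e + 1 := ⟨S.d - 1, by omega⟩
  rw [← h, he, Nat.add_sub_cancel] at h0
  rw [he]
  refine Nat.eq_of_mul_eq_mul_right (show 0 < e by omega) ?_
  rw [sq] at h0
  linarith

theorem not_suzuki_of_three {H : Type*} [Group H] (h3 : 3 ∣ Nat.card H) : ¬ Cfsg.IsSuzuki H := by
  rintro ⟨-, m, -, hm⟩
  rw [hm] at h3
  have hq : 2 ^ (2 * m + 1) % 3 = 2 := by
    rw [pow_succ, pow_mul, Nat.mul_mod, Nat.pow_mod]; norm_num
  have h1 : 1 ≤ 2 ^ (2 * m + 1) := Nat.one_le_two_pow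
  generalize 2 ^ (2 * m + 1) = q at hq h1 h3
  have e : (q - 1) % 3 = 1 := by omega
  rw [Nat.dvd_iff_mod_eq_zero] at h3
  simp [Nat.mul_mod, Nat.pow_mod, Nat.add_mod, hq, e] at h3

/-- Recognition as `PSL(2, F)`. -/
theorem Setup.psl_of_abelian [IsSimpleGroup G] (hr : S.r = 1) {q k : ℕ} [Fact q.Prime] (hd : S.d = q ^ k)
    (hfac : (Nat.card G).factorization q = k)
    (hab : ∀ R : Sylow q G, IsMulCommutative (R : Subgroup G))
    (hbig : S.d * (S.d + 1) < Nat.card G) (h3 : 3 ∣ Nat.card G) :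
    ∃ (F : Type) (_ : Field F) (_ : Fintype F),
      Nonempty (G ≃* Matrix.ProjectiveSpecialLinearGroup (Fin 2) F) := by
  classical
  have hall : ∀ R : Sylow q G, Nat.card (R : Subgroup G) = S.d ∧ IsMulCommutative (R : Subgroup G) :=
    fun R => ⟨by rw [R.card_eq_multiplicity, hfac, hd], hab R⟩
  have hn := S.sylow_count hr hd hall
  have hd2 := S.hd2
  have hcen : ∀ (R : Sylow q G) {x : G}, x ∈ (R : Subgroup G) → x ≠ 1 →
      centralizer ({x} : Set G) = (R : Subgroup G) := fun R x hx hx1 =>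
    (S.cen_eq_sylow hr hd R (hall R).1 (hall R).2 hx hx1).2
  have hfix : ∀ (R : Sylow q G) {x : G}, x ∈ (R : Subgroup G) → x • R = R := fun R x hx => by
    rw [← MulAction.mem_stabilizer_iff, R.stabilizer_eq_normalizer]
    exact Subgroup.le_normalizer hx
  -- a nontrivial element of `a` fixes only `a`
  have hfree : ∀ (a b : Sylow q G) {u : G}, u ∈ (a : Subgroup G) → u • b = b → a = b ∨ u = 1 := by
    intro a b u hu hub
    by_cases hu1 : u = 1
    · exact Or.inr hu1
    refine Or.inl (Sylow.ext ?_)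
    rw [← MulAction.mem_stabilizer_iff, b.stabilizer_eq_normalizer] at hub
    have hP : IsPGroup q (zpowers u) := by
      obtain ⟨i, hi⟩ := a.isPGroup' ⟨u, hu⟩
      obtain ⟨j, -, hj⟩ := (Nat.dvd_prime_pow Fact.out).1
        (orderOf_dvd_of_pow_eq_one (congrArg Subtype.val hi : u ^ q ^ i = 1))
      exact IsPGroup.of_card (n := j) (by rw [Nat.card_zpowers, hj])
    have h1 := hP.inf_normalizer_sylow b
    have hub' : u ∈ (b : Subgroup G) :=
      (h1.le ⟨mem_zpowers u, hub⟩ : u ∈ zpowers u ⊓ (b : Subgroup G)).2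
    rw [← hcen a hu hu1, hcen b hub' hu1]
  haveI := Fintype.ofFinite (Sylow q G)
  haveI := Fintype.ofFinite G
  have hreg : ∀ a b c : Sylow q G, b ≠ a → c ≠ a → ∃ u ∈ (a : Subgroup G), u • b = c := by
    intro a b c hb hc
    haveI := Fintype.ofFinite (a : Subgroup G)
    have hne : ∀ u : (a : Subgroup G), (u : G) • b ≠ a := fun u e => hb (by
      rw [← inv_smul_smul (u : G) b, e, hfix a (inv_mem u.2)])
    let φ : ↥(a : Subgroup G) → {R : Sylow q G // R ≠ a} := fun u => ⟨(u : G) • b, hne u⟩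
    have hφ : Function.Bijective φ := by
      refine (Fintype.bijective_iff_injective_and_card φ).2 ⟨fun u v h => ?_, ?_⟩
      · have h1 : (u : G) • b = (v : G) • b := congrArg Subtype.val h
        rcases hfree a b ((a : Subgroup G).mul_mem (inv_mem v.2) u.2)
          (by rw [mul_smul, h1, inv_smul_smul]) with h2 | h2
        · exact absurd h2.symm hb
        · exact Subtype.ext (inv_mul_eq_one.1 h2).symm
      · rw [Fintype.card_subtype_compl, Fintype.card_subtype_eq, ← Nat.card_eq_fintype_card,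
          ← Nat.card_eq_fintype_card, (hall a).1, hn, Nat.add_sub_cancel]
    obtain ⟨u, hu⟩ := hφ.2 ⟨c, hc⟩
    exact ⟨u, u.2, congrArg Subtype.val hu⟩
  haveI : Nontrivial (Sylow q G) := Finite.one_lt_card_iff_nontrivial.1 (by omega)
  have hfaith : FaithfulSMul G (Sylow q G) := by
    refine ⟨fun {g h} hgh => ?_⟩
    rcases IsSimpleGroup.eq_bot_or_eq_top_of_normal (MulAction.toPermHom G (Sylow q G)).ker
      inferInstance with hk | hk
    · exact (MonoidHom.ker_eq_bot_iff _).1 hk (Equiv.ext hgh)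
    · exfalso
      obtain ⟨a, b, hab'⟩ := exists_pair_ne (Sylow q G)
      obtain ⟨g, hg⟩ := MulAction.exists_smul_eq G a b
      have h1 : MulAction.toPermHom G (Sylow q G) g = 1 := MonoidHom.mem_ker.1 (hk ▸ Subgroup.mem_top g)
      exact hab' (by rw [← hg]; exact (congrArg (fun σ : Equiv.Perm (Sylow q G) => σ a) h1).symm)
  refine (Cfsg.Agent.S0340.result (G := G) (Ω := Sylow q G) ⟨hfaith, ?_, ?_, ?_, ?_⟩).resolve_right
    (not_suzuki_of_three h3)
  · rw [MulAction.is_two_pretransitive_iff]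
    intro a b c e hab' hce
    obtain ⟨g, hg⟩ := MulAction.exists_smul_eq G a c
    have hne : g • b ≠ c := fun h => hab' (MulAction.injective g (hg.trans h.symm))
    obtain ⟨u, hu, hue⟩ := hreg c (g • b) e hne (Ne.symm hce)
    exact ⟨u * g, by rw [mul_smul, hg, hfix c hu], by rw [mul_smul, hue]⟩
  · intro g a b c hab' hbc hac hga hgb hgc
    obtain ⟨u, hu, hub⟩ := hreg a b c (Ne.symm hab') (Ne.symm hac)
    have hu1 : u ≠ 1 := fun h => hbc (by rw [← hub, h, one_smul])
    have hgu : g * u * g⁻¹ ∈ (a : Subgroup G) := by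
      rw [← MulAction.mem_stabilizer_iff, a.stabilizer_eq_normalizer] at hga
      exact (Subgroup.mem_normalizer_iff.1 hga u).1 hu
    have hgg : (g * u * g⁻¹) • b = c := by
      rw [mul_smul, mul_smul, show g⁻¹ • b = b by rw [inv_smul_eq_iff, hgb], hub, hgc]
    have heq : g * u * g⁻¹ = u := by
      rcases hfree a b ((a : Subgroup G).mul_mem (inv_mem hu) hgu)
        (by rw [mul_smul, hgg, ← hub, inv_smul_smul]) with h | h
      · exact absurd h hab'
      · exact (inv_mul_eq_one.1 h).symm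
    have hgC : g ∈ centralizer ({u} : Set G) := mem_centralizer_singleton_iff.2 (mul_inv_eq_iff_eq_mul.1 heq)
    rw [hcen a hu hu1] at hgC
    exact (hfree a b hgC hgb).resolve_left hab'
  · obtain ⟨a, b, hab'⟩ := exists_pair_ne (Sylow q G)
    have hN : Nat.card {R : Sylow q G // R ≠ a} < Nat.card (MulAction.stabilizer G a) := by
      have h1 := (MulAction.stabilizer G a).card_mul_index
      rw [MulAction.index_stabilizer_of_transitive G a, hn] at h1
      rw [Nat.card_eq_fintype_card, Fintype.card_subtype_compl, Fintype.card_subtype_eq,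
        ← Nat.card_eq_fintype_card, hn, Nat.add_sub_cancel]
      by_contra hle
      push Not at hle
      have := Nat.mul_le_mul_right (S.d + 1) hle
      omega
    let ψ : MulAction.stabilizer G a → {R : Sylow q G // R ≠ a} := fun g =>
      ⟨(g : G) • b, fun h => hab' (MulAction.injective (g : G) ((MulAction.mem_stabilizer_iff.1 g.2).trans h.symm))⟩
    obtain ⟨g, h, hgh, hne⟩ : ∃ g h, ψ g = ψ h ∧ g ≠ h := by
      by_contra hcon
      push Not at hcon
      exact hN.not_ge (Nat.card_le_card_of_injective ψ fun g h e => hcon g h e)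
    refine ⟨(h : G)⁻¹ * g, fun e => hne (Subtype.ext (inv_mul_eq_one.1 e).symm), a, b, hab', ?_, ?_⟩
    · rw [mul_smul, MulAction.mem_stabilizer_iff.1 g.2, inv_smul_eq_iff,
        MulAction.mem_stabilizer_iff.1 h.2]
    · rw [mul_smul, show (g : G) • b = (h : G) • b from congrArg Subtype.val hgh, inv_smul_smul]
  · intro N hNn hNt
    obtain ⟨a, b, hab'⟩ := exists_pair_ne (Sylow q G)
    rcases IsSimpleGroup.eq_bot_or_eq_top_of_normal N hNn with rfl | rfl
    · exfalso
      obtain ⟨n, hn'⟩ := MulAction.exists_smul_eq (⊥ : Subgroup G) a b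
      rw [Subgroup.smul_def, Subgroup.mem_bot.1 n.2, one_smul] at hn'
      exact hab' hn'
    · refine ⟨a, fun h => ?_⟩
      obtain ⟨x, hx, hx1⟩ : ∃ x ∈ (a : Subgroup G), x ≠ 1 :=
        (Subgroup.bot_or_exists_ne_one _).resolve_left fun e => by
          have := (hall a).1
          rw [e, Subgroup.card_bot] at this
          omega
      have hmem : (⟨x, Subgroup.mem_top x⟩ : (⊤ : Subgroup G)) ∈ MulAction.stabilizer (⊤ : Subgroup G) a :=
        hfix a hx
      rw [h, Subgroup.mem_bot] at hmem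
      exact hx1 (congrArg Subtype.val hmem)

end Cfsg.Agent.Block.OnePrime
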