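import Cfsg.Agent.Lib.Block.OnePrime.Survivors
import Cfsg.Agent.Lib.Block.OnePrime.UnitKills
import Cfsg.Agent.Lib.Block.OnePrime.UnitZassenhaus
import Cfsg.Agent.Lib.Classical.DicksonTorus
import Cfsg.Agent.Lib.Spor.Gold.Families
import Cfsg.Agent.S0494
import Cfsg.Agent.S0804
import Cfsg.Agent.S3214

/-!
The case `r = 1`: recognition.
-/

namespace Cfsg.Agent.Block.OnePrime

open Cfsg Subgroup

set_option linter.style.haveILetI false

universe u

variable {G : Type u} [Group G] [Finite G]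

/-- The groups of the conclusion. -/
def Target (G : Type u) [Group G] : Prop :=
  (∃ (F : Type) (_ : Field F) (_ : Fintype F),
      Fintype.card F ∈ [5, 7, 8, 9, 16, 25, 27, 81, 2401] ∧
        Nonempty (G ≃* Matrix.ProjectiveSpecialLinearGroup (Fin 2) F)) ∨
    ∃ (F : Type) (_ : Field F) (_ : Fintype F),
      Fintype.card F = 4 ∧ Nonempty (G ≃* Matrix.ProjectiveSpecialLinearGroup (Fin 3) F)

theorem psl_five [IsSimpleGroup G] (h : Nat.card G = 60) : Target G := by
  haveI : Fact (Nat.Prime 5) := ⟨by norm_num⟩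
  obtain ⟨H, ⟨e⟩⟩ := (Cfsg.Agent.S0804.result (F := ZMod 5) (ZMod.card 5)).2 (by norm_num)
  obtain ⟨g⟩ := Cfsg.Agent.S0494.result h
  have hH : Nat.card H = 60 := by rw [Nat.card_congr e.toEquiv, ← Nat.card_congr g.toEquiv, h]
  have hP : Nat.card (Matrix.ProjectiveSpecialLinearGroup (Fin 2) (ZMod 5)) = 60 := by
    have h1 := Dickson.card_psl (F := ZMod 5)
    rcases Dickson.del_cases (ZMod 5) with ⟨-, he⟩ | ⟨hd, -⟩
    · rw [ZMod.card] at he; exact absurd he (by decide)
    · rw [hd, ZMod.card] at h1; omega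
  refine Or.inl ⟨ZMod 5, inferInstance, inferInstance, by simp [ZMod.card], ?_⟩
  exact ⟨g.trans (e.symm.trans ((MulEquiv.subgroupCongr (Subgroup.eq_top_of_card_eq H (by rw [hH, hP]))).trans
    Subgroup.topEquiv))⟩

/-- The orders that occur, with the field orders. -/
def pslOrders : List (ℕ × List ℕ) :=
  [(60, [4, 5]), (504, [8]), (360, [9]), (4080, [16]), (7800, [25]), (9828, [27]), (265680, [81]),
    (6920642400, [2401]), (1680, []), (7980, []), (4620, []), (21924, []), (21420, []), (46620, []),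
    (124992, []), (20160, []), (52416, []), (511920, [])]

/-- Some numbers that are not prime powers. -/
def nonPrimePows : List ℕ := [15, 20, 21, 28, 35, 36, 63, 80]

theorem not_isPrimePow_of_mem {q : ℕ} (h : q ∈ nonPrimePows) : ¬ IsPrimePow q := by
  have key : ∀ q ∈ nonPrimePows, ∃ a ∈ [2, 3, 5, 7], ∃ b ∈ [2, 3, 5, 7], a ≠ b ∧ a ∣ q ∧ b ∣ q := by decide
  obtain ⟨a, ha, b, hb, hab, hda, hdb⟩ := key q h
  rw [isPrimePow_iff_unique_prime_dvd]
  rintro ⟨r, -, hr⟩
  have hp : ∀ x ∈ [2, 3, 5, 7], Nat.Prime x := by decide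
  exact hab ((hr a ⟨hp a ha, hda⟩).trans (hr b ⟨hp b hb, hdb⟩).symm)

/-- No other number `q` has `q (q - 1) (q + 1) ∈ {n, 2 n}`: bracket by consecutive values. -/
def pslBracket (n : ℕ) (l : List ℕ) : Bool :=
  [n, 2 * n].all fun m => (List.range 2405).any fun q =>
    decide (q * ((q - 1) * (q + 1)) ≤ m) && decide (m < (q + 1) * (q * (q + 2))) &&
      (q * ((q - 1) * (q + 1)) != m || l.contains q || nonPrimePows.contains q ||
        (q % 2 == 0 && m == 2 * n) || (q % 2 == 1 && m == n))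

theorem pslBracket_checks : pslOrders.all (fun x => pslBracket x.1 x.2) = true := by decide +kernel

theorem cube_strictMono {a b : ℕ} (ha : 1 ≤ a) (h : a < b) :
    a * ((a - 1) * (a + 1)) < b * ((b - 1) * (b + 1)) := by
  rcases Nat.eq_zero_or_pos (a - 1) with h0 | h0
  · rw [h0, zero_mul, mul_zero]
    exact Nat.mul_pos (by omega) (Nat.mul_pos (by omega) (by omega))
  · exact Nat.mul_lt_mul_of_lt_of_le h (Nat.mul_le_mul (by omega) (by omega)) (Nat.mul_pos (by omega) (by omega))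

/-- The field order of a `PSL(2)` of such an order. -/
theorem psl_field {F : Type} [Field F] [Fintype F] {n : ℕ} {l : List ℕ} (hn : (n, l) ∈ pslOrders)
    (e : Nonempty (G ≃* Matrix.ProjectiveSpecialLinearGroup (Fin 2) F)) (hG : Nat.card G = n) :
    Fintype.card F ∈ l := by
  obtain ⟨e⟩ := e
  have h := Dickson.card_psl (F := F)
  rw [← Nat.card_congr e.toEquiv, hG] at h
  have hq := Fintype.one_lt_card (α := F)
  set q := Fintype.card F with hqdef
  have hb := List.all_eq_true.1 pslBracket_checks _ hn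
  obtain ⟨m, hm, hmn, hpar⟩ : ∃ m, m ∈ [n, 2 * n] ∧ q * ((q - 1) * (q + 1)) = m ∧
      ((m = n ∧ q % 2 = 0) ∨ (m = 2 * n ∧ q % 2 = 1)) := by
    rcases Dickson.del_cases F with ⟨hd, he⟩ | ⟨hd, ho⟩
    · exact ⟨n, by simp, by rw [← h, hd, mul_one], Or.inl ⟨rfl, Nat.even_iff.1 he⟩⟩
    · exact ⟨2 * n, by simp, by rw [← h, hd, mul_comm], Or.inr ⟨rfl, Nat.odd_iff.1 ho⟩⟩
  simp only [pslBracket, List.all_eq_true] at hb
  obtain ⟨q₀, -, hq₀⟩ := List.any_eq_true.1 (hb m hm)
  simp only [Bool.and_eq_true, Bool.or_eq_true, decide_eq_true_iff, bne_iff_ne, ne_eq,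
    List.contains_iff_mem, beq_iff_eq] at hq₀
  obtain ⟨⟨h1, h2⟩, h3⟩ := hq₀
  have hn0 : 0 < n := hG ▸ Nat.card_pos
  have heq : q = q₀ := by
    rcases lt_trichotomy q q₀ with hlt | heq | hgt
    · have := cube_strictMono (by omega) hlt
      omega
    · exact heq
    · have h2' : m < (q₀ + 1) * ((q₀ + 1 - 1) * (q₀ + 1 + 1)) := by
        rw [Nat.add_sub_cancel, show q₀ + 1 + 1 = q₀ + 2 by omega]; exact h2
      rcases eq_or_lt_of_le (show q₀ + 1 ≤ q from hgt) with h5 | h5
      · rw [h5] at h2'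
        omega
      · have := cube_strictMono (show 1 ≤ q₀ + 1 by omega) h5
        omega
  subst heq
  rcases h3 with (((h3 | h3) | h3) | h3) | h3
  · exact absurd hmn h3
  · exact h3
  · exact absurd (hqdef ▸ FiniteField.isPrimePow_card F) (not_isPrimePow_of_mem h3)
  · rcases hpar with hp | hp <;> omega
  · rcases hpar with hp | hp <;> omega

theorem target_of_psl [IsSimpleGroup G] {F : Type} [Field F] [Fintype F] {n : ℕ} {l : List ℕ}
    (hn : (n, l) ∈ pslOrders) (hl : ∀ q ∈ l, q = 4 ∧ n = 60 ∨ q ∈ [5, 7, 8, 9, 16, 25, 27, 81, 2401])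
    (e : Nonempty (G ≃* Matrix.ProjectiveSpecialLinearGroup (Fin 2) F)) (hG : Nat.card G = n) :
    Target G := by
  rcases hl _ (psl_field hn e hG) with ⟨-, h60⟩ | h
  · exact psl_five (hG.trans h60)
  · exact Or.inl ⟨F, inferInstance, inferInstance, h, e⟩

variable (S : Setup G)

theorem Setup.three_dvd (hr : S.r = 1) (h : 3 ∣ S.p * S.d * S.d0) : 3 ∣ Nat.card G :=
  (S.card_of_one hr).symm ▸ h

/-- All involution centralizers are 2-nilpotent: recognition by order. -/
theorem Setup.target_npc [IsSimpleGroup G] (hr : S.r = 1) {n : ℕ} {l : List ℕ} (hn : (n, l) ∈ pslOrders)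
    (hl : ∀ q ∈ l, q = 4 ∧ n = 60 ∨ q ∈ [5, 7, 8, 9, 16, 25, 27, 81, 2401])
    (hG : S.p * S.d * S.d0 = n) (h3 : 3 ∣ n) (h7 : n ≠ 2520)
    (hI : ∀ t : G, orderOf t = 2 → HasNormalPComplement 2 (centralizer ({t} : Set G))) : Target G := by
  have hcard : Nat.card G = n := (S.card_of_one hr).trans hG
  rcases Cfsg.Agent.S3214.result S.hna hI with ⟨F, i, j, -, e⟩ | h | ⟨⟨e⟩⟩ | h
  · exact target_of_psl hn hl e hcard
  · exact absurd (hcard.symm ▸ h3) (Spor.Gold.Fam.card_suzuki h)
  · refine absurd ?_ h7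
    rw [← hcard, Nat.card_congr e.toEquiv, nat_card_alternatingGroup, Nat.card_fin]
    norm_num [Nat.factorial]
  · exact Or.inr h

/-- The case `r = 1`. -/
theorem Setup.target_one [IsSimpleGroup G] (hr : S.r = 1)
    (hsm : ∀ q : ℕ, q.Prime → q ∣ Nat.card G → q = S.p ∨ q ∈ [2, 3, 5, 7]) : Target G := by
  have hmem := S.mem_survivors hsm
  rw [survivors_eq, hr] at hmem
  have hlt : S.a S.t < S.d := S.lt _ fun h => by simpa [h] using S.ht
  have hwz : ((((S.d : ℤ) - S.a S.t).toNat : ℕ) : ℤ) = (S.d : ℤ) - S.a S.t := Int.toNat_of_nonneg (by omega)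
  generalize ((S.d : ℤ) - S.a S.t).toNat = w at hmem hwz
  simp only [List.mem_cons, Prod.mk.injEq, List.not_mem_nil, or_false, OfNat.one_ne_ofNat, false_and,
    and_false, false_or, or_false, true_and] at hmem
  haveI : Fact (Nat.Prime 3) := ⟨Nat.prime_three⟩
  haveI : Fact (Nat.Prime 5) := ⟨by norm_num⟩
  haveI : Fact (Nat.Prime 7) := ⟨by norm_num⟩
  haveI : Fact (Nat.Prime 67) := ⟨by norm_num⟩
  -- two-nilpotent involution centralizers
  have hnpc : ∀ (a b l n : ℕ) (qs : List ℕ) [Fact l.Prime], l ≠ 2 → w = 2 ^ (a + 1) * l ^ b →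
      (∀ j ≤ a, 2 ^ j % l = 1 → j = 0) → (n, qs) ∈ pslOrders →
      (∀ q ∈ qs, q = 4 ∧ n = 60 ∨ q ∈ [5, 7, 8, 9, 16, 25, 27, 81, 2401]) →
      S.p * S.d * S.d0 = n → 3 ∣ n → n ≠ 2520 → Target G := by
    intro a b l n qs _ hl2 hw hone hn hq hG h3 h7
    refine S.target_npc hr hn hq hG h3 h7 fun x hx => S.npc_invol (b := b) hr hl2 ?_ hone x hx
    rw [← hwz, hw]
  have hcomp : ∀ (q l : ℕ), q.Prime → l.Prime → q ≠ l → q ∣ S.d → l ∣ S.d →
      S.d ^ 2 ≤ 3 * (S.p * S.d0) → Target G := fun q l hq hl hql h1 h2 h3 =>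
    (S.not_composite hr hq hl hql h1 h2 h3).elim
  have hsq : ∀ (q : ℕ) [Fact q.Prime], S.d = q ^ 2 → (Nat.card G).factorization q = 2 →
      ∀ R : Sylow q G, IsMulCommutative (R : Subgroup G) := fun q _ hd hf R =>
    IsPGroup.isMulCommutative_of_card_eq_prime_sq (p := q) (by rw [R.card_eq_multiplicity, hf])
  have hfac : ∀ (q k m : ℕ) [Fact q.Prime], Nat.card G = q ^ k * m → ¬ q ∣ m →
      (Nat.card G).factorization q = k := by
    intro q k m hqf hG hm
    have hq : q.Prime := hqf.out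
    rw [hG, Nat.factorization_mul (pow_ne_zero _ hq.ne_zero) (fun h => hm (by rw [h]; exact dvd_zero q)),
      Finsupp.add_apply, Nat.Prime.factorization_pow hq, Finsupp.single_eq_same,
      Nat.factorization_eq_zero_of_not_dvd hm, add_zero]
  have hcard := S.card_of_one hr
  rcases hmem with ⟨hd, hd0, hp, rfl⟩ | hmem
  · exact hnpc 1 0 3 60 [4, 5] (by norm_num) (by norm_num) (by decide) (by decide) (by decide)
      (by rw [hd, hd0, hp]) (by norm_num) (by norm_num)
  rcases hmem with ⟨hd, hd0, hp, rfl⟩ | hmem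
  · exact hnpc 2 0 67 504 [8] (by norm_num) (by norm_num) (by decide) (by decide) (by decide)
      (by rw [hd, hd0, hp]) (by norm_num) (by norm_num)
  rcases hmem with ⟨hd, hd0, hp, rfl⟩ | hmem
  · exact hnpc 2 0 67 360 [9] (by norm_num) (by norm_num) (by decide) (by decide) (by decide)
      (by rw [hd, hd0, hp]) (by norm_num) (by norm_num)
  rcases hmem with ⟨hd, hd0, hp, rfl⟩ | hmem
  · exact hnpc 3 0 67 1680 [] (by norm_num) (by norm_num) (by decide) (by decide) (by decide)
      (by rw [hd, hd0, hp]) (by norm_num) (by norm_num)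
  rcases hmem with ⟨hd, hd0, hp, rfl⟩ | hmem
  · exact hnpc 3 0 67 4080 [16] (by norm_num) (by norm_num) (by decide) (by decide) (by decide)
      (by rw [hd, hd0, hp]) (by norm_num) (by norm_num)
  rcases hmem with ⟨hd, hd0, hp, rfl⟩ | hmem
  · exact hnpc 1 1 5 7980 [] (by norm_num) (by norm_num) (by decide) (by decide) (by decide)
      (by rw [hd, hd0, hp]) (by norm_num) (by norm_num)
  rcases hmem with ⟨hd, hd0, hp, rfl⟩ | hmem
  · exact hnpc 1 1 5 4620 [] (by norm_num) (by norm_num) (by decide) (by decide) (by decide)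
      (by rw [hd, hd0, hp]) (by norm_num) (by norm_num)
  rcases hmem with ⟨hd, hd0, hp, rfl⟩ | hmem
  · exact hcomp 2 3 Nat.prime_two Nat.prime_three (by norm_num) (by rw [hd]; norm_num) (by rw [hd]; norm_num)
      (by rw [hd, hd0, hp]; norm_num)
  rcases hmem with ⟨hd, hd0, hp, rfl⟩ | hmem
  · -- `PSL(2, 25)`
    rw [hd, hd0, hp] at hcard
    have hf := hfac 5 2 312 hcard (by norm_num)
    obtain ⟨F, i, j, e⟩ := S.psl_of_abelian (q := 5) (k := 2) hr hd hf (hsq 5 hd hf)
      (by rw [hd, hcard]; norm_num) (by rw [hcard]; norm_num)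
    exact target_of_psl (n := 7800) (l := [25]) (by decide) (by decide) e hcard
  rcases hmem with ⟨hd, hd0, hp, rfl⟩ | hmem
  · exact hnpc 1 1 7 9828 [27] (by norm_num) (by norm_num) (by decide) (by decide) (by decide)
      (by rw [hd, hd0, hp]) (by norm_num) (by norm_num)
  rcases hmem with ⟨hd, hd0, hp, rfl⟩ | hmem
  · exact hnpc 1 1 7 21924 [] (by norm_num) (by norm_num) (by decide) (by decide) (by decide)
      (by rw [hd, hd0, hp]) (by norm_num) (by norm_num)
  rcases hmem with ⟨hd, hd0, hp, rfl⟩ | hmem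
  · exact hnpc 1 2 3 21420 [] (by norm_num) (by norm_num) (by decide) (by decide) (by decide)
      (by rw [hd, hd0, hp]) (by norm_num) (by norm_num)
  rcases hmem with ⟨hd, hd0, hp, rfl⟩ | hmem
  · exact hnpc 1 2 3 46620 [] (by norm_num) (by norm_num) (by decide) (by decide) (by decide)
      (by rw [hd, hd0, hp]) (by norm_num) (by norm_num)
  rcases hmem with ⟨hd, hd0, hp, rfl⟩ | hmem
  · exact hcomp 2 3 Nat.prime_two Nat.prime_three (by norm_num) (by rw [hd]; norm_num) (by rw [hd]; norm_num)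
      (by rw [hd, hd0, hp]; norm_num)
  rcases hmem with ⟨hd, hd0, hp, rfl⟩ | hmem
  · -- fifty Sylow 7-subgroups do not fit
    exfalso
    rw [hd, hd0, hp] at hcard
    have hf := hfac 7 2 240 hcard (by norm_num)
    have h50 := S.sylow_count (q := 7) (k := 2) hr hd fun R =>
      ⟨by rw [R.card_eq_multiplicity, hf, hd]; norm_num, hsq 7 hd hf R⟩
    obtain ⟨R⟩ : Nonempty (Sylow 7 G) := inferInstance
    have h := (normalizer ((R : Subgroup G) : Set G)).index_dvd_card
    rw [show (normalizer ((R : Subgroup G) : Set G)).index = Nat.card (Sylow 7 G) from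
      R.card_eq_index_normalizer.symm, h50, hd, hcard] at h
    norm_num at h
  rcases hmem with ⟨hd, hd0, hp, rfl⟩ | hmem
  · exact hnpc 5 0 67 124992 [] (by norm_num) (by norm_num) (by decide) (by decide) (by decide)
      (by rw [hd, hd0, hp]) (by norm_num) (by norm_num)
  rcases hmem with ⟨hd, hd0, hp, rfl⟩ | hmem
  · exact hnpc 5 0 67 20160 [] (by norm_num) (by norm_num) (by decide) (by decide) (by decide)
      (by rw [hd, hd0, hp]) (by norm_num) (by norm_num)
  rcases hmem with ⟨hd, hd0, hp, rfl⟩ | hmem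
  · exact hnpc 5 0 67 52416 [] (by norm_num) (by norm_num) (by decide) (by decide) (by decide)
      (by rw [hd, hd0, hp]) (by norm_num) (by norm_num)
  rcases hmem with ⟨hd, hd0, hp, rfl⟩ | hmem
  · exact hnpc 3 1 5 511920 [] (by norm_num) (by norm_num) (by decide) (by decide) (by decide)
      (by rw [hd, hd0, hp]) (by norm_num) (by norm_num)
  rcases hmem with ⟨hd, hd0, hp, rfl⟩ | hmem
  · exact hnpc 3 1 5 265680 [81] (by norm_num) (by norm_num) (by decide) (by decide) (by decide)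
      (by rw [hd, hd0, hp]) (by norm_num) (by norm_num)
  rcases hmem with ⟨hd, hd0, hp, rfl⟩ | hmem
  · exact hcomp 2 7 Nat.prime_two (by norm_num) (by norm_num) (by rw [hd]; norm_num) (by rw [hd]; norm_num)
      (by rw [hd, hd0, hp]; norm_num)
  rcases hmem with ⟨hd, hd0, hp, rfl⟩ | hmem
  · exact hcomp 3 5 Nat.prime_three (by norm_num) (by norm_num) (by rw [hd]; norm_num) (by rw [hd]; norm_num)
      (by rw [hd, hd0, hp]; norm_num)
  rcases hmem with ⟨hd, hd0, hp, rfl⟩ | ⟨hd, hd0, hp, rfl⟩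
  · exact hcomp 2 3 Nat.prime_two Nat.prime_three (by norm_num) (by rw [hd]; norm_num) (by rw [hd]; norm_num)
      (by rw [hd, hd0, hp]; norm_num)
  · -- `PSL(2, 2401)`
    rw [hd, hd0, hp] at hcard
    have hf := hfac 7 4 2882400 hcard (by norm_num)
    obtain ⟨F, i, j, e⟩ := S.psl_of_abelian (q := 7) (k := 4) hr (by rw [hd]; norm_num) hf
      (S.abelian_2401 hr hd hd0 hp) (by rw [hd, hcard]; norm_num) (by rw [hcard]; norm_num)
    exact target_of_psl (n := 6920642400) (l := [2401]) (by decide) (by decide) e hcard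

end Cfsg.Agent.Block.OnePrime
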