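import Cfsg.Agent.Lib.Block.OnePrime.Exists
import Cfsg.Agent.Lib.Block.OnePrime.Unit
import Cfsg.Agent.Lib.Block.OnePrime.CheapRows
import Cfsg.Agent.Lib.Block.OnePrime.RankTwoRows
import Cfsg.Agent.Lib.Block.OnePrime.Row125
import Cfsg.Agent.Lib.Block.OnePrime.Row35
import Cfsg.Agent.S3331

/-!
Simple groups of order `2 ^ a * 3 ^ b * 5 ^ c * 7 ^ d * p` with a self-centralizing Sylow `p`-subgroup of index two
in its normalizer.
-/

namespace Cfsg.Agent.Block.OnePrime

open Cfsg Subgroup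

set_option linter.style.haveILetI false

universe u

variable {G : Type u} [Group G] [Finite G] [IsSimpleGroup G]

/-- The centralizer of the Sylow subgroup. -/
theorem cen_sylow (hna : ¬ IsMulCommutative G) {p : ℕ} [Fact p.Prime] (P : Sylow p G)
    (hPp : Nat.card (P : Subgroup G) = p)
    (hN : (P : Subgroup G).relIndex (Subgroup.normalizer ((P : Subgroup G) : Set G)) = 2) :
    Subgroup.centralizer ((P : Subgroup G) : Set G) = (P : Subgroup G) := by
  have hp : p.Prime := Fact.out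
  obtain ⟨R₀, hR₀⟩ : p ∣ Nat.card G := by
    conv_lhs => rw [← hPp]
    exact Subgroup.card_subgroup_dvd_card _
  have hpm : ¬ p ∣ R₀ := by
    have h := P.card_mul_index
    rw [hPp] at h
    rw [← Nat.eq_of_mul_eq_mul_left hp.pos (h.trans hR₀)]
    exact P.not_dvd_index
  obtain ⟨e, k, -, -, he, he1, -, ⟨c₀, hc₀⟩, -⟩ := Block.OrdP.exists_e hna hR₀ hpm P
  have hCN := Subgroup.centralizer_le_normalizer ((P : Subgroup G) : Set G)
  have hPC : (P : Subgroup G) ≤ Subgroup.centralizer ((P : Subgroup G) : Set G) := by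
    haveI := Fact.mk (show (Nat.card (P : Subgroup G)).Prime from hPp.symm ▸ hp)
    haveI : IsCyclic (P : Subgroup G) := isCyclic_of_prime_card (p := p) hPp
    exact Subgroup.le_centralizer _
  have hmul := Subgroup.relIndex_mul_relIndex _ _ _ hPC hCN
  rw [hN, he] at hmul
  rcases (Nat.dvd_prime Nat.prime_two).1 ⟨e, hmul.symm⟩ with h | h
  · exact le_antisymm (Subgroup.relIndex_eq_one.1 h) hPC
  · rw [h] at hmul
    omega

/-- The case `p = 3`. -/
theorem target_three (hna : ¬ IsMulCommutative G) (P : Sylow 3 G) (hPp : Nat.card (P : Subgroup G) = 3)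
    (hN : (P : Subgroup G).relIndex (Subgroup.normalizer ((P : Subgroup G) : Set G)) = 2) : Target G := by
  haveI : Fact (Nat.Prime 3) := ⟨Nat.prime_three⟩
  rcases Cfsg.Agent.S3331.result (P : Subgroup G) hPp (cen_sylow hna P hPp hN) with
    ⟨N, hNn, hnil, -, hq⟩ | ⟨N, hNn, hab, -, ⟨e⟩⟩ | e
  · exfalso
    rcases IsSimpleGroup.eq_bot_or_eq_top_of_normal N hNn with rfl | rfl
    · have hc : Nat.card (G ⧸ (⊥ : Subgroup G)) = Nat.card G := by
        rw [← Subgroup.index_eq_card, Subgroup.index_bot]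
      have hsolv : Group.IsSolvable G := by
        rcases hq with h | ⟨⟨e⟩⟩
        · rw [hc] at h
          haveI := isCyclic_of_prime_card (α := G) (p := 3) h
          exact absurd ⟨⟨fun x y => by
            obtain ⟨g, hg⟩ := IsCyclic.exists_generator (α := G)
            obtain ⟨i, rfl⟩ := hg x
            obtain ⟨j, rfl⟩ := hg y
            exact (Commute.zpow_zpow_self g i j).eq⟩⟩ hna
        · have h6 : Nat.card G = 3 * 2 := by
            rw [← hc, Nat.card_congr e.toEquiv, Nat.card_perm, Nat.card_fin]; rfl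
          have hidx : (P : Subgroup G).index = 2 := by
            have := (P : Subgroup G).card_mul_index
            rw [hPp, h6] at this
            omega
          haveI := Subgroup.normal_of_index_eq_two hidx
          rcases IsSimpleGroup.eq_bot_or_eq_top_of_normal (P : Subgroup G) inferInstance with h | h
          · rw [h, Subgroup.card_bot] at hPp; omega
          · rw [h, Subgroup.index_top] at hidx; omega
      exact hna (IsSimpleGroup.comm_iff_isSolvable.2 hsolv |> fun h => ⟨⟨h⟩⟩)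
    · haveI := hnil
      haveI : Group.IsNilpotent G := Group.nilpotent_of_mulEquiv Subgroup.topEquiv
      exact hna ⟨⟨IsSimpleGroup.comm_iff_isSolvable.2 inferInstance⟩⟩
  · rcases IsSimpleGroup.eq_bot_or_eq_top_of_normal N hNn with rfl | rfl
    · refine psl_five ?_
      rw [← Subgroup.index_bot, Subgroup.index_eq_card, Nat.card_congr e.toEquiv,
        nat_card_alternatingGroup, Nat.card_fin]
      rfl
    · exfalso
      have h := Nat.card_congr e.toEquiv
      rw [← Subgroup.index_eq_card, Subgroup.index_top, nat_card_alternatingGroup, Nat.card_fin] at h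
      norm_num [Nat.factorial] at h
  · haveI : Fact (Nat.Prime 7) := ⟨by norm_num⟩
    exact Or.inl ⟨ZMod 7, inferInstance, inferInstance, by simp [ZMod.card], e⟩

/-- The case `p ≥ 5`. -/
theorem Setup.target (S : Setup G) (hsm : ∀ q : ℕ, q.Prime → q ∣ Nat.card G → q = S.p ∨ q ∈ [2, 3, 5, 7])
    (H20_20_4 : ∀ S : Setup G, S.d = 20 → S.p = 19 → S.r = 20 → S.a S.t = 4 → False)
    (H24_252_8n : ∀ S : Setup G, S.d = 24 → S.p = 23 → S.r = 252 → S.a S.t = -8 → False)
    (H27_25_7 : ∀ S : Setup G, S.d = 27 → S.p = 13 → S.r = 25 → S.a S.t = 7 → False)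
    (H27_25_1n : ∀ S : Setup G, S.d = 27 → S.p = 13 → S.r = 25 → S.a S.t = -1 → False)
    (H27_25_9n : ∀ S : Setup G, S.d = 27 → S.p = 13 → S.r = 25 → S.a S.t = -9 → False)
    (H27_40_5n : ∀ S : Setup G, S.d = 27 → S.p = 13 → S.r = 40 → S.a S.t = -5 → False)
    (H49_9_1 : ∀ S : Setup G, S.d = 49 → S.p = 5 → S.r = 9 → S.a S.t = 1 → False)
    (H64_21_0 : ∀ S : Setup G, S.d = 64 → S.p = 5 → S.r = 21 → S.a S.t = 0 → False)
    (H64_25_0 : ∀ S : Setup G, S.d = 64 → S.p = 13 → S.r = 25 → S.a S.t = 0 → False)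
    (H64_105_0 : ∀ S : Setup G, S.d = 64 → S.p = 13 → S.r = 105 → S.a S.t = 0 → False) :
    Target G := by
  by_cases hr1 : S.r = 1
  · exact S.target_one hr1 hsm
  have hmem := S.mem_survivors hsm
  rw [survivors_eq] at hmem
  have hlt : S.a S.t < S.d := S.lt _ fun h => by simpa [h] using S.ht
  have hwz : ((((S.d : ℤ) - S.a S.t).toNat : ℕ) : ℤ) = (S.d : ℤ) - S.a S.t := Int.toNat_of_nonneg (by omega)
  generalize ((S.d : ℤ) - S.a S.t).toNat = w at hmem hwz
  simp only [List.mem_cons, Prod.mk.injEq, List.not_mem_nil, or_false, hr1, false_and, and_false,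
    false_or] at hmem
  rcases hmem with ⟨hd, hd0, hp, hr, hw⟩ | hmem
  · exact (row6_6 S hd hd0 hp hr).elim
  rcases hmem with ⟨hd, hd0, hp, hr, hw⟩ | hmem
  · exact (row6_4 S hd hd0 hp hr (by omega)).elim
  rcases hmem with ⟨hd, hd0, hp, hr, hw⟩ | hmem
  · exact (row9_14 S hd hd0 hp hr (by omega)).elim
  rcases hmem with ⟨hd, hd0, hp, hr, hw⟩ | hmem
  · exact (row10_56 S hd hd0 hp hr (by omega)).elim
  rcases hmem with ⟨hd, hd0, hp, hr, hw⟩ | hmem
  · exact (row20_18 S hd hd0 hp hr (by omega)).elim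
  rcases hmem with ⟨hd, hd0, hp, hr, hw⟩ | hmem
  · exact (H20_20_4 S hd hp hr (by omega)).elim
  rcases hmem with ⟨hd, hd0, hp, hr, hw⟩ | hmem
  · exact (row20_360 S hd hd0 hp hr (by omega)).elim
  rcases hmem with ⟨hd, hd0, hp, hr, hw⟩ | hmem
  · exact (row21_45 S hd hd0 hp hr).elim
  rcases hmem with ⟨hd, hd0, hp, hr, hw⟩ | hmem
  · exact (row21_45 S hd hd0 hp hr).elim
  rcases hmem with ⟨hd, hd0, hp, hr, hw⟩ | hmem
  · exact (row21_45 S hd hd0 hp hr).elim
  rcases hmem with ⟨hd, hd0, hp, hr, hw⟩ | hmem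
  · exact (row21_45 S hd hd0 hp hr).elim
  rcases hmem with ⟨hd, hd0, hp, hr, hw⟩ | hmem
  · exact (row21_10 S hd hd0 hp hr (by omega)).elim
  rcases hmem with ⟨hd, hd0, hp, hr, hw⟩ | hmem
  · exact (row21_12 S hd hd0 hp hr (by omega)).elim
  rcases hmem with ⟨hd, hd0, hp, hr, hw⟩ | hmem
  · exact (row21_120 S hd hd0 hp hr (by omega)).elim
  rcases hmem with ⟨hd, hd0, hp, hr, hw⟩ | hmem
  · exact (H24_252_8n S hd hp hr (by omega)).elim
  rcases hmem with ⟨hd, hd0, hp, hr, hw⟩ | hmem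
  · exact (H27_25_7 S hd hp hr (by omega)).elim
  rcases hmem with ⟨hd, hd0, hp, hr, hw⟩ | hmem
  · exact (H27_25_1n S hd hp hr (by omega)).elim
  rcases hmem with ⟨hd, hd0, hp, hr, hw⟩ | hmem
  · exact (H27_25_9n S hd hp hr (by omega)).elim
  rcases hmem with ⟨hd, hd0, hp, hr, hw⟩ | hmem
  · exact (H27_40_5n S hd hp hr (by omega)).elim
  rcases hmem with ⟨hd, hd0, hp, hr, hw⟩ | hmem
  · exact (row35 S hd hp hr (by omega)).elim
  rcases hmem with ⟨hd, hd0, hp, hr, hw⟩ | hmem
  · exact (H49_9_1 S hd hp hr (by omega)).elim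
  rcases hmem with ⟨hd, hd0, hp, hr, hw⟩ | hmem
  · exact (row49 S hd hp hr (by omega)).elim
  rcases hmem with ⟨hd, hd0, hp, hr, hw⟩ | hmem
  · exact (row50_18 S hd hd0 hp hr).elim
  rcases hmem with ⟨hd, hd0, hp, hr, hw⟩ | hmem
  · exact (row50 S hd hp hr (by omega)).elim
  rcases hmem with ⟨hd, hd0, hp, hr, hw⟩ | hmem
  · exact (H64_21_0 S hd hp hr (by omega)).elim
  rcases hmem with ⟨hd, hd0, hp, hr, hw⟩ | hmem
  · exact (H64_25_0 S hd hp hr (by omega)).elim
  rcases hmem with ⟨hd, hd0, hp, hr, hw⟩ | hmem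
  · exact (H64_105_0 S hd hp hr (by omega)).elim
  rcases hmem with ⟨hd, hd0, hp, hr, hw⟩ | hmem
  · exact (row125 S hd hp hr (by omega)).elim
  obtain ⟨hd, hd0, hp, hr, hw⟩ := hmem
  exact (row125_neg S hd hd0 hp hr (by omega)).elim

end Cfsg.Agent.Block.OnePrime
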