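import Cfsg.Agent.Lib.Block.OnePrime.Local

/-!
The character `(χ(g) - χ(g u)) / 2` of the centralizer of an involution `u`.
-/

namespace Cfsg.Agent.Block.OnePrime

open Cfsg Cfsg.Agent.Char Subgroup

set_option linter.style.haveILetI false

universe u

variable {G : Type u} [Group G] [Finite G] (S : Setup G)

/-- Half the difference of the values at `g` and `g * u`. -/
def Setup.minus (u g : G) : ℤ := (S.a g - S.a (g * u)) / 2

theorem Setup.two_mul_minus {u g : G} (hu : orderOf u = 2) (hc : Commute g u) :
    2 * S.minus u g = S.a g - S.a (g * u) := by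
  have h := S.a_invol_mul hu hc.symm
  rw [← hc.eq] at h
  exact Int.mul_ediv_cancel' (Int.ModEq.dvd h)

/-- It is a character of the centralizer of `u`. -/
theorem Setup.minus_isCharacter {u : G} (hu : orderOf u = 2) :
    IsCharacter (centralizer ({u} : Set G)) (fun g : centralizer ({u} : Set G) => (S.minus u (g : G) : ℂ)) := by
  have hu2 : u * u = 1 := by rw [← pow_two, ← hu, pow_orderOf_eq_one]
  have hmem : u ∈ centralizer ({u} : Set G) := mem_centralizer_singleton_iff.2 rfl
  have h := isCharacter_minus (IsChar.res (IsIrr.isCharacter S.χ.2) (centralizer ({u} : Set G)))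
    (t := ⟨u, hmem⟩) (fun g => Subtype.ext (mem_centralizer_singleton_iff.1 g.2)) (Subtype.ext hu2)
  convert h using 1
  funext g
  have h2 := S.two_mul_minus hu (g := (g : G)) (mem_centralizer_singleton_iff.1 g.2)
  have h3 : (2 : ℂ) * (S.minus u (g : G) : ℂ) = (S.a (g : G) : ℂ) - (S.a ((g : G) * u) : ℂ) := by
    exact_mod_cast h2
  simp only [Subgroup.coe_mul]
  rw [S.ha, S.ha, ← h3]
  ring

theorem Setup.minus_one {u : G} (hu : orderOf u = 2) : 2 * S.minus u 1 = (S.d : ℤ) - S.a S.t := by
  rw [S.two_mul_minus hu (Commute.one_left _), one_mul, S.hd, S.a_invol hu]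

theorem Setup.abs_minus_le {u g : G} (hu : orderOf u = 2) (hc : Commute g u) :
    |S.minus u g| ≤ |S.minus u 1| := by
  have h := IsChar.norm_le (S.minus_isCharacter hu) ⟨g, mem_centralizer_singleton_iff.2 hc⟩
  simp only [Subgroup.coe_one, Complex.norm_intCast] at h
  exact_mod_cast h

/-- Divisibility of the sum of squares over a coset of a subgroup centralized by `z`. -/
theorem Setup.minus_sq_coset_dvd {u : G} (hu : orderOf u = 2) (K : Subgroup G) [Fintype K]
    (hK : K ≤ centralizer ({u} : Set G)) {z : G} (hzu : Commute z u) (hz : ∀ k ∈ K, Commute k z) :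
    (Nat.card K : ℤ) ∣ ∑ k : K, S.minus u ((k : G) * z) ^ 2 := by
  classical
  set L := centralizer ({u} : Set G)
  haveI : Fintype (K.subgroupOf L) := Fintype.ofFinite _
  have h := char_coset_dvd (IsChar.mul (S.minus_isCharacter hu) (S.minus_isCharacter hu))
    (b := fun g : L => S.minus u (g : G) ^ 2) (fun g => by simp [sq]) (K.subgroupOf L)
    (z := ⟨z, mem_centralizer_singleton_iff.2 hzu⟩) fun k hk => Subtype.ext (hz _ hk)
  rw [Nat.card_congr (Subgroup.subgroupOfEquivOfLe hK).toEquiv] at h
  convert h using 1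
  exact (Equiv.sum_comp (Subgroup.subgroupOfEquivOfLe hK).toEquiv
    (fun k : K => S.minus u ((k : G) * z) ^ 2)).symm.trans (Finset.sum_congr rfl fun k _ => rfl)

end Cfsg.Agent.Block.OnePrime
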