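import Mathlib
import Cfsg.Agent.Lib.Block.OnePrime.SylowPrime

/-!
Small group-theoretic tools for the rows with `r > 1`.
-/

namespace Cfsg.Agent.Block.OnePrime

open Subgroup

set_option linter.style.haveILetI false

universe u

variable {L : Type u} [Group L] [Finite L]

/-- The Sylow count. -/
theorem index_normalizer_mod {q : ℕ} [hq : Fact q.Prime] (P : Sylow q L) :
    (normalizer ((P : Subgroup L) : Set L)).index % q = 1 := by
  have h := card_sylow_modEq_one q L
  rw [Sylow.card_eq_index_normalizer P] at h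
  exact Eq.trans h (Nat.one_mod_eq_one.2 hq.out.ne_one)

/-- Centralizers inside a subgroup. -/
theorem card_centralizer_in (H : Subgroup L) (y : H) :
    Nat.card (centralizer ({y} : Set H)) = Nat.card ↥(H ⊓ centralizer ({(y : L)} : Set L)) :=
  Nat.card_congr
    { toFun := fun x => ⟨((x : H) : L), (x : H).2, mem_centralizer_singleton_iff.2
        (congrArg Subtype.val (mem_centralizer_singleton_iff.1 x.2))⟩
      invFun := fun x => ⟨⟨(x : L), x.2.1⟩, mem_centralizer_singleton_iff.2
        (Subtype.ext (mem_centralizer_singleton_iff.1 x.2.2))⟩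
      left_inv := fun _ => rfl
      right_inv := fun _ => rfl }

/-- The center of a nonabelian group of order `q ^ 3` is normalized by the normalizer. -/
theorem exists_center_cube {q : ℕ} [hq : Fact q.Prime] {P : Subgroup L} (hP : Nat.card P = q ^ 3)
    (hna : ¬ IsMulCommutative P) :
    ∃ z ∈ P, orderOf z = q ∧ (∀ x ∈ P, Commute z x) ∧
      normalizer (P : Set L) ≤ normalizer ((zpowers z : Subgroup L) : Set L) := by
  have hpg : IsPGroup q P := IsPGroup.of_card hP
  obtain ⟨k, hk0, hk⟩ := IsPGroup.card_center_eq_prime_pow hP (by norm_num)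
  have hk1 : k = 1 := by
    by_contra hne
    apply hna
    have hk3 : k ≤ 3 := (Nat.pow_dvd_pow_iff_le_right hq.out.one_lt).1 (by
      rw [← hk, ← hP]; exact Subgroup.card_subgroup_dvd_card _)
    have hidx := Subgroup.card_mul_index (center P)
    rw [hk, hP] at hidx
    have hc : IsCyclic (P ⧸ center P) := by
      obtain rfl | rfl : k = 2 ∨ k = 3 := by omega
      · haveI : Fact (Nat.Prime q) := hq
        refine isCyclic_of_prime_card (p := q) ?_
        rw [← Subgroup.index_eq_card]
        exact Nat.eq_of_mul_eq_mul_left (pow_pos hq.out.pos 2) (hidx.trans (pow_succ q 2))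
      · haveI : Subsingleton (P ⧸ center P) := Finite.card_le_one_iff_subsingleton.1 (by
          rw [← Subgroup.index_eq_card]
          exact (Nat.eq_of_mul_eq_mul_left (pow_pos hq.out.pos 3) (hidx.trans (mul_one _).symm)).le)
        infer_instance
    exact ⟨⟨commutative_of_cyclic_center_quotient (QuotientGroup.mk' (center P))
      (by rw [QuotientGroup.ker_mk'])⟩⟩
  subst hk1
  rw [pow_one] at hk
  obtain ⟨⟨z, hzc⟩, hz⟩ := exists_prime_orderOf_dvd_card' (G := center P) q (hk ▸ dvd_rfl)
  rw [Subgroup.orderOf_mk, ← Subgroup.orderOf_coe] at hz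
  have hcomm : ∀ x ∈ P, Commute (z : L) x := fun x hx =>
    (congrArg Subtype.val (Subgroup.mem_center_iff.1 hzc ⟨x, hx⟩)).symm
  refine ⟨z, z.2, hz, hcomm, fun g hg => ?_⟩
  have hzeq : (zpowers (z : L)) = (center P).map P.subtype := by
    refine Subgroup.eq_of_le_of_card_ge (zpowers_le.2 ⟨z, hzc, rfl⟩) ?_
    rw [Nat.card_zpowers, hz, Subgroup.card_map_of_injective P.subtype_injective, hk]
  have key : ∀ g ∈ normalizer (P : Set L), ∀ x ∈ zpowers (z : L), g * x * g⁻¹ ∈ zpowers (z : L) := by
    intro g hg x hx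
    rw [hzeq] at hx ⊢
    obtain ⟨⟨x, hxP⟩, hxc, rfl⟩ := hx
    refine ⟨⟨g * x * g⁻¹, (Subgroup.mem_normalizer_iff.1 hg x).1 hxP⟩, Subgroup.mem_center_iff.2 fun w => ?_, rfl⟩
    have hw : g⁻¹ * (w : L) * g ∈ P := by
      rw [Subgroup.mem_normalizer_iff.1 hg, show g * (g⁻¹ * (w : L) * g) * g⁻¹ = (w : L) by group]
      exact w.2
    have h := congrArg Subtype.val (Subgroup.mem_center_iff.1 hxc ⟨_, hw⟩)
    refine Subtype.ext ?_
    simp only [Subgroup.coe_mul] at h ⊢
    calc (w : L) * (g * x * g⁻¹) = g * (g⁻¹ * (w : L) * g * x) * g⁻¹ := by group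
      _ = g * x * g⁻¹ * (w : L) := by rw [h]; group
  rw [Subgroup.mem_normalizer_iff]
  exact fun x => ⟨key g hg x, fun h => by
    have h2 := key g⁻¹ ((normalizer (P : Set L)).inv_mem hg) _ h
    rwa [show g⁻¹ * (g * x * g⁻¹) * g⁻¹⁻¹ = x by group] at h2⟩

/-- An automorphism of order two of a nonabelian group of odd order has a fixed point. -/
theorem exists_fixed_point {P : Subgroup L} (hna : ¬ IsMulCommutative P) {u : L}
    (hu : u ^ 2 = 1) (hN : ∀ x ∈ P, u * x * u⁻¹ ∈ P) : ∃ x ∈ P, x ≠ 1 ∧ Commute u x := by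
  by_contra hcon
  push Not at hcon
  let φ : P →* P :=
    { toFun := fun x => ⟨u * x * u⁻¹, hN x x.2⟩
      map_one' := Subtype.ext (by simp)
      map_mul' := fun x y => Subtype.ext (by simp) }
  have hfix : MonoidHom.FixedPointFree φ := by
    intro x hx
    by_contra hne
    exact hcon x x.2 (fun e => hne (Subtype.ext e))
      (mul_inv_eq_iff_eq_mul.1 (congrArg Subtype.val hx : u * (x : L) * u⁻¹ = x))
  have huu : u * u = 1 := by rw [← sq, hu]
  have h2 : Function.Involutive φ := fun x => Subtype.ext (by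
    change u * (u * (x : L) * u⁻¹) * u⁻¹ = x
    rw [inv_eq_of_mul_eq_one_right huu, ← mul_assoc, ← mul_assoc, huu, one_mul, mul_assoc, huu, mul_one])
  have hinv := congrFun (hfix.coe_eq_inv_of_involutive h2)
  refine hna ⟨⟨fun x y => ?_⟩⟩
  have h := hinv (x * y)
  rw [map_mul, hinv x, hinv y] at h
  calc x * y = (x * y)⁻¹⁻¹ := (inv_inv _).symm
    _ = y * x := by rw [← h]; simp

/-- A 2-group acting on the nontrivial cosets of `Q` in `P` such that no involution fixes one. -/
theorem card_dvd_of_free {P Q K : Subgroup L} {n : ℕ} (hQP : Q ≤ P)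
    (hn : Nat.card P = n * Nat.card Q) (hKP : ∀ k ∈ K, ∀ x ∈ P, k * x * k⁻¹ ∈ P)
    (hKQ : ∀ k ∈ K, ∀ x ∈ Q, k * x * k⁻¹ ∈ Q) (hK : IsPGroup 2 K)
    (hfree : ∀ w ∈ K, orderOf w = 2 → ∀ x ∈ P, x⁻¹ * (w * x * w⁻¹) ∈ Q → x ∈ Q) :
    Nat.card K ∣ n - 1 := by
  classical
  set R := Q.subgroupOf P with hR
  have hidx : Nat.card (P ⧸ R) = n := by
    have h := Subgroup.card_mul_index R
    rw [hR, Nat.card_congr (Subgroup.subgroupOfEquivOfLe hQP).toEquiv, hn, mul_comm n] at h
    rw [← Subgroup.index_eq_card, hR]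
    exact Nat.eq_of_mul_eq_mul_left Nat.card_pos h
  letI act : MulAction K (P ⧸ R) :=
    { smul := fun k c => Quotient.map' (fun x : P => (⟨k * x * (k : L)⁻¹, hKP k k.2 x x.2⟩ : P))
        (fun x y h => by
          rw [QuotientGroup.leftRel_apply, Subgroup.mem_subgroupOf] at h ⊢
          have h2 := hKQ k k.2 _ h
          simp only [Subgroup.coe_mul, Subgroup.coe_inv] at h2 ⊢
          convert h2 using 1
          group) c
      one_smul := fun c => by
        induction c using Quotient.inductionOn' with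
        | h x => exact congrArg Quotient.mk'' (Subtype.ext (by simp))
      mul_smul := fun k l c => by
        induction c using Quotient.inductionOn' with
        | h x => exact congrArg Quotient.mk'' (Subtype.ext (by simp [mul_assoc])) }
  have hmk : ∀ (k : K) (x : P),
      k • (QuotientGroup.mk x : P ⧸ R) = QuotientGroup.mk (⟨k * x * (k : L)⁻¹, hKP k k.2 x x.2⟩ : P) :=
    fun _ _ => rfl
  let X : SubMulAction K (P ⧸ R) :=
    { carrier := {c | c ≠ QuotientGroup.mk 1}
      smul_mem' := fun k c hc h => hc (by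
        have e1 : k⁻¹ • (QuotientGroup.mk 1 : P ⧸ R) = QuotientGroup.mk 1 := by
          rw [hmk]; exact congrArg _ (Subtype.ext (by simp))
        rw [← inv_smul_smul k c, h, e1]) }
  have hX : Nat.card X = n - 1 := by
    haveI : Fintype (P ⧸ R) := Fintype.ofFinite _
    have e := Fintype.card_subtype_compl (fun c : P ⧸ R => c = QuotientGroup.mk 1)
    rw [Fintype.card_subtype_eq] at e
    rw [← hidx, Nat.card_eq_fintype_card (α := P ⧸ R), ← e, ← Nat.card_eq_fintype_card]
    rfl
  have hstab : ∀ c : X, MulAction.stabilizer K c = ⊥ := by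
    rintro ⟨c, hc⟩
    by_contra hne
    obtain ⟨m, hm⟩ := IsPGroup.iff_card.1 (hK.to_subgroup (MulAction.stabilizer K (⟨c, hc⟩ : X)))
    haveI : Fact (Nat.Prime 2) := ⟨Nat.prime_two⟩
    obtain ⟨⟨w, hwc⟩, hw⟩ := exists_prime_orderOf_dvd_card' (G := MulAction.stabilizer K (⟨c, hc⟩ : X)) 2 (by
      rw [hm]
      refine dvd_pow_self 2 fun h0 => hne ?_
      rw [h0, pow_zero] at hm
      exact Subgroup.card_eq_one.1 hm)
    rw [Subgroup.orderOf_mk, ← Subgroup.orderOf_coe] at hw
    have he : w • c = c := congrArg Subtype.val (MulAction.mem_stabilizer_iff.1 hwc)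
    obtain ⟨x, rfl⟩ := QuotientGroup.mk_surjective c
    rw [hmk, eq_comm, QuotientGroup.eq, Subgroup.mem_subgroupOf] at he
    have hxQ := hfree w w.2 hw x x.2 (by simpa using he)
    refine hc (QuotientGroup.eq.2 ?_)
    rw [Subgroup.mem_subgroupOf]
    simpa using Q.inv_mem hxQ
  haveI : Fintype (Quotient (MulAction.orbitRel K X)) := Fintype.ofFinite _
  rw [← hX, Nat.card_congr (MulAction.selfEquivSigmaOrbitsQuotientStabilizer K X), Nat.card_sigma]
  refine Finset.dvd_sum fun c _ => ?_
  rw [← Subgroup.index_eq_card, hstab, Subgroup.index_bot]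

end Cfsg.Agent.Block.OnePrime
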