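import Cfsg.Agent.Lib.Block.OnePrime.Local
import Cfsg.Agent.Lib.Block.OnePrime.RowTools

/-!
The row `(d, p, r) = (20, 19, 20)`: the values on the group generated by an element of order five and a normal
2-subgroup of the centralizer of an involution sum to a negative number.
-/

namespace Cfsg.Agent.Block.OnePrime

open Cfsg Cfsg.Agent.Char Subgroup

set_option linter.style.haveILetI false

universe u

variable {G : Type u} [Group G] [Finite G] (S : Setup G)

/-- Elements of order five commuting with an involution. -/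
theorem row20_five (hd : S.d = 20) (hp : S.p = 19) (hr : S.r = 20) (hv : S.a S.t = 4) (hδ : S.δ = 1)
    {u y : G} (hu : orderOf u = 2) (hy : orderOf y = 5) (hc : Commute y u) :
    S.a y = -5 ∧ Nat.card ↥(centralizer ({u} : Set G) ⊓ centralizer ({y} : Set G)) ∣ 20 := by
  have hne : y ≠ 1 := fun e => by rw [e, orderOf_one] at hy; norm_num at hy
  have hreg := S.regular_of_commute hu hc
  have hcd := S.cen_dvd y hne hreg
  have hn := S.norm_le y hreg
  have hlt := S.lt y hne
  have hfix := S.fix_prime Nat.prime_five hy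
  have hF : (0 : ℤ) ≤ S.fix (zpowers y) := Int.natCast_nonneg _
  have h5 := S.a_congr_d (n := 1) Nat.prime_five (x := y) (by rw [pow_one, ← hy, pow_orderOf_eq_one])
  have hCu : Nat.card (centralizer ({u} : Set G)) = 320 := by
    rw [S.cen_invol hu, S.cen_t_nat, hd, hr, hv]; rfl
  rw [hd, hr] at hcd
  rw [hp, hδ, one_mul] at hn
  rw [hd] at hlt hfix h5
  simp only [Int.ModEq] at h5
  push_cast at hlt hfix h5 hcd
  norm_num at hn
  set D := centralizer ({u} : Set G) ⊓ centralizer ({y} : Set G)
  have hDu : Nat.card D ∣ 320 := hCu ▸ Subgroup.card_dvd_of_le inf_le_left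
  have hcd' := Int.le_of_dvd (by omega) hcd
  have hcases : S.a y = -5 ∨ S.a y = 0 := by
    have : S.a y = -5 ∨ S.a y = 0 ∨ S.a y = 5 ∨ S.a y = 10 ∨ S.a y = 15 := by omega
    rcases this with h | h | h | h | h
    · exact Or.inl h
    · exact Or.inr h
    all_goals (rw [h] at hcd' hn; norm_num at hcd' hn; omega)
  rcases hcases with ha | ha
  · refine ⟨ha, ?_⟩
    rw [ha] at hcd
    norm_num at hcd
    exact (Nat.dvd_gcd hDu ((Subgroup.card_dvd_of_le inf_le_right).trans (by exact_mod_cast hcd))).trans
      (show Nat.gcd 320 500 ∣ 20 by norm_num)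
  · exfalso
    rw [ha] at hcd
    norm_num at hcd
    have hD80 : Nat.card D ∣ 80 := (Nat.dvd_gcd hDu
      ((Subgroup.card_dvd_of_le inf_le_right).trans (by exact_mod_cast hcd))).trans
      (show Nat.gcd 320 400 ∣ 80 by norm_num)
    have hne' : u * y ≠ 1 := fun e => by
      rw [eq_inv_of_mul_eq_one_left e, orderOf_inv, hy] at hu; norm_num at hu
    have hcen := cen_mul hc.symm (by rw [hu, hy]; norm_num)
    obtain ⟨h1, -, -⟩ := S.bound hu ((Commute.refl u).mul_left hc) hne' (M := 80) (by norm_num) (by rw [hcen]; exact hD80)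
    rw [hp, hδ, one_mul] at h1
    norm_num at h1
    have e5 := S.a_congr_mul (n := 1) Nat.prime_five hc (by rw [pow_one, ← hy, pow_orderOf_eq_one])
    rw [hc.eq, S.a_invol hu, hv] at e5
    have e2 := S.a_invol_mul hu hc.symm
    rw [ha] at e2
    simp only [Int.ModEq] at e2 e5
    have hlo : -3 ≤ S.a (u * y) := by nlinarith
    have hhi : S.a (u * y) ≤ 1 := by nlinarith
    omega

set_option maxHeartbeats 400000 in
theorem row20_20 [IsSimpleGroup G] (hd : S.d = 20) (hp : S.p = 19) (hr : S.r = 20) (hv : S.a S.t = 4) :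
    False := by
  classical
  have hδ : S.δ = 1 := by
    rcases S.hδ with h | h
    · exact h
    · have := S.hdp
      rw [h, hp, hd] at this
      norm_num at this
  haveI : Fact (Nat.Prime 5) := ⟨Nat.prime_five⟩
  haveI : Fact (Nat.Prime 2) := ⟨Nat.prime_two⟩
  have hC : Nat.card (centralizer ({S.t} : Set G)) = 320 := by
    rw [S.cen_t_nat, hd, hr, hv]; rfl
  set L := centralizer ({S.t} : Set G) with hL
  have hLt : ∀ g : L, Commute (g : G) S.t := fun g => mem_centralizer_singleton_iff.1 g.2
  -- values at elements of two-power order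
  have hval2 : ∀ g : G, Commute g S.t → ∀ j, orderOf g = 2 ^ (j + 1) → S.a g ≤ 4 := by
    intro g hgt j hj
    have hne : g ≠ 1 := fun e => by
      rw [e, orderOf_one] at hj; exact (Nat.one_lt_two_pow (Nat.succ_ne_zero j)).ne hj
    obtain ⟨h1, -, -⟩ := S.bound S.ht hgt hne (by norm_num) (hC ▸ S.cen_dvd_t hj)
    rw [hp, hδ, one_mul] at h1
    norm_num at h1
    nlinarith
  -- values at elements of order divisible by five
  have hval5 : ∀ g : L, ∀ j, orderOf g = 5 * 2 ^ j → (j = 0 → S.a (g : G) = -5) ∧ S.a (g : G) ≤ -1 := by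
    intro g j hj
    have hgo : orderOf (g : G) = 5 * 2 ^ j := by rw [Subgroup.orderOf_coe, hj]
    have hy : orderOf ((g : G) ^ 2 ^ j) = 5 := by
      rw [orderOf_pow' _ (pow_ne_zero _ two_ne_zero), hgo, Nat.gcd_eq_right (dvd_mul_left _ _),
        Nat.mul_div_cancel _ (pow_pos two_pos _)]
    obtain ⟨hay, -⟩ := row20_five S hd hp hr hv hδ S.ht hy ((hLt g).pow_left _)
    rcases Nat.eq_zero_or_pos j with rfl | hj0
    · rw [pow_zero, pow_one] at hay
      exact ⟨fun _ => hay, hay.le.trans (by norm_num)⟩
    refine ⟨fun h => by omega, ?_⟩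
    obtain ⟨i, rfl⟩ : ∃ i, j = i + 1 := ⟨j - 1, by omega⟩
    have hu : orderOf ((g : G) ^ (5 * 2 ^ i)) = 2 := by
      rw [orderOf_pow' _ (by positivity), hgo,
        Nat.gcd_eq_right (Nat.mul_dvd_mul_left 5 (pow_dvd_pow 2 (Nat.le_succ i))), pow_succ, ← mul_assoc,
        Nat.mul_div_cancel_left _ (by positivity)]
    obtain ⟨-, hD⟩ := row20_five S hd hp hr hv hδ hu hy ((Commute.refl (g : G)).pow_pow _ _)
    have hne : (g : G) ≠ 1 := fun e => by
      rw [e, orderOf_one] at hgo
      have := Nat.one_le_two_pow (n := i + 1)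
      omega
    obtain ⟨h1, -, -⟩ := S.bound (g := (g : G)) hu ((Commute.refl _).pow_right _) hne (by norm_num)
      ((Subgroup.card_dvd_of_le (le_inf (centralizer_le_pow _ _) (centralizer_le_pow _ _))).trans hD)
    rw [hp, hδ, one_mul] at h1
    norm_num at h1
    have e2 := S.a_congr_pow_pow (g : G) Nat.prime_two (i + 1)
    rw [hay] at e2
    simp only [Int.ModEq] at e2
    have hlo : -2 ≤ S.a (g : G) := by nlinarith
    have hhi : S.a (g : G) ≤ 0 := by nlinarith
    omega
  obtain ⟨y, hy⟩ := exists_prime_orderOf_dvd_card' (G := L) 5 (by rw [hC]; norm_num)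
  obtain ⟨-, hD⟩ := row20_five S hd hp hr hv hδ S.ht (y := (y : G)) (by rw [Subgroup.orderOf_coe, hy]) (hLt y)
  -- a normal 2-subgroup of order at least eight
  obtain ⟨T, hT⟩ := Sylow.exists_subgroup_card_pow_prime (G := L) 2 (n := 6) (by rw [hC]; norm_num)
  have hTi : T.index = 5 := by
    have := Subgroup.card_mul_index T
    rw [hT, hC] at this
    omega
  set R := T.normalCore with hR
  have hRT : R ≤ T := Subgroup.normalCore_le T
  obtain ⟨k, hk, hRc⟩ := (Nat.dvd_prime_pow Nat.prime_two).1 (hT ▸ Subgroup.card_dvd_of_le hRT)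
  have hR8 : 8 ≤ Nat.card R := by
    have hi : R.index ∣ 120 := by
      rw [hR, Subgroup.normalCore_eq_ker, Subgroup.index_ker]
      refine (Subgroup.card_subgroup_dvd_card _).trans ?_
      rw [Nat.card_perm, ← Subgroup.index_eq_card, hTi]
      exact dvd_rfl
    have h := Subgroup.card_mul_index R
    rw [hRc, hC] at h
    rw [hRc]
    obtain ⟨c, hc⟩ := hi
    by_contra hlt
    have : k < 3 := by
      by_contra h3
      exact hlt (Nat.pow_le_pow_right two_pos (by omega : 3 ≤ k))
    interval_cases k
    · rw [show R.index = 320 by omega] at hc; omega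
    · rw [show R.index = 160 by omega] at hc; omega
    · rw [show R.index = 80 by omega] at hc; omega
  set π := QuotientGroup.mk' R with hπ
  have hy5 : orderOf (π y) = 5 := by
    rcases (Nat.dvd_prime Nat.prime_five).1 (hy ▸ orderOf_map_dvd π y) with h | h
    · exfalso
      rw [orderOf_eq_one_iff, hπ, QuotientGroup.mk'_apply, QuotientGroup.eq_one_iff] at h
      have h5 : 5 ∣ Nat.card R := by rw [← hy, ← Subgroup.orderOf_mk y h]; exact orderOf_dvd_natCard _
      rw [hRc] at h5
      have := Nat.prime_five.dvd_of_dvd_pow h5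
      norm_num at this
    · exact h
  set H := (zpowers (π y)).comap π with hH
  have hHc : Nat.card H = 5 * Nat.card R := by
    rw [← hy5, ← Nat.card_zpowers, mul_comm, ← Nat.card_prod]
    exact Nat.card_congr (QuotientGroup.preimageMkEquivSubgroupProdSet R (zpowers (π y) : Set (L ⧸ R)))
  have hRH : R ≤ H := fun g hg => by
    rw [hH, Subgroup.mem_comap, show π g = 1 from (QuotientGroup.eq_one_iff g).2 hg]
    exact one_mem _
  haveI : Fintype H := Fintype.ofFinite H
  have hbound : ∀ g : H, S.a ((g : L) : G) + 1 ≤ (if (g : L) ∈ R then (5 : ℤ) else 0) +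
      (if g = 1 then (16 : ℤ) else 0) - (if orderOf (g : L) = 5 then (4 : ℤ) else 0) := by
    intro g
    by_cases h1 : g = 1
    · subst h1
      rw [Subgroup.coe_one, Subgroup.coe_one, if_pos (one_mem R), if_pos rfl, if_neg (by simp), S.hd, hd]
      norm_num
    rw [if_neg h1]
    by_cases hgR : (g : L) ∈ R
    · obtain ⟨j, hj⟩ := (IsPGroup.iff_orderOf.1 (IsPGroup.of_card hRc)) ⟨(g : L), hgR⟩
      rw [Subgroup.orderOf_mk] at hj
      obtain ⟨i, rfl⟩ : ∃ i, j = i + 1 := ⟨j - 1, by
        rcases Nat.eq_zero_or_pos j with h | h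
        · rw [h, pow_zero, orderOf_eq_one_iff] at hj
          exact absurd (Subtype.ext hj) h1
        · omega⟩
      have := hval2 ((g : L) : G) (hLt _) i (by rw [Subgroup.orderOf_coe, hj])
      rw [if_pos hgR, if_neg (by
        rw [hj]
        intro h
        have h' : 2 ∣ 5 := h ▸ dvd_pow_self 2 (Nat.succ_ne_zero i)
        norm_num at h')]
      linarith
    · have h5 : 5 ∣ orderOf (g : L) := by
        have h : π (g : L) ≠ 1 := fun e => hgR ((QuotientGroup.eq_one_iff _).1 e)
        have h' : orderOf (π (g : L)) ∣ 5 := by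
          rw [← hy5]
          exact orderOf_dvd_of_mem_zpowers g.2
        rcases (Nat.dvd_prime Nat.prime_five).1 h' with e | e
        · exact absurd (orderOf_eq_one_iff.1 e) h
        · exact e ▸ orderOf_map_dvd π (g : L)
      obtain ⟨o, ho⟩ := h5
      have ho64 : o ∣ 2 ^ 6 := by
        have := orderOf_dvd_natCard (g : L)
        rw [hC, ho] at this
        exact Nat.dvd_of_mul_dvd_mul_left (by norm_num) (this : 5 * o ∣ 5 * 64)
      obtain ⟨j, -, rfl⟩ := (Nat.dvd_prime_pow Nat.prime_two).1 ho64
      obtain ⟨h0, hle⟩ := hval5 (g : L) j ho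
      rw [if_neg hgR]
      by_cases hg5 : orderOf (g : L) = 5
      · rw [if_pos hg5]
        have : j = 0 := by
          by_contra hj
          have := Nat.one_lt_two_pow hj
          omega
        rw [h0 this]
        norm_num
      · rw [if_neg hg5]
        linarith
  -- at least five elements of order five
  have hF : 5 ≤ (Finset.univ.filter fun g : H => orderOf (g : L) = 5).card := by
    have hyH : y ∈ H := mem_zpowers (π y)
    obtain ⟨r, hrR, hr'⟩ : ∃ r ∈ R, r * y * r⁻¹ ∉ zpowers y := by
      by_contra hcon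
      push Not at hcon
      have hRD : R.map L.subtype ≤ centralizer ({S.t} : Set G) ⊓ centralizer ({(y : G)} : Set G) := by
        rintro _ ⟨r, hr, rfl⟩
        refine ⟨r.2, mem_centralizer_singleton_iff.2 (congrArg Subtype.val (?_ : r * y = y * r))⟩
        have h1 : r * y * r⁻¹ * y⁻¹ ∈ zpowers y := mul_mem (hcon r hr) (inv_mem (mem_zpowers y))
        have h2 : r * y * r⁻¹ * y⁻¹ ∈ R := by
          rw [show r * y * r⁻¹ * y⁻¹ = r * (y * r⁻¹ * y⁻¹) by group]
          exact R.mul_mem hr ((inferInstance : R.Normal).conj_mem _ (R.inv_mem hr) y)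
        have hco : Nat.Coprime (Nat.card (zpowers y)) (Nat.card R) := by
          rw [Nat.card_zpowers, hy, hRc]
          exact Nat.Coprime.pow_right _ (by norm_num)
        have h3 : r * y * r⁻¹ * y⁻¹ = 1 := by
          rw [← Subgroup.mem_bot, ← Subgroup.inf_eq_bot_of_coprime hco]
          exact ⟨h1, h2⟩
        rwa [mul_inv_eq_one, mul_inv_eq_iff_eq_mul] at h3
      have := Nat.le_of_dvd (by norm_num) ((Subgroup.card_dvd_of_le hRD).trans hD)
      rw [Subgroup.card_map_of_injective L.subtype_injective] at this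
      have hd20 : Nat.card R ∣ 20 := by
        rw [← Subgroup.card_map_of_injective L.subtype_injective]
        exact (Subgroup.card_dvd_of_le hRD).trans hD
      rw [hRc] at hd20 hR8
      have : k ≤ 2 := by
        by_contra h3
        have h8 := (pow_dvd_pow 2 (show 3 ≤ k by omega)).trans hd20
        norm_num at h8
      have := Nat.pow_le_pow_right (show 0 < 2 by norm_num) this
      omega
    have hconj : r * y * r⁻¹ ∈ H := H.mul_mem (H.mul_mem (hRH hrR) hyH) (H.inv_mem (hRH hrR))
    let f : Fin 5 → H := fun i => if (i : ℕ) = 0 then ⟨r * y * r⁻¹, hconj⟩ else ⟨y, hyH⟩ ^ (i : ℕ)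
    have hinj : Function.Injective f := by
      intro i j hij
      have hij' := congrArg (fun g : H => (g : L)) hij
      simp only [f] at hij'
      refine Fin.ext ?_
      split_ifs at hij' with hi hj hj
      · omega
      · simp only [Subgroup.coe_pow] at hij'
        exact absurd (hij' ▸ pow_mem (mem_zpowers y) _) hr'
      · simp only [Subgroup.coe_pow] at hij'
        exact absurd (hij'.symm ▸ pow_mem (mem_zpowers y) _) hr'
      · simp only [Subgroup.coe_pow] at hij'
        rwa [pow_inj_mod, hy, Nat.mod_eq_of_lt i.isLt, Nat.mod_eq_of_lt j.isLt] at hij'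
    calc 5 = (Finset.univ.image f).card := by rw [Finset.card_image_of_injective _ hinj]; rfl
      _ ≤ _ := Finset.card_le_card fun g hg => by
        obtain ⟨i, -, rfl⟩ := Finset.mem_image.1 hg
        refine Finset.mem_filter.2 ⟨Finset.mem_univ _, ?_⟩
        simp only [f]
        split_ifs with hi
        · show orderOf (r * y * r⁻¹) = 5
          rw [← MulAut.conj_apply, MulEquiv.orderOf_eq, hy]
        · rw [Subgroup.coe_pow, (Nat.Coprime.orderOf_pow (by
            rw [hy]
            exact Nat.prime_five.coprime_iff_not_dvd.2 fun h => hi (Nat.eq_zero_of_dvd_of_lt h i.isLt)))]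
          exact hy
  have hsum := Finset.sum_le_sum (s := Finset.univ) fun g _ => hbound g
  have hR' : (Finset.univ.filter fun g : H => (g : L) ∈ R).card = Nat.card R := by
    rw [← Nat.card_congr (Subgroup.subgroupOfEquivOfLe hRH).toEquiv, Nat.card_eq_fintype_card,
      Fintype.card_subtype]
    rfl
  simp only [Finset.sum_add_distrib, Finset.sum_sub_distrib, ← Finset.sum_filter, Finset.sum_const,
    Finset.card_univ, nsmul_eq_mul, mul_one, Finset.filter_eq', Finset.mem_univ, if_true,
    Finset.sum_singleton, Finset.card_singleton, Nat.cast_one, hR', ← Nat.card_eq_fintype_card, hHc] at hsum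
  haveI : Fintype (H.map L.subtype) := Fintype.ofFinite _
  have hnn : (0 : ℤ) ≤ ∑ g : H, S.a ((g : L) : G) := by
    rw [show ∑ g : H, S.a ((g : L) : G) = ∑ g : H.map L.subtype, S.a (g : G) from
      Fintype.sum_equiv (H.equivMapOfInjective _ L.subtype_injective).toEquiv _ _ fun g => rfl,
      S.sum_eq_card_mul_fix]
    positivity
  have hFz : (5 : ℤ) ≤ (Finset.univ.filter fun g : H => orderOf (g : L) = 5).card := by exact_mod_cast hF
  push_cast at hsum
  linarith

end Cfsg.Agent.Block.OnePrime
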