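import Cfsg.Agent.Lib.Block.OnePrime.SmallRows
import Cfsg.Agent.Lib.Classical.SLGroup
import Cfsg.Agent.Lib.Invol.AbgConsumers.RankTwo
import Cfsg.Agent.S0280
import Cfsg.Agent.S0483
import Cfsg.Agent.S0507
import Cfsg.Agent.S0516
import Cfsg.Agent.S1248

/-!
The row `(d, p, r) = (49, 5, 9)`: a Sylow 2-subgroup of order 16 has 2-rank two by Burnside, so it is dihedral
or semidihedral, and the order is not that of a group with such a Sylow subgroup.
-/

namespace Cfsg.Agent.Block.OnePrime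

open Cfsg Subgroup

set_option linter.style.haveILetI false

universe u

section Groups

variable {H : Type u} [Group H] [Finite H]

/-- With an elementary abelian subgroup of index two the commutators take one nontrivial value and the center has
at least four elements. -/
theorem elementary_index_two (A : Subgroup H) (hA : ∀ a ∈ A, a ^ 2 = 1) (hi : A.index = 2)
    (h8 : Nat.card A = 8) :
    4 ≤ Nat.card ↥(A ⊓ center H) ∧ ∃ c : H, c ∈ A ⊓ center H ∧
      ∀ g h : H, g * h * g⁻¹ * h⁻¹ = 1 ∨ g * h * g⁻¹ * h⁻¹ = c := by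
  classical
  haveI : A.Normal := Subgroup.normal_of_index_eq_two hi
  have hcomm : ∀ a ∈ A, ∀ b ∈ A, a * b = b * a := by
    intro a ha b hb
    have h1 := hA _ (A.mul_mem ha hb)
    have h2 := hA a ha
    have h3 := hA b hb
    rw [pow_two] at h1 h2 h3
    calc a * b = a * (a * b * (a * b)) * b := by rw [h1, mul_one]
      _ = a * a * (b * a) * (b * b) := by group
      _ = b * a := by rw [h2, h3, one_mul, mul_one]
  obtain ⟨x, hx⟩ : ∃ x, x ∉ A := by
    by_contra hcon
    push Not at hcon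
    rw [(Subgroup.eq_top_iff' A).2 hcon, Subgroup.index_top] at hi
    norm_num at hi
  have hsplit : ∀ g : H, g ∈ A ∨ ∃ a ∈ A, g = x * a := fun g => by
    by_cases hg : g ∈ A
    · exact Or.inl hg
    · refine Or.inr ⟨x⁻¹ * g, ?_, by group⟩
      rw [Subgroup.mul_mem_iff_of_index_two hi, inv_mem_iff]
      exact iff_of_false hx hg
  have hconj : ∀ a ∈ A, x * a * x⁻¹ ∈ A := fun a ha => (inferInstance : A.Normal).conj_mem a ha x
  let φ : A →* A :=
    { toFun := fun a => ⟨x * a * x⁻¹ * a, A.mul_mem (hconj a a.2) a.2⟩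
      map_one' := Subtype.ext (by simp)
      map_mul' := fun a b => Subtype.ext (by
        change x * (a * b) * x⁻¹ * (a * b) = x * a * x⁻¹ * a * (x * b * x⁻¹ * b)
        calc x * ((a : H) * b) * x⁻¹ * (a * b) = x * a * x⁻¹ * ((x * b * x⁻¹) * a) * b := by group
          _ = x * a * x⁻¹ * (a * (x * b * x⁻¹)) * b := by rw [hcomm _ (hconj b b.2) _ a.2]
          _ = _ := by group) }
  have hx2 : x ^ 2 ∈ A := Subgroup.sq_mem_of_index_two hi x
  have hker : ∀ a : A, a ∈ φ.ker → Commute x (a : H) := fun a ha => by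
    have h : x * (a : H) * x⁻¹ * a = 1 := congrArg Subtype.val (MonoidHom.mem_ker.1 ha)
    have h2 : (a : H) * a = 1 := by rw [← pow_two]; exact hA a a.2
    rw [mul_eq_one_iff_eq_inv, inv_eq_of_mul_eq_one_right h2] at h
    exact mul_inv_eq_iff_eq_mul.1 h
  have hrk : φ.range ≤ φ.ker := by
    rintro _ ⟨a, rfl⟩
    refine MonoidHom.mem_ker.2 (Subtype.ext ?_)
    change x * (x * a * x⁻¹ * a) * x⁻¹ * (x * a * x⁻¹ * a) = 1
    have e : x ^ 2 * (a : H) * (x ^ 2)⁻¹ = a := by rw [hcomm _ hx2 _ a.2, mul_inv_cancel_right]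
    have h2 : (a : H) * a = 1 := by rw [← pow_two]; exact hA a a.2
    calc x * (x * (a : H) * x⁻¹ * a) * x⁻¹ * (x * a * x⁻¹ * a)
        = x ^ 2 * a * (x ^ 2)⁻¹ * (x * (a * a) * x⁻¹) * a := by
          rw [pow_two, mul_inv_rev]; simp only [mul_assoc, inv_mul_cancel_left]
      _ = 1 := by rw [e, h2, mul_one, mul_inv_cancel, mul_one, h2]
  have hcen : φ.ker.map A.subtype ≤ A ⊓ center H := by
    rintro _ ⟨a, ha, rfl⟩
    refine ⟨a.2, Subgroup.mem_center_iff.2 fun g => ?_⟩
    rcases hsplit g with hg | ⟨b, hb, rfl⟩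
    · exact hcomm g hg _ a.2
    · exact ((hker a ha).mul_left (hcomm b hb _ a.2 : Commute b (a : H))).eq
  have hmul : Nat.card φ.ker * Nat.card φ.range = 8 := by
    rw [← h8, ← Subgroup.index_ker, Subgroup.card_mul_index]
  have hle := Nat.le_of_dvd Nat.card_pos (Subgroup.card_dvd_of_le hrk)
  obtain ⟨j, hj, hkj⟩ := (Nat.dvd_prime_pow Nat.prime_two).1 (Dvd.intro _ hmul : Nat.card φ.ker ∣ 2 ^ 3)
  obtain ⟨hk4, hr2⟩ : 4 ≤ Nat.card φ.ker ∧ Nat.card φ.range ≤ 2 := by
    rw [hkj] at hmul hle ⊢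
    interval_cases j <;> omega
  refine ⟨?_, ?_⟩
  · have h1 := Subgroup.card_le_of_le hcen
    rw [Subgroup.card_map_of_injective A.subtype_injective] at h1
    omega
  set I := φ.range.map A.subtype with hI
  have hIc : Nat.card I ≤ 2 := by rw [hI, Subgroup.card_map_of_injective A.subtype_injective]; exact hr2
  obtain ⟨c, hcI', hc⟩ : ∃ c : H, c ∈ I ∧ ∀ g ∈ I, g = 1 ∨ g = c := by
    by_cases h : ∃ g ∈ I, g ≠ 1
    · obtain ⟨c, hcI, hc1⟩ := h
      refine ⟨c, hcI, fun g hg => ?_⟩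
      by_contra hcon
      push Not at hcon
      haveI : Fintype I := Fintype.ofFinite I
      have h3 : ({1, ⟨c, hcI⟩, ⟨g, hg⟩} : Finset I).card = 3 :=
        Finset.card_eq_three.2 ⟨_, _, _, fun e => hc1 (congrArg Subtype.val e).symm,
          fun e => hcon.1 (congrArg Subtype.val e).symm, fun e => hcon.2 (congrArg Subtype.val e).symm, rfl⟩
      have h4 := Finset.card_le_univ ({1, ⟨c, hcI⟩, ⟨g, hg⟩} : Finset I)
      rw [h3, ← Nat.card_eq_fintype_card] at h4
      omega
    · push Not at h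
      exact ⟨1, I.one_mem, fun g hg => Or.inl (h g hg)⟩
  refine ⟨c, hcen (Subgroup.map_mono hrk hcI'), fun g h => hc _ ?_⟩
  have hIcen : ∀ i ∈ I, ∀ k : H, k * i = i * k := by
    intro i hiI k
    obtain ⟨a, ha, rfl⟩ := hiI
    exact Subgroup.mem_center_iff.1 (hcen ⟨a, hrk ha, rfl⟩).2 k
  -- commutators are bilinear modulo the central subgroup
  have hmulr : ∀ g k l : H, g * k * g⁻¹ * k⁻¹ ∈ I → g * l * g⁻¹ * l⁻¹ ∈ I →
      g * (k * l) * g⁻¹ * (k * l)⁻¹ ∈ I := by
    intro g k l h1 h2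
    rw [show g * (k * l) * g⁻¹ * (k * l)⁻¹ = g * k * g⁻¹ * (g * l * g⁻¹ * l⁻¹) * k⁻¹ by group,
      mul_assoc, ← hIcen _ h2 k⁻¹, ← mul_assoc]
    exact I.mul_mem h1 h2
  have hsymm : ∀ g k : H, g * k * g⁻¹ * k⁻¹ ∈ I → k * g * k⁻¹ * g⁻¹ ∈ I := fun g k h => by
    rw [show k * g * k⁻¹ * g⁻¹ = (g * k * g⁻¹ * k⁻¹)⁻¹ by group]
    exact I.inv_mem h
  have hxa : ∀ a ∈ A, x * a * x⁻¹ * a⁻¹ ∈ I := fun a ha => by
    rw [inv_eq_of_mul_eq_one_right (show a * a = 1 by rw [← pow_two]; exact hA a ha)]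
    exact ⟨φ ⟨a, ha⟩, ⟨_, rfl⟩, rfl⟩
  have hxall : ∀ k : H, x * k * x⁻¹ * k⁻¹ ∈ I := fun k => by
    rcases hsplit k with hk | ⟨b, hb, rfl⟩
    · exact hxa k hk
    · exact hmulr _ _ _ (by simp [I.one_mem]) (hxa b hb)
  have haall : ∀ a ∈ A, ∀ k : H, a * k * a⁻¹ * k⁻¹ ∈ I := fun a ha k => by
    have haA : ∀ b ∈ A, a * b * a⁻¹ * b⁻¹ ∈ I := fun b hb => by
      rw [hcomm a ha b hb, mul_inv_cancel_right, mul_inv_cancel]; exact I.one_mem
    rcases hsplit k with hk | ⟨b, hb, rfl⟩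
    · exact haA k hk
    · exact hmulr _ _ _ (hsymm _ _ (hxa a ha)) (haA b hb)
  rcases hsplit g with hg | ⟨b, hb, rfl⟩
  · exact haall g hg h
  · exact hsymm _ _ (hmulr _ _ _ (hsymm _ _ (hxall h)) (hsymm _ _ (haall b hb h)))

end Groups

variable {G : Type u} [Group G] [Finite G] (S : Setup G)

include S in
/-- A nonabelian Sylow 2-subgroup of order 16 has rank two. -/
theorem Setup.sixteen_rank (hna : ∀ T : Sylow 2 G, ¬ IsMulCommutative (T : Subgroup G))
    (h16 : (Nat.card G).factorization 2 = 4) : PRankLE 2 2 G := by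
  intro A hAc hA
  by_contra hlt
  haveI : Fact (Nat.Prime 2) := ⟨Nat.prime_two⟩
  have hp : IsPGroup 2 A := fun a => ⟨1, Subtype.ext (by simpa using hA (a : G) a.2)⟩
  obtain ⟨Q, hQ⟩ := hp.exists_le_sylow
  have hQc : Nat.card (Q : Subgroup G) = 16 := by rw [Q.card_eq_multiplicity, h16]; rfl
  obtain ⟨j, hj, hAj⟩ := (Nat.dvd_prime_pow Nat.prime_two).1
    (show Nat.card A ∣ 2 ^ 4 by rw [show (2 : ℕ) ^ 4 = Nat.card (Q : Subgroup G) by rw [hQc]; rfl]; exact Subgroup.card_dvd_of_le hQ)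
  rw [hAj] at hlt
  have hj3 : 3 ≤ j := by
    by_contra h
    exact hlt (Nat.pow_le_pow_right two_pos (by omega))
  rcases (show j = 3 ∨ j = 4 by omega) with rfl | rfl
  swap
  · refine hna Q ?_
    rw [← Subgroup.eq_of_le_of_card_ge hQ (by rw [hQc, hAj]; rfl)]
    exact hAc
  have hAQ : Nat.card (A.subgroupOf (Q : Subgroup G)) = 8 := by
    rw [Nat.card_congr (Subgroup.subgroupOfEquivOfLe hQ).toEquiv, hAj]; rfl
  have hi : (A.subgroupOf (Q : Subgroup G)).index = 2 := by
    have := Subgroup.card_mul_index (A.subgroupOf (Q : Subgroup G))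
    rw [hAQ, hQc] at this
    omega
  obtain ⟨h4, c, hcA, hc⟩ := elementary_index_two _ (fun a ha => Subtype.ext (by simpa using hA (a : G) ha)) hi hAQ
  -- all central involutions are equal to the nontrivial commutator
  have hz : ∀ z : (Q : Subgroup G), z ∈ A.subgroupOf (Q : Subgroup G) ⊓ center (Q : Subgroup G) →
      z ≠ 1 → z = c := by
    intro z hz hz1
    obtain ⟨g₀, h₀, hne⟩ : ∃ g h : (Q : Subgroup G), g * h * g⁻¹ * h⁻¹ ≠ 1 := by
      by_contra hcon
      push Not at hcon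
      refine hna Q ⟨⟨fun g h => ?_⟩⟩
      exact mul_inv_eq_iff_eq_mul.1 (mul_inv_eq_one.1 (hcon g h))
    have hc0 : g₀ * h₀ * g₀⁻¹ * h₀⁻¹ = c := (hc g₀ h₀).resolve_left hne
    have hcc : ∀ k : (Q : Subgroup G), k * c = c * k := fun k => Subgroup.mem_center_iff.1 hcA.2 k
    have hzQ : (z : G) ∈ centralizer ((Q : Subgroup G) : Set G) := fun q hq =>
      congrArg Subtype.val (Subgroup.mem_center_iff.1 hz.2 ⟨q, hq⟩)
    have hcQ : (c : G) ∈ centralizer ((Q : Subgroup G) : Set G) := fun q hq =>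
      congrArg Subtype.val (hcc ⟨q, hq⟩)
    have hinv : ∀ w : (Q : Subgroup G), w ≠ 1 → w ^ 2 = 1 → orderOf (w : G) = 2 := fun w h1 h2 => by
      rw [Subgroup.orderOf_coe]; exact orderOf_eq_prime h2 h1
    have hz2 : z ^ 2 = 1 := Subtype.ext (by simpa using hA (z : G) hz.1)
    have hc1 : c ≠ 1 := hc0 ▸ hne
    have hc2 : c ^ 2 = 1 := Subtype.ext (by simpa using hA (c : G) hcA.1)
    obtain ⟨g, hg⟩ := isConj_iff.1 ((S.hconj _ (hinv c hc1 hc2)).symm.trans (S.hconj _ (hinv z hz1 hz2)))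
    obtain ⟨n, hn, hn'⟩ := Q.conj_eq_normalizer_conj_of_mem_centralizer (c : G) g⁻¹ hcQ
      (by rw [inv_inv, hg]; exact hzQ)
    rw [inv_inv, hg] at hn'
    have hmem : ∀ q : (Q : Subgroup G), n⁻¹ * (q : G) * n ∈ (Q : Subgroup G) := fun q => by
      have h := (Subgroup.mem_normalizer_iff.1 ((normalizer _).inv_mem hn) _).1 q.2
      rwa [inv_inv] at h
    have e : z = (⟨_, hmem g₀⟩ : (Q : Subgroup G)) * ⟨_, hmem h₀⟩ *
        (⟨_, hmem g₀⟩ : (Q : Subgroup G))⁻¹ * (⟨_, hmem h₀⟩ : (Q : Subgroup G))⁻¹ := by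
      refine Subtype.ext ?_
      rw [hn', ← hc0]
      simp only [Subgroup.coe_mul, Subgroup.coe_inv]
      group
    rcases hc ⟨_, hmem g₀⟩ ⟨_, hmem h₀⟩ with h | h
    · exact absurd (e.trans h) hz1
    · exact e.trans h
  classical
  haveI : Fintype ↥(A.subgroupOf (Q : Subgroup G) ⊓ center (Q : Subgroup G)) := Fintype.ofFinite _
  have h2 : Nat.card ↥(A.subgroupOf (Q : Subgroup G) ⊓ center (Q : Subgroup G)) ≤ 2 := by
    rw [Nat.card_eq_fintype_card, ← Finset.card_univ]
    refine le_trans (Finset.card_le_card_of_injOn (fun w => ((w : (Q : Subgroup G)))) (t := {1, c}) ?_ ?_)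
      Finset.card_le_two
    · intro w _
      simp only [Finset.coe_insert, Finset.coe_singleton, Set.mem_insert_iff, Set.mem_singleton_iff]
      exact (em _).imp_right (hz _ w.2)
    · exact Subtype.val_injective.injOn
  omega

theorem row49_9 [IsSimpleGroup G] (hd : S.d = 49) (hp : S.p = 5) (hr : S.r = 9) (_hv : S.a S.t = 1) :
    False := by
  have hδ : S.δ = -1 := by
    rcases S.hδ with h | h
    · have := S.hdp
      rw [h, hp, hd] at this
      norm_num at this
    · exact h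
  have hd0 : S.d0 = 48 := by
    have := S.hd0
    rw [hδ, hd] at this
    omega
  have hcard : Nat.card G = 952560 := by rw [S.card, hp, hr, hd, hd0]; norm_num
  have hfree : pslFree 952560 = true := by decide +kernel
  have hna : ∀ T : Sylow 2 G, ¬ IsMulCommutative (T : Subgroup G) := fun T hT =>
    no_abelian_sylow S.hna hfree hcard (by norm_num) (by norm_num) T hT
  haveI : Fact (Nat.Prime 2) := ⟨Nat.prime_two⟩
  have hfac : (Nat.card G).factorization 2 = 4 := by
    have h := two_part_eq (n := Nat.card G) (e := 4) (o := 59535) (by rw [hcard]; norm_num) (by decide)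
    exact Nat.pow_right_injective le_rfl h
  obtain ⟨P⟩ : Nonempty (Sylow 2 G) := inferInstance
  have hP : Nat.card (P : Subgroup G) = 16 := by rw [P.card_eq_multiplicity, hfac]; rfl
  haveI : Fintype (GaloisField 2 4) := Fintype.ofFinite _
  have hF : Fintype.card (GaloisField 2 4) = 16 := by
    rw [Fintype.card_eq_nat_card, GaloisField.card 2 4 (by norm_num)]
    norm_num
  obtain ⟨Q⟩ : Nonempty (Sylow 2 (Cfsg.PSU 3 (GaloisField 2 4) 4)) := inferInstance
  rcases Cfsg.Agent.S0516.result S.hna (S.sixteen_rank hna hfac) P hF Q with ⟨n, hn2, hdih⟩ | hqd |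
    ⟨n, hn2, hn, -⟩ | ⟨⟨φ⟩⟩
  · haveI : Group.IsPerfect G := ⟨(IsSimpleGroup.eq_bot_or_eq_top_of_normal _ inferInstance).resolve_left
      fun h => S.hna ⟨⟨fun a b => by
        have hab : a * b * a⁻¹ * b⁻¹ ∈ commutator G :=
          Subgroup.commutator_mem_commutator (mem_top a) (mem_top b)
        rw [h, Subgroup.mem_bot, mul_inv_eq_one, mul_inv_eq_iff_eq_mul] at hab
        exact hab⟩⟩⟩
    have hodd := Invol.AbgConsumers.oddCore_eq_bot_of_simple (G := G) (by rw [hcard]; decide)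
    let q0 : G ⧸ Cfsg.oddCore G ≃* G :=
      (QuotientGroup.quotientMulEquivOfEq hodd).trans (QuotientGroup.quotientBot (G := G))
    rcases Cfsg.Agent.S0483.result P n hn2 hdih with ⟨F, iF, iFF, -, -, ⟨e⟩⟩ | he
    · exact not_psl hfree hcard ⟨q0.symm.trans e⟩
    · obtain ⟨e⟩ := he
      have h := Nat.card_congr (q0.symm.trans e).toEquiv
      rw [hcard, nat_card_alternatingGroup, Nat.card_fin] at h
      norm_num [Nat.factorial] at h
  · rcases Cfsg.Agent.S0507.result P hqd with ⟨F, iF, iFF, hq, ⟨e⟩⟩ | ⟨F, iF, iFF, q, hFq, hq, ⟨e⟩⟩ | ⟨-, h⟩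
    · classical
      have h1 := Classical.natCard_GL_eq_SL_mul (F := F) 3 (by norm_num)
      have h2 := Classical.natCard_PSL_mul (F := F) 3 (by norm_num)
      rw [Matrix.card_GL_field, Fin.prod_univ_three, Classical.natCard_units_field] at h1
      rw [Classical.natCard_units_field, ← Nat.card_congr e.toEquiv, hcard] at h2
      have hg : Nat.gcd 3 (Fintype.card F - 1) ≤ 3 := Nat.le_of_dvd (by norm_num) (Nat.gcd_dvd_left _ _)
      generalize Nat.card (Matrix.SpecialLinearGroup (Fin 3) F) = s at h1 h2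
      generalize Nat.gcd 3 (Fintype.card F - 1) = g at h2 hg
      generalize Fintype.card F = w at h1 hq
      norm_num at h1
      rcases Nat.lt_or_ge w 7 with hw | hw
      · obtain rfl : w = 3 := by omega
        norm_num at h1
        omega
      · have hw2 : 49 ≤ w ^ 2 := Nat.pow_le_pow_left hw 2
        have hw3 : w ^ 3 = w * w ^ 2 := by ring
        have a1 : 342 ≤ w ^ 3 - 1 := by
          have : 343 ≤ w ^ 3 := Nat.pow_le_pow_left hw 3
          omega
        have a2 : 336 ≤ w ^ 3 - w := by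
          have : 7 * 49 ≤ w ^ 3 := Nat.pow_le_pow_left hw 3
          have : 49 * w ≤ w ^ 3 := by rw [hw3, mul_comm 49 w]; exact Nat.mul_le_mul_left w hw2
          omega
        have a3 : 49 * (w - 1) ≤ w ^ 3 - w ^ 2 := by
          rw [hw3, show w * w ^ 2 - w ^ 2 = (w - 1) * w ^ 2 by rw [Nat.sub_mul, one_mul], mul_comm 49]
          exact Nat.mul_le_mul_left _ hw2
        have b1 : 342 * 336 * (49 * (w - 1)) ≤ (w ^ 3 - 1) * (w ^ 3 - w) * (w ^ 3 - w ^ 2) :=
          Nat.mul_le_mul (Nat.mul_le_mul a1 a2) a3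
        rw [h1] at b1
        have b2 : s ≤ 3 * 952560 := by rw [← h2]; exact Nat.mul_le_mul_right _ hg
        have b3 : (w - 1) * (342 * 336 * 49) ≤ (w - 1) * (3 * 952560) := by
          calc (w - 1) * (342 * 336 * 49) = 342 * 336 * (49 * (w - 1)) := by ring
            _ ≤ _ := b1
            _ ≤ (w - 1) * (3 * 952560) := Nat.mul_le_mul_left _ b2
        exact absurd (Nat.le_of_mul_le_mul_left b3 (by omega)) (by norm_num)
    · classical
      have hc := Cfsg.Agent.S0280.result hFq 3 (by norm_num)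
      rw [← Nat.card_congr e.toEquiv, hcard, Finset.prod_range_succ, Finset.prod_range_succ,
        Finset.prod_range_succ, Finset.prod_range_zero] at hc
      simp only [one_mul, Nat.even_iff, Nat.zero_mod, Nat.reduceMod, if_true, if_false, one_ne_zero,
        show (3 * (3 - 1) / 2 : ℕ) = 3 from rfl, zero_add, pow_one] at hc
      have hq1 : q ≠ 1 := fun h => by
        have := Fintype.one_lt_card (α := F)
        rw [hFq, h] at this
        norm_num at this
      have hg : Nat.gcd 3 (q + 1) ≤ 3 := Nat.le_of_dvd (by norm_num) (Nat.gcd_dvd_left _ _)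
      rcases Nat.lt_or_ge q 9 with hq9 | hq9
      · obtain rfl : q = 5 := by omega
        norm_num at hc
      · have h1 : 80 ≤ q ^ 2 - 1 := by
          have : 81 ≤ q ^ 2 := Nat.pow_le_pow_left hq9 2
          omega
        have h2 : 730 ≤ q ^ 3 + 1 := Nat.succ_le_succ (Nat.pow_le_pow_left hq9 3)
        have h3 : 729 ≤ q ^ 3 := Nat.pow_le_pow_left hq9 3
        have b1 : Nat.gcd 3 (q + 1) * ((q + 1) * 952560) ≤ 3 * ((q + 1) * 952560) := Nat.mul_le_mul_right _ hg
        have b2 : 729 * ((q + 1) * 80 * 730) ≤ q ^ 3 * ((q + 1) * (q ^ 2 - 1) * (q ^ 3 + 1)) :=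
          Nat.mul_le_mul h3 (Nat.mul_le_mul (Nat.mul_le_mul_left _ h1) h2)
        have b3 : (q + 1) * (729 * 80 * 730) ≤ (q + 1) * (3 * 952560) := by
          calc (q + 1) * (729 * 80 * 730) = 729 * ((q + 1) * 80 * 730) := by ring
            _ ≤ _ := b2
            _ = _ := hc.symm
            _ ≤ _ := b1
            _ = _ := by ring
        exact absurd (Nat.le_of_mul_le_mul_left b3 (by omega)) (by norm_num)
    · rw [hcard] at h
      norm_num at h
  · have := Nat.pow_le_pow_right (show 0 < 2 by norm_num) (show 5 ≤ 2 * n + 1 by omega)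
    omega
  · have h2 := Nat.card_congr φ.toEquiv
    rw [hP, (Cfsg.Agent.S1248.result hF Q).1] at h2
    omega

end Cfsg.Agent.Block.OnePrime
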