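import Cfsg.Agent.Lib.Block.OnePrime.RankTwoRows
import Cfsg.Agent.S0506
import Cfsg.Agent.Lib.Classical.DicksonTorus

/-!
Rows killed by the shape of the Sylow 2-subgroup: `(d, p, r) = (24, 23, 252)`, `(27, 13, 40)`, `(27, 13, 25)`.
-/

namespace Cfsg.Agent.Block.OnePrime

open Cfsg Cfsg.Agent.Char Subgroup

set_option linter.style.haveILetI false

universe u

variable {G : Type u} [Group G] [Finite G] (S : Setup G)

/-- Two subgroups fixing no less than a common subgroup generate one fixing no less. -/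
theorem Setup.fix_sup {H A B : Subgroup G} (hA : H ≤ A) (hB : H ≤ B) (hfA : S.fix A = S.fix H)
    (hfB : S.fix B = S.fix H) : S.fix H ≤ S.fix (A ⊔ B) := by
  have hle : ∀ {K L : Subgroup G}, K ≤ L → Representation.invariants (S.rep.comp L.subtype) ≤
      Representation.invariants (S.rep.comp K.subtype) := fun hKL v hv k => hv ⟨k, hKL k.2⟩
  have eA := Submodule.eq_of_le_of_finrank_eq (hle hA) hfA
  have eB := Submodule.eq_of_le_of_finrank_eq (hle hB) hfB
  refine Submodule.finrank_mono fun v hv k => ?_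
  let Stab : Subgroup G :=
    { carrier := {g | S.rep g v = v}
      one_mem' := by simp
      mul_mem' := fun {g h} (hg : S.rep g v = v) (hh : S.rep h v = v) => by
        simp only [Set.mem_setOf_eq, map_mul, Module.End.mul_apply, hh, hg]
      inv_mem' := fun {g} (hg : S.rep g v = v) => by
        have h := congrArg (S.rep g⁻¹) hg
        rw [← Module.End.mul_apply, ← map_mul, inv_mul_cancel, map_one] at h
        exact h.symm }
  have hAs : A ≤ Stab := fun g hg => (eA ▸ hv : v ∈ Representation.invariants (S.rep.comp A.subtype)) ⟨g, hg⟩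
  have hBs : B ≤ Stab := fun g hg => (eB ▸ hv : v ∈ Representation.invariants (S.rep.comp B.subtype)) ⟨g, hg⟩
  exact sup_le hAs hBs k.2

theorem row24_252 [IsSimpleGroup G] (hd : S.d = 24) (hp : S.p = 23) (hr : S.r = 252) (hv : S.a S.t = -8) :
    False := by
  have hδ : S.δ = 1 := by
    rcases S.hδ with h | h
    · exact h
    · have := S.hdp
      rw [h, hp, hd] at this
      norm_num at this
  have hd0 : S.d0 = 25 := by
    have := S.hd0
    rw [hδ, hd] at this
    omega
  obtain ⟨o, ho, hcard⟩ : ∃ o, Odd o ∧ Nat.card G = 2 ^ (6 + 1) * o := by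
    refine ⟨Nat.card G / 128, ?_, ?_⟩ <;> rw [S.card, hp, hr, hd, hd0] <;> norm_num [Nat.odd_iff]
  rcases S.shapes (by rw [hd, hv]; norm_num) hcard ho (by norm_num) with
    h | ⟨n, -, hn, x, y, hx, hy, hxy, hxy0⟩
  · rw [hd, hv] at h
    norm_num at h
  obtain rfl : n = 3 := by omega
  obtain ⟨Q, hQ, hQm⟩ := exists_pair hxy hxy0
  rw [hx, hy] at hQ
  have hcomm : ∀ g ∈ Q, ∀ w ∈ Q, Commute g w := by
    intro g hg w hw
    obtain ⟨i, j, rfl⟩ := (hQm g).1 hg
    obtain ⟨i', j', rfl⟩ := (hQm w).1 hw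
    exact (((Commute.refl x).pow_pow i i').mul_right (hxy.pow_pow i j')).mul_left
      ((hxy.symm.pow_pow j i').mul_right ((Commute.refl y).pow_pow j j'))
  have hC : Nat.card (centralizer ({S.t} : Set G)) = 8064 := by
    rw [S.cen_t_nat, hd, hr, hv]; rfl
  have hval : ∀ {w : G}, w ∈ Q → ∀ {m : ℕ}, orderOf w = 2 ^ (m + 1) → S.a w = -8 ∨ S.a w = 8 := by
    intro w hwQ m hw
    have hne : w ≠ 1 := by
      intro e
      rw [e, orderOf_one] at hw
      exact (Nat.one_lt_two_pow m.succ_ne_zero).ne hw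
    obtain ⟨h1, -, h3⟩ := S.bound (Setup.orderOf_pow_half hw) ((Commute.refl w).pow_right _) hne
      (show 8064 ≠ 0 by norm_num) (hC ▸ S.cen_dvd_t hw)
    have h4 : Nat.card Q ∣ Nat.card (centralizer ({w} : Set G)) :=
      Subgroup.card_dvd_of_le fun q hq => mem_centralizer_singleton_iff.2 (hcomm q hq w hwQ)
    rw [hQ] at h4
    have h5 := (Int.natCast_dvd_natCast.2 h4).trans h3
    have hlt := S.lt w hne
    have hgt := S.neg_lt w
    rw [hd] at h5 hlt hgt
    rw [hr] at h5
    push_cast at h5 hlt hgt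
    omega
  have h8 : ∀ h ∈ Q, orderOf h = 8 → S.fix (zpowers (h ^ 2)) = 8 ∧ S.fix (zpowers (h ^ 4)) = 8 := by
    intro h hh ho8
    have ho4 : orderOf (h ^ 2) = 2 ^ (1 + 1) := by
      rw [orderOf_pow' _ two_ne_zero, ho8]; norm_num
    have ho2 : orderOf (h ^ 4) = 2 := by rw [orderOf_pow' _ (by norm_num), ho8]; norm_num
    have e0 := S.fix_involution ho2
    have e1 := S.fix_cyclic ho4
    rw [← pow_mul, show 2 * 2 = 4 by rfl] at e1
    have e2 := S.fix_cyclic (m := 2) (w := h) (by rw [ho8]; norm_num)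
    have e3 : (S.fix (zpowers h) : ℤ) ≤ S.fix (zpowers (h ^ 2)) := by
      exact_mod_cast S.fix_antitone (zpowers_le.2 (pow_mem (mem_zpowers h) 2))
    rw [hd, hv] at e0
    push_cast at e0
    rcases hval (pow_mem hh 2) ho4 with h' | h' <;>
      rcases hval hh (m := 2) (by rw [ho8]; norm_num) with h'' | h'' <;>
      rw [h'] at e1 <;> rw [h''] at e2 <;> omega
  classical
  have hx8 : x ^ 8 = 1 := orderOf_dvd_iff_pow_eq_one.1 (by rw [hx]; norm_num)
  have hy8 : y ^ 8 = 1 := orderOf_dvd_iff_pow_eq_one.1 (by rw [hy]; norm_num)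
  have hxy2 : orderOf (x * y ^ 2) = 2 ^ (2 + 1) := by
    refine orderOf_eq_prime_pow ?_ ?_
    · intro e
      rw [(hxy.pow_right 2).mul_pow, ← pow_mul, show 2 * 2 ^ 2 = 8 by rfl, hy8, mul_one] at e
      have := orderOf_dvd_of_pow_eq_one e
      rw [hx] at this
      norm_num at this
    · rw [(hxy.pow_right 2).mul_pow, ← pow_mul, show 2 * 2 ^ (2 + 1) = 8 * 2 by rfl, pow_mul, hy8,
        show 2 ^ (2 + 1) = 8 by rfl, hx8, one_pow, one_mul]
  obtain ⟨hfx, hfu⟩ := h8 x ((hQm x).2 ⟨1, 0, by simp⟩) (by rw [hx]; norm_num)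
  obtain ⟨hfz, -⟩ := h8 (x * y ^ 2) ((hQm _).2 ⟨1, 2, by simp⟩) (by rw [hxy2]; norm_num)
  have hsq : ((x * y ^ 2) ^ 2) ^ 2 = x ^ 4 := by
    rw [← pow_mul, (hxy.pow_right 2).mul_pow, ← pow_mul y, hy8, mul_one]
  have hsup := S.fix_sup (H := zpowers (x ^ 4)) (A := zpowers (x ^ 2)) (B := zpowers ((x * y ^ 2) ^ 2))
    (zpowers_le.2 (by rw [show x ^ 4 = (x ^ 2) ^ 2 by rw [← pow_mul]]; exact pow_mem (mem_zpowers _) 2))
    (zpowers_le.2 (by rw [← hsq]; exact pow_mem (mem_zpowers _) 2))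
    (hfx.trans hfu.symm) (hfz.trans hfu.symm)
  have h40 : zpowers (x ^ 4) ⊓ zpowers (y ^ 4) = ⊥ :=
    le_bot_iff.1 (hxy0 ▸ inf_le_inf (zpowers_le.2 (pow_mem (mem_zpowers x) 4))
      (zpowers_le.2 (pow_mem (mem_zpowers y) 4)))
  obtain ⟨E, hEc, hEm⟩ := exists_pair (hxy.pow_pow 4 4) h40
  rw [orderOf_pow' _ (by norm_num), orderOf_pow' _ (by norm_num), hx, hy] at hEc
  norm_num at hEc
  have hEel : ∀ g ∈ E, g ^ 2 = 1 := by
    intro g hg
    obtain ⟨i, j, rfl⟩ := (hEm g).1 hg
    rw [((hxy.pow_pow 4 4).pow_pow i j).mul_pow, ← pow_mul, ← pow_mul, ← pow_mul, ← pow_mul,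
      show 4 * (i * 2) = 8 * i by ring, show 4 * (j * 2) = 8 * j by ring, pow_mul, pow_mul, hx8, hy8,
      one_pow, one_pow, one_mul]
  haveI : Fintype E := Fintype.ofFinite E
  have hfE := S.sum_elem E hEel
  rw [S.sum_eq_card_mul_fix E, hEc, hd, hv] at hfE
  have hle : E ≤ zpowers (x ^ 2) ⊔ zpowers ((x * y ^ 2) ^ 2) := by
    intro g hg
    obtain ⟨i, j, rfl⟩ := (hEm g).1 hg
    refine mul_mem (pow_mem ?_ i) (pow_mem ?_ j)
    · rw [show x ^ 4 = (x ^ 2) ^ 2 by rw [← pow_mul]]
      exact pow_mem (le_sup_left (b := zpowers ((x * y ^ 2) ^ 2)) (mem_zpowers _)) 2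
    · rw [show y ^ 4 = (x ^ 2)⁻¹ * (x * y ^ 2) ^ 2 by
        rw [(hxy.pow_right 2).mul_pow, ← pow_mul, inv_mul_cancel_left]]
      exact mul_mem (inv_mem (le_sup_left (b := zpowers ((x * y ^ 2) ^ 2)) (mem_zpowers _)))
        (le_sup_right (a := zpowers (x ^ 2)) (mem_zpowers _))
  have h1 := hsup.trans (S.fix_antitone hle)
  rw [hfu] at h1
  push_cast at hfE
  omega

theorem row27_40 [IsSimpleGroup G] (hd : S.d = 27) (hp : S.p = 13) (hr : S.r = 40) (hv : S.a S.t = -5) :
    False := by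
  have hδ : S.δ = 1 := by
    rcases S.hδ with h | h
    · exact h
    · have := S.hdp
      rw [h, hp, hd] at this
      norm_num at this
  have hd0 : S.d0 = 28 := by
    have := S.hd0
    rw [hδ, hd] at this
    omega
  obtain ⟨o, ho, hcard⟩ : ∃ o, Odd o ∧ Nat.card G = 2 ^ (7 + 1) * o := by
    refine ⟨Nat.card G / 256, ?_, ?_⟩ <;> rw [S.card, hp, hr, hd, hd0] <;> norm_num [Nat.odd_iff]
  rcases S.shapes (by rw [hd, hv]; norm_num) hcard ho (by norm_num) with h | ⟨n, -, hn, -⟩
  · rw [hd, hv] at h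
    norm_num at h
  · omega

/-- The order `6142500` has Sylow 2-subgroups of order four and is no order of the groups allowed. -/
theorem row27_25 [IsSimpleGroup G] (hd : S.d = 27) (hp : S.p = 13) (hr : S.r = 25) : False := by
  have hδ : S.δ = 1 := by
    rcases S.hδ with h | h
    · exact h
    · have := S.hdp
      rw [h, hp, hd] at this
      norm_num at this
  have hd0 : S.d0 = 28 := by
    have := S.hd0
    rw [hδ, hd] at this
    omega
  have hcard : Nat.card G = 2 ^ 2 * 1535625 := by rw [S.card, hp, hr, hd, hd0]; norm_num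
  haveI : Fact (Nat.Prime 2) := ⟨Nat.prime_two⟩
  obtain ⟨P⟩ : Nonempty (Sylow 2 G) := inferInstance
  have hP : Nat.card (P : Subgroup G) = 2 ^ 2 := by
    rw [P.card_eq_multiplicity, two_part_eq hcard (by decide)]
  have key : ∀ (F : Type) [Field F] [Fintype F],
      G ≃* Matrix.ProjectiveSpecialLinearGroup (Fin 2) F → False := by
    intro F _ _ e
    have h := Dickson.card_psl (F := F)
    rw [← Nat.card_congr e.toEquiv, hcard] at h
    rcases Dickson.del_cases F with ⟨hd', he⟩ | ⟨hd', ho⟩ <;> rw [hd'] at h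
    · generalize Fintype.card F = q at h he
      have h1 : q ≤ 200 := by
        by_contra hlt
        have := Nat.mul_le_mul (show 201 ≤ q by omega) (Nat.mul_le_mul (show 200 ≤ q - 1 by omega)
          (show 202 ≤ q + 1 by omega))
        omega
      have h2 : 182 ≤ q := by
        by_contra hlt
        have := Nat.mul_le_mul (show q ≤ 181 by omega) (Nat.mul_le_mul (show q - 1 ≤ 180 by omega)
          (show q + 1 ≤ 182 by omega))
        omega
      interval_cases q <;> first | norm_num at h | norm_num at he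
    · generalize Fintype.card F = q at h ho
      have h1 : q ≤ 231 := by
        by_contra hlt
        have := Nat.mul_le_mul (show 232 ≤ q by omega) (Nat.mul_le_mul (show 231 ≤ q - 1 by omega)
          (show 233 ≤ q + 1 by omega))
        omega
      have h2 : 230 ≤ q := by
        by_contra hlt
        have := Nat.mul_le_mul (show q ≤ 229 by omega) (Nat.mul_le_mul (show q - 1 ≤ 228 by omega)
          (show q + 1 ≤ 230 by omega))
        omega
      interval_cases q <;> first | norm_num at h | norm_num at ho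
  rcases Cfsg.Agent.S0506.result S.hna P (IsPGroup.isMulCommutative_of_card_eq_prime_sq hP) with
    ⟨a, -, F, i, j, -, ⟨e⟩⟩ | ⟨F, i, j, -, ⟨e⟩⟩ | ⟨-, m, -, hm⟩ | ⟨-, h⟩
  · exact key F e
  · exact key F e
  · have h8 : 3 ^ (2 * m + 1) % 8 = 3 := by
      rw [pow_succ, pow_mul, Nat.mul_mod, Nat.pow_mod]
      norm_num
    generalize 3 ^ (2 * m + 1) = q at hm h8
    rw [hcard] at hm
    have h0 : q ^ 3 * (q ^ 3 + 1) * (q - 1) % 8 = 4 := by rw [← hm]; norm_num
    have e1 : q ^ 3 % 8 = 3 := by rw [Nat.pow_mod, h8]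
    have e2 : (q ^ 3 + 1) % 8 = 4 := by omega
    have e3 : (q - 1) % 8 = 2 := by omega
    rw [Nat.mul_mod, Nat.mul_mod (q ^ 3), e1, e2, e3] at h0
    norm_num at h0
  · rw [hcard] at h
    norm_num at h

end Cfsg.Agent.Block.OnePrime
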