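import Mathlib
import Cfsg.Agent.Lib.Char.Basic
import Cfsg.Agent.Lib.Char.Galois

/-!
Simple groups with a self-centralizing Sylow subgroup of order `p` whose normalizer has order `2 p`:
the numerical consequences of the principal `p`-block, packed as one structure.
-/

namespace Cfsg.Agent.Block.OnePrime

open Cfsg Cfsg.Agent.Char

universe u

/-- The data of the principal block: `a` is the nonexceptional nontrivial character `χ`, of degree
`d` with sign `δ`, the exceptional characters have degree `d0`, `t` is an involution. -/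
structure Setup (G : Type u) [Group G] [Finite G] where
  p : ℕ
  d : ℕ
  d0 : ℕ
  r : ℕ
  δ : ℤ
  t : G
  χ : IrrCharacter G
  a : G → ℤ
  hp : p.Prime
  hp5 : 5 ≤ p
  hna : ¬ IsMulCommutative G
  ha : ∀ g, (χ : G → ℂ) g = (a g : ℂ)
  hd : a 1 = (d : ℤ)
  hd2 : 2 ≤ d
  hδ : δ = 1 ∨ δ = -1
  hd0 : (d0 : ℤ) = d + δ
  hdp : (p : ℤ) ∣ (d : ℤ) - δ
  card : Nat.card G = p * r ^ 2 * d * d0
  hr : r ^ 2 % p = 1
  ht : orderOf t = 2
  hconj : ∀ x : G, orderOf x = 2 → IsConj t x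
  four : (4 : ℤ) ∣ (d : ℤ) - a t
  cen_t : (Nat.card (Subgroup.centralizer ({t} : Set G)) : ℤ) = r * ((d : ℤ) - a t)
  /-- centralisers of nontrivial `p`-regular elements -/
  cen_coprime : ∀ x : G, x ≠ 1 → ¬ p ∣ orderOf x → ¬ p ∣ Nat.card (Subgroup.centralizer ({x} : Set G))
  cen_dvd : ∀ x : G, x ≠ 1 → ¬ p ∣ orderOf x →
    (Nat.card (Subgroup.centralizer ({x} : Set G)) : ℤ) ∣ r * ((d : ℤ) - a x)
  norm_le : ∀ x : G, ¬ p ∣ orderOf x →
    1 + a x ^ 2 + (((p - 1) / 2 : ℕ) : ℤ) * (1 + δ * a x) ^ 2 ≤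
      Nat.card (Subgroup.centralizer ({x} : Set G))
  lt : ∀ x : G, x ≠ 1 → a x < d
  neg_lt : ∀ x : G, -(d : ℤ) < a x
  /-- a prime not dividing `r` -/
  const_d : ∀ q : ℕ, q.Prime → ¬ q ∣ r → q ∣ d → ∀ x : G, ¬ p ∣ orderOf x → q ∣ orderOf x → a x = 0
  const_d0 : ∀ q : ℕ, q.Prime → ¬ q ∣ r → q ∣ d0 → ∀ x : G, ¬ p ∣ orderOf x → q ∣ orderOf x →
    a x = -δ

end Cfsg.Agent.Block.OnePrime
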