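import Cfsg.Agent.Lib.Block.OnePrime.Local
import Cfsg.Agent.Lib.Block.OnePrime.SylowPrime

/-!
The rows with `d = 64` and `7 ∣ r`: the centralizer of an element of order seven in the centralizer of an
involution.
-/

namespace Cfsg.Agent.Block.OnePrime

open Cfsg Cfsg.Agent.Char Subgroup

set_option linter.style.haveILetI false

universe u

variable {G : Type u} [Group G] [Finite G] (S : Setup G)

/-- Fixed spaces of two subgroups inside the fixed space of a common subgroup. -/
theorem Setup.fix_add_le {K E E' : Subgroup G} (h : K ≤ E) (h' : K ≤ E') :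
    S.fix E + S.fix E' ≤ S.fix K + S.fix (E ⊔ E') := by
  unfold Setup.fix
  set IE := Representation.invariants (S.rep.comp E.subtype)
  set IE' := Representation.invariants (S.rep.comp E'.subtype)
  rw [← Submodule.finrank_sup_add_finrank_inf_eq IE IE']
  refine Nat.add_le_add (Submodule.finrank_mono (sup_le (fun v hv k => hv ⟨k, h k.2⟩)
    fun v hv k => hv ⟨k, h' k.2⟩)) (Submodule.finrank_mono fun v hv g => ?_)
  rw [Submodule.mem_inf] at hv
  obtain ⟨g, hg⟩ := g
  show S.rep g v = v
  rw [Subgroup.sup_eq_closure] at hg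
  induction hg using Subgroup.closure_induction with
  | mem x hx => rcases hx with hx | hx; exacts [hv.1 ⟨x, hx⟩, hv.2 ⟨x, hx⟩]
  | one => simp
  | mul x y _ _ hx hy => rw [map_mul, Module.End.mul_apply, hy, hx]
  | inv x _ hx =>
    conv_lhs => rw [← hx]
    rw [← Module.End.mul_apply, ← map_mul, inv_mul_cancel, map_one, Module.End.one_apply]

omit [Finite G] in
theorem sum_off_one (A : Subgroup G) [Fintype A] (f : G → ℤ) {v : ℤ}
    (h : ∀ x ∈ A, x ≠ 1 → f x = v) : ∑ x : A, f x = f 1 + ((Nat.card A : ℤ) - 1) * v := by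
  classical
  rw [← Finset.add_sum_erase _ _ (Finset.mem_univ (1 : A)),
    Finset.sum_congr rfl (g := fun _ => v) fun (x : A) hx =>
      h x x.2 fun e => (Finset.mem_erase.1 hx).1 (Subtype.ext e),
    Finset.sum_const, Subgroup.coe_one, Finset.card_erase_of_mem (Finset.mem_univ _), Finset.card_univ,
    ← Nat.card_eq_fintype_card, nsmul_eq_mul, Nat.cast_sub Nat.card_pos, Nat.cast_one]

/-- The order and the fixed space of a central product of two subgroups. -/
theorem Setup.sum_sup (A B : Subgroup G) [Fintype A] [Fintype B] (hc : ∀ a ∈ A, ∀ b ∈ B, Commute a b)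
    (hd : Disjoint A B) :
    Nat.card ↥(A ⊔ B) = Nat.card A * Nat.card B ∧
    ∑ a : A, ∑ b : B, S.a ((a : G) * b) = (Nat.card A : ℤ) * Nat.card B * S.fix (A ⊔ B) := by
  classical
  have hcomm : ∀ (a : A) (b : B), Commute (A.subtype a) (B.subtype b) := fun a b => hc a a.2 b b.2
  set φ : A × B →* G := A.subtype.noncommCoprod B.subtype hcomm with hφ
  have hinj : Function.Injective φ := by
    rw [hφ, MonoidHom.noncommCoprod_injective]
    exact ⟨A.subtype_injective, B.subtype_injective, by simpa using hd⟩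
  have hr : φ.range = A ⊔ B := by
    rw [hφ, MonoidHom.noncommCoprod_range, Subgroup.range_subtype, Subgroup.range_subtype]
  haveI : Fintype φ.range := Fintype.ofFinite _
  have hcard : Nat.card φ.range = Nat.card A * Nat.card B := by
    rw [← Nat.card_congr (MonoidHom.ofInjective hinj).toEquiv, Nat.card_prod]
  refine ⟨hr ▸ hcard, ?_⟩
  have h := S.sum_eq_card_mul_fix φ.range
  rw [hcard, ← Fintype.sum_equiv (MonoidHom.ofInjective hinj).toEquiv
    (fun x : A × B => S.a ((x.1 : G) * x.2)) _ (fun x => rfl), Fintype.sum_prod_type] at h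
  rw [← hr, h]
  push_cast
  ring

theorem Setup.not_p_dvd {g : G} {n : ℕ} (h : orderOf g ∣ n) (hn : ¬ S.p ∣ n) : ¬ S.p ∣ orderOf g :=
  fun hp => hn (hp.trans h)

theorem fin_seven : ∀ i < 7, ∀ j < 7, j ≠ 0 → ∃ i' < 7, i' * j % 7 = i := by decide

theorem index_seven : ∀ k ∈ [1, 5], ∀ i ∈ (1344 * k).divisors, i % 7 = 1 → ∀ e ∈ Nat.divisors 6,
    i * e ∣ 1344 * k → 14 ∣ 1344 * k / (i * e) → 4 ∣ 1344 * k / (i * e) := by decide +kernel

theorem fifteen : ∀ h ∈ Nat.divisors 120, ¬ 8 ∣ h → ∀ n ∈ Nat.divisors h, n % 7 = 1 → n ≠ 1 → n = 15 := by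
  decide +kernel

theorem Setup.seven_false {k : ℕ} (hd : S.d = 64) (hp : S.p = 5 ∨ S.p = 13) (hk : k = 1 ∨ k = 5)
    (hr : S.r = 21 * k) (hv : S.a S.t = 0) (M : ℕ) (hM : Nat.card G = 7 ^ 3 * M) (hM7 : ¬ 7 ∣ M) :
    False := by
  classical
  haveI : Fact (Nat.Prime 7) := ⟨by norm_num⟩
  haveI : Fact (Nat.Prime 3) := ⟨by norm_num⟩
  haveI : Fact (Nat.Prime 2) := ⟨Nat.prime_two⟩
  have hδ : S.δ = -1 := by
    have := S.hdp
    rcases S.hδ with h | h
    · exfalso; rcases hp with h' | h' <;> rw [h, h', hd] at this <;> norm_num at this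
    · exact h
  have h7p : ¬ S.p ∣ 7 := by rcases hp with h | h <;> rw [h] <;> norm_num
  -- elements of even order
  have heven : ∀ g : G, ¬ S.p ∣ orderOf g → 2 ∣ orderOf g → S.a g = 0 := by
    refine S.const_d 2 Nat.prime_two ?_ (by rw [hd]; norm_num)
    rcases hk with rfl | rfl <;> rw [hr] <;> norm_num
  -- a commuting involution makes the value even
  have hparity : ∀ g u : G, orderOf u = 2 → orderOf g = 7 → Commute u g → (2 : ℤ) ∣ S.a g := by
    intro g u hu hg hc
    have ho : orderOf (u * g) = 14 := by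
      rw [hc.orderOf_mul_eq_mul_orderOf_of_coprime (by rw [hu, hg]; norm_num), hu, hg]
    have h := S.a_invol_mul hu hc
    rw [heven (u * g) (S.not_p_dvd (n := 14) ho.dvd (by rcases hp with h | h <;> rw [h] <;> norm_num))
      (by rw [ho]; norm_num)] at h
    exact Int.modEq_zero_iff_dvd.1 h.symm
  have hbasic : ∀ g : G, orderOf g = 7 → S.a g % 7 = 1 ∧ -10 ≤ S.a g ∧ S.a g < 64 ∧
      ((Nat.card (centralizer ({g} : Set G)) : ℕ) : ℤ) ∣ ((21 * k : ℕ) : ℤ) * (64 - S.a g) ∧
      1 + S.a g ^ 2 + (((S.p - 1) / 2 : ℕ) : ℤ) * (1 - S.a g) ^ 2 ≤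
        Nat.card (centralizer ({g} : Set G)) := by
    intro g hg
    have hg1 : g ≠ 1 := fun e => by simp [e] at hg
    have hreg := S.not_p_dvd (g := g) hg.dvd h7p
    have h1 := S.a_congr_d (x := g) (q := 7) (n := 1) (by norm_num) (by rw [pow_one, ← hg, pow_orderOf_eq_one])
    rw [hd] at h1
    have h2 := S.fix_prime (q := 7) (by norm_num) hg
    have h3 := S.lt g hg1
    have h4 := S.cen_dvd g hg1 hreg
    have h5 := S.norm_le g hreg
    rw [hd] at h3
    rw [hd, hr] at h4
    rw [hδ, show (1 : ℤ) + -1 * S.a g = 1 - S.a g by ring] at h5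
    rw [hd] at h2
    refine ⟨by simpa [Int.ModEq] using h1, ?_, by simpa using h3, by simpa using h4, h5⟩
    push_cast at h2
    omega
  -- a central element of a Sylow subgroup
  have hcentral : ∀ g : G, orderOf g = 7 → 343 ∣ Nat.card (centralizer ({g} : Set G)) → S.a g = 15 := by
    intro g hg h343
    obtain ⟨h1, h2, h3, h4, -⟩ := hbasic g hg
    have h5 := (Int.natCast_dvd_natCast.2 h343).trans h4
    rcases hk with rfl | rfl <;> push_cast at h5 <;> omega
  -- z in the centralizer of t
  have hCt : Nat.card (centralizer ({S.t} : Set G)) = 7 * (192 * k) := by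
    rw [S.cen_t_nat, hd, hr, hv, show ((64 : ℕ) : ℤ) - 0 = ((64 : ℕ) : ℤ) by simp, Int.toNat_natCast]
    ring
  obtain ⟨⟨z, hzt⟩, hz'⟩ := exists_prime_orderOf_dvd_card' (G := centralizer ({S.t} : Set G)) 7
    (hCt ▸ dvd_mul_right 7 _)
  have hzo : orderOf z = 7 := by rwa [Subgroup.orderOf_mk] at hz'
  have hzc : Commute z S.t := mem_centralizer_singleton_iff.1 hzt
  have h4 : 4 ∣ Nat.card (centralizer ({z} : Set G)) := by
    set L := centralizer ({S.t} : Set G)
    set C := centralizer ({(⟨z, hzt⟩ : L)} : Set L)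
    have hm7 : ¬ 7 ∣ 192 * k := by rcases hk with rfl | rfl <;> norm_num
    obtain ⟨e, he, hN⟩ := card_normalizer (q := 7) hz'
    have hi := index_normalizer hCt hm7 hz'
    have hmul := Subgroup.card_mul_index (normalizer ((zpowers (⟨z, hzt⟩ : L) : Subgroup L) : Set L))
    rw [hN, hCt] at hmul
    have hle : Nat.card C ∣ Nat.card (centralizer ({z} : Set G)) := by
      rw [← Subgroup.card_map_of_injective L.subtype_injective]
      refine Subgroup.card_dvd_of_le ?_
      rintro _ ⟨x, hx, rfl⟩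
      exact mem_centralizer_singleton_iff.2 (congrArg Subtype.val (mem_centralizer_singleton_iff.1 hx))
    have h14 : 14 ∣ Nat.card C := by
      have ht : orderOf (⟨S.t, mem_centralizer_singleton_iff.2 rfl⟩ * ⟨z, hzt⟩ : L) = 14 := by
        rw [← Subgroup.orderOf_coe, Subgroup.coe_mul,
          hzc.symm.orderOf_mul_eq_mul_orderOf_of_coprime (by rw [S.ht, hzo]; norm_num), S.ht, hzo]
      rw [← ht, ← Subgroup.orderOf_mk (H := C) _ (mem_centralizer_singleton_iff.2 (Subtype.ext ?_))]
      · exact orderOf_dvd_natCard _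
      · show S.t * z * z = z * (S.t * z)
        rw [← mul_assoc z, hzc.eq]
    refine dvd_trans ?_ hle
    set i := (normalizer ((zpowers (⟨z, hzt⟩ : L) : Subgroup L) : Set L)).index
    have hik : i * e ∣ 1344 * k := ⟨Nat.card C, by linarith⟩
    have hC : Nat.card C = 1344 * k / (i * e) := by
      have h0 : 0 < i * e := Nat.pos_of_ne_zero fun h0 => by
        rw [h0, zero_dvd_iff] at hik; rcases hk with rfl | rfl <;> simp at hik
      rw [show 1344 * k = i * e * Nat.card C by linarith, Nat.mul_div_cancel_left _ h0]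
    have hk0 : 1344 * k ≠ 0 := by rcases hk with rfl | rfl <;> norm_num
    rw [hC] at h14 ⊢
    exact index_seven k (by simp [hk]) i (Nat.mem_divisors.2 ⟨(dvd_mul_right i e).trans hik, hk0⟩) hi e
      (Nat.mem_divisors.2 ⟨he, by norm_num⟩) hik h14
  -- the Sylow subgroup
  have hzp : IsPGroup 7 (zpowers z) := IsPGroup.of_card (n := 1) (by rw [Nat.card_zpowers, hzo, pow_one])
  obtain ⟨P, hzP⟩ := hzp.exists_le_sylow
  have hP : Nat.card (P : Subgroup G) = 7 ^ 3 := by
    rw [P.card_eq_multiplicity, hM, Nat.factorization_mul (by norm_num) (fun h => hM7 (by rw [h]; exact dvd_zero 7)),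
      Finsupp.add_apply, Nat.factorization_eq_zero_of_not_dvd hM7, Nat.Prime.factorization_pow (by norm_num)]
    simp
  have hcenZ : ∀ g : (P : Subgroup G), g ∈ center (P : Subgroup G) → orderOf (g : G) = 7 →
      S.a (g : G) = 15 := by
    intro g hgZ hg
    refine hcentral _ hg ?_
    rw [show (343 : ℕ) = 7 ^ 3 by norm_num, ← hP]
    exact Subgroup.card_dvd_of_le fun x hx =>
      mem_centralizer_singleton_iff.2 (congrArg Subtype.val (mem_center_iff.1 hgZ ⟨x, hx⟩))
  have hzP' : z ∈ (P : Subgroup G) := hzP (mem_zpowers z)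
  obtain ⟨x, hx⟩ : ∃ x : (P : Subgroup G), x * ⟨z, hzP'⟩ ≠ ⟨z, hzP'⟩ * x := by
    by_contra hcon
    push Not at hcon
    have h15 := hcenZ ⟨z, hzP'⟩ (mem_center_iff.2 hcon) hzo
    have := hparity z S.t S.ht hzo hzc.symm
    rw [show S.a z = 15 from h15] at this
    norm_num at this
  set c : (P : Subgroup G) := x * ⟨z, hzP'⟩ * x⁻¹ * ⟨z, hzP'⟩⁻¹ with hc
  have hcZ : c ∈ center (P : Subgroup G) := by
    set Z := center (P : Subgroup G)
    have hcomm : ∀ a b : (P : Subgroup G) ⧸ Z, a * b = b * a := by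
      haveI : Nontrivial (P : Subgroup G) := (Subgroup.nontrivial_iff_ne_bot _).2 fun h => by
        rw [h, Subgroup.card_bot] at hP; norm_num at hP
      haveI := P.isPGroup'.center_nontrivial
      have h1 := Z.card_mul_index
      rw [Subgroup.index_eq_card, hP] at h1
      obtain ⟨i, hi3, hi⟩ := (Nat.dvd_prime_pow (by norm_num : Nat.Prime 7)).1
        (h1 ▸ dvd_mul_left _ _ : Nat.card ((P : Subgroup G) ⧸ Z) ∣ 7 ^ 3)
      have hi2 : i ≤ 2 := by
        by_contra hlt
        rw [hi, show i = 3 by omega] at h1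
        have := Finite.one_lt_card (α := Z)
        nlinarith
      interval_cases i
      · haveI := (Nat.card_eq_one_iff_unique.1 (hi.trans (pow_zero 7))).1
        exact fun a b => Subsingleton.elim _ _
      · haveI := isCyclic_of_prime_card (hi.trans (pow_one 7))
        letI := IsCyclic.commGroup (α := (P : Subgroup G) ⧸ Z)
        exact fun a b => mul_comm a b
      · exact fun a b => IsPGroup.commutative_of_card_eq_prime_sq hi a b
    rw [← QuotientGroup.eq_one_iff, hc]
    simp only [QuotientGroup.mk_mul, QuotientGroup.mk_inv]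
    rw [hcomm (x : _ ⧸ Z), mul_assoc _ (x : _ ⧸ Z), mul_inv_cancel, mul_one, mul_inv_cancel]
  obtain ⟨w, hw⟩ : ∃ w : G, w = (c : G) := ⟨_, rfl⟩
  have hconjw : (x : G) * z * (x : G)⁻¹ = w * z := by
    rw [hw, hc]; simp
  have hwx : Commute w (x : G) := hw ▸ (congrArg Subtype.val (mem_center_iff.1 hcZ x)).symm
  have hwz : Commute w z := hw ▸ (congrArg Subtype.val (mem_center_iff.1 hcZ ⟨z, hzP'⟩)).symm
  have hw1 : w ≠ 1 := by
    intro e
    rw [e, one_mul] at hconjw
    exact hx (Subtype.ext (by simpa using mul_inv_eq_iff_eq_mul.1 hconjw))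
  have hw7 : w ^ 7 = 1 := by
    have h := congrArg (· ^ 7) hconjw
    simp only [conj_pow, hwz.mul_pow, ← hzo, pow_orderOf_eq_one, mul_one, mul_inv_cancel] at h
    rw [hzo] at h
    exact h.symm
  have hwo : orderOf w = 7 := orderOf_eq_prime hw7 hw1
  have haw : ∀ b ∈ zpowers w, b ≠ 1 → S.a b = 15 := by
    intro b hb hb1
    rw [hw] at hb hwo
    obtain ⟨i, rfl⟩ := hb
    refine hcenZ (c ^ i) (zpow_mem hcZ i) ?_
    rw [Subgroup.coe_zpow]
    refine orderOf_eq_prime ?_ hb1
    rw [← hw] at hwo ⊢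
    rw [← zpow_natCast, ← zpow_mul, mul_comm, zpow_mul, zpow_natCast, orderOf_dvd_iff_pow_eq_one.1 hwo.dvd, one_zpow]
  -- the value at z
  have haz : S.a z = 8 ∧ Nat.card (centralizer ({z} : Set G)) ∣ 49 * (24 * k) := by
    obtain ⟨h1, h2, h3, hdv, hb⟩ := hbasic z hzo
    have h2' := hparity z S.t S.ht hzo hzc.symm
    have h4' := (Int.natCast_dvd_natCast.2 h4).trans hdv
    have h8 : S.a z = 8 ∨ S.a z = 36 := by rcases hk with rfl | rfl <;> push_cast at h4' <;> omega
    rcases h8 with h8 | h8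
    · refine ⟨h8, Int.natCast_dvd_natCast.1 ?_⟩
      rw [h8] at hdv
      refine hdv.trans (dvd_of_eq ?_)
      push_cast; ring
    · exfalso
      rw [h8] at hdv hb
      have := Int.le_of_dvd (by rcases hk with rfl | rfl <;> norm_num) hdv
      rcases hp with h | h <;> rw [h] at hb <;> rcases hk with rfl | rfl <;> push_cast at this hb <;>
        norm_num at hb <;> omega
  obtain ⟨haz, hCz⟩ := haz
  -- values on the mixed products
  have hconj : ∀ i : ℕ, (x : G) ^ i * z * ((x : G) ^ i)⁻¹ = w ^ i * z := by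
    intro i
    induction i with
    | zero => simp
    | succ i ih =>
      calc (x : G) ^ (i + 1) * z * ((x : G) ^ (i + 1))⁻¹
          = (x : G) * ((x : G) ^ i * z * ((x : G) ^ i)⁻¹) * (x : G)⁻¹ := by rw [pow_succ']; group
        _ = (x : G) * w ^ i * z * (x : G)⁻¹ := by rw [ih]; group
        _ = w ^ i * ((x : G) * z * (x : G)⁻¹) := by rw [← (hwx.pow_left i).eq]; group
        _ = w ^ (i + 1) * z := by rw [hconjw, ← mul_assoc, ← pow_succ]
  have hmix : ∀ a ∈ zpowers z, a ≠ 1 → ∀ b ∈ zpowers w, S.a (a * b) = 8 := by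
    intro a ha ha1 b hb
    rw [(isOfFinOrder_of_finite z).mem_zpowers_iff_mem_range_orderOf, hzo] at ha
    rw [(isOfFinOrder_of_finite w).mem_zpowers_iff_mem_range_orderOf, hwo] at hb
    simp only [Finset.mem_image, Finset.mem_range] at ha hb
    obtain ⟨j, hj, rfl⟩ := ha
    obtain ⟨i, hi, rfl⟩ := hb
    have hj0 : j ≠ 0 := fun e => ha1 (by rw [e, pow_zero])
    obtain ⟨i', -, hi'⟩ := fin_seven i hi j hj hj0
    have e : z ^ j * w ^ i = (w ^ i' * z) ^ j := by
      rw [(hwz.pow_left i').mul_pow, ← pow_mul, ← hi', ← hwo, pow_mod_orderOf,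
        (hwz.pow_pow (i' * j) j).eq]
    have ho : orderOf (w ^ i' * z) = 7 := by
      rw [← hconj, ← MulAut.conj_apply, MulEquiv.orderOf_eq, hzo]
    rw [e, S.a_pow_coprime_order _ (by
      rw [ho]; exact (Nat.coprime_of_lt_prime hj0 hj (by norm_num)).symm), ← hconj, S.a_conj, haz]
  -- the abelian subgroups of order 49
  have hE : ∀ g ∈ centralizer ({z} : Set G),
      Nat.card ↥(zpowers z ⊔ zpowers (g * w * g⁻¹)) = 49 ∧
      S.fix (zpowers z ⊔ zpowers (g * w * g⁻¹)) = 10 := by
    intro g hg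
    have hgz : g * z = z * g := mem_centralizer_singleton_iff.1 hg
    haveI : Fintype (zpowers z) := Fintype.ofFinite _
    haveI : Fintype (zpowers (g * w * g⁻¹)) := Fintype.ofFinite _
    have hback : ∀ b ∈ zpowers (g * w * g⁻¹), g⁻¹ * b * g ∈ zpowers w := by
      rintro _ ⟨i, rfl⟩
      refine ⟨i, ?_⟩
      simp only [conj_zpow]; group
    have hza : ∀ a ∈ zpowers z, g⁻¹ * a * g = a := by
      rintro _ ⟨i, rfl⟩
      rw [mul_assoc, ← ((show Commute g z from hgz).zpow_right i).eq]; group
    have hcom : ∀ a ∈ zpowers z, ∀ b ∈ zpowers (g * w * g⁻¹), Commute a b := by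
      rintro _ ⟨i, rfl⟩ _ ⟨j, rfl⟩
      refine Commute.zpow_zpow ?_ _ _
      exact (((show Commute g z from hgz).symm).mul_right hwz.symm).mul_right
        ((show Commute g z from hgz).symm.inv_right)
    have hdis : Disjoint (zpowers z) (zpowers (g * w * g⁻¹)) := by
      rw [Subgroup.disjoint_def]
      intro a ha ha'
      by_contra ha1
      have h1 := hmix a ha ha1 1 (one_mem _)
      rw [mul_one] at h1
      have h2 := haw a (by have := hback a ha'; rwa [hza a ha] at this) ha1
      omega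
    obtain ⟨h1, h2⟩ := S.sum_sup _ _ hcom hdis
    have hwg : orderOf (g * w * g⁻¹) = 7 := by rw [← MulAut.conj_apply, MulEquiv.orderOf_eq, hwo]
    have hin : ∀ a : zpowers z, ∑ b : zpowers (g * w * g⁻¹), S.a ((a : G) * b) =
        if a = 1 then 154 else 56 := by
      intro a
      split_ifs with h
      · rw [h, Subgroup.coe_one]
        simp only [one_mul]
        rw [sum_off_one _ S.a (v := 15) fun b hb hb1 => ?_, Nat.card_zpowers, hwg, S.hd, hd]
        · norm_num
        · have e := S.a_conj (g⁻¹ * b * g) g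
          rw [show g * (g⁻¹ * b * g) * g⁻¹ = b by group] at e
          rw [e]
          exact haw _ (hback b hb) fun e' => hb1 (by
            have := congrArg (fun y => g * y * g⁻¹) e'
            simpa [mul_assoc] using this)
      · have ha1 : (a : G) ≠ 1 := fun e => h (Subtype.ext e)
        rw [Finset.sum_congr rfl (g := fun _ => (8 : ℤ)) fun b _ => ?_, Finset.sum_const, Finset.card_univ,
          ← Nat.card_eq_fintype_card, Nat.card_zpowers, hwg]
        · norm_num
        · have e := S.a_conj ((a : G) * b) g⁻¹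
          rw [inv_inv, show g⁻¹ * ((a : G) * b) * g = (g⁻¹ * a * g) * (g⁻¹ * b * g) by group,
            hza a a.2] at e
          rw [← e]
          exact hmix a a.2 ha1 _ (hback b b.2)
    rw [Finset.sum_congr rfl fun a _ => hin a, ← Finset.add_sum_erase _ _ (Finset.mem_univ 1),
      if_pos rfl, Finset.sum_congr rfl (g := fun _ => (56 : ℤ))
        (fun a ha => if_neg (Finset.mem_erase.1 ha).1), Finset.sum_const,
      Finset.card_erase_of_mem (Finset.mem_univ _), Finset.card_univ, ← Nat.card_eq_fintype_card,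
      Nat.card_zpowers, Nat.card_zpowers, hzo, hwg] at h2
    rw [Nat.card_zpowers, Nat.card_zpowers, hzo, hwg] at h1
    refine ⟨h1, ?_⟩
    norm_num at h2
    omega
  set E := zpowers z ⊔ zpowers w with hEdef
  set Cz := centralizer ({z} : Set G) with hCzdef
  have hE1 : Nat.card E = 49 ∧ S.fix E = 10 := by simpa [hEdef] using hE 1 (one_mem _)
  have hEC : E ≤ Cz := sup_le (zpowers_le.2 (mem_centralizer_singleton_iff.2 rfl))
    (zpowers_le.2 (mem_centralizer_singleton_iff.2 hwz.eq))
  -- no group of order four normalizes E and centralizes z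
  have hfour : ∀ T : Subgroup G, T ≤ Cz → T ≤ normalizer (E : Set G) → ¬ 4 ∣ Nat.card T := by
    intro T hTC hTN hT
    have hTw : T ≤ normalizer ((zpowers w : Subgroup G) : Set G) := by
      intro g hg
      have hmemE : g * w * g⁻¹ ∈ E :=
        (Subgroup.mem_normalizer_iff.1 (hTN hg) w).1 (mem_sup_right (mem_zpowers w))
      haveI : Fintype (zpowers z) := Fintype.ofFinite _
      obtain ⟨a, ha, b, hb, hab⟩ : ∃ a ∈ zpowers z, ∃ b ∈ zpowers w, a * b = g * w * g⁻¹ := by
        have hφ := MonoidHom.noncommCoprod_range (zpowers z).subtype (zpowers w).subtype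
          (fun a b => by
            obtain ⟨_, i, rfl⟩ := a; obtain ⟨_, j, rfl⟩ := b
            exact hwz.symm.zpow_zpow i j)
        rw [Subgroup.range_subtype, Subgroup.range_subtype, ← hEdef] at hφ
        rw [← hφ] at hmemE
        obtain ⟨⟨a, b⟩, e⟩ := hmemE
        exact ⟨a, a.2, b, b.2, e⟩
      have ha1 : a = 1 := by
        by_contra ha1
        have h1 := hmix a ha ha1 b hb
        rw [hab, S.a_conj, haw w (mem_zpowers w) hw1] at h1
        omega
      rw [ha1, one_mul] at hab
      have hmap : (zpowers w).map (MulAut.conj g).toMonoidHom = zpowers w := by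
        rw [MonoidHom.map_zpowers, MulEquiv.coe_toMonoidHom, MulAut.conj_apply]
        refine Subgroup.eq_of_le_of_card_ge (zpowers_le.2 (hab ▸ hb)) ?_
        rw [Nat.card_zpowers, Nat.card_zpowers, ← MulAut.conj_apply, MulEquiv.orderOf_eq]
      rw [Subgroup.mem_normalizer_iff]
      intro y
      conv_rhs => rw [← hmap]
      constructor
      · exact fun h => ⟨y, h, rfl⟩
      · rintro ⟨y', hy', e⟩
        rwa [show y' = y from (MulAut.conj g).injective e] at hy'
    obtain ⟨e, he, hN⟩ := card_normalizer (q := 7) hwo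
    have hodd : ¬ 2 ∣ Nat.card (centralizer ({w} : Set G)) := fun h2 => by
      obtain ⟨⟨u, hu⟩, hu2⟩ := exists_prime_orderOf_dvd_card' 2 h2
      rw [Subgroup.orderOf_mk] at hu2
      have := hparity w u hu2 hwo (mem_centralizer_singleton_iff.1 hu)
      rw [haw w (mem_zpowers w) hw1] at this
      norm_num at this
    have h := hT.trans (Subgroup.card_dvd_of_le hTw)
    rw [hN] at h
    have hco : Nat.Coprime 4 (Nat.card (centralizer ({w} : Set G))) := by
      rw [show (4 : ℕ) = 2 ^ 2 by norm_num]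
      exact Nat.Coprime.pow_left _ ((Nat.prime_two.coprime_iff_not_dvd).2 hodd)
    have h6 := (hco.dvd_of_dvd_mul_left h).trans he
    norm_num at h6
  -- a second one
  obtain ⟨g, hg, hgE⟩ : ∃ g ∈ Cz, g ∉ normalizer (E : Set G) := by
    by_contra hcon
    push Not at hcon
    exact hfour Cz le_rfl hcon h4
  set E' := zpowers z ⊔ zpowers (g * w * g⁻¹) with hE'def
  obtain ⟨hE'c, hE'f⟩ := hE g hg
  set H := E ⊔ E' with hHdef
  have hwg : g * w * g⁻¹ ∈ Cz :=
    mul_mem (mul_mem hg (hEC (mem_sup_right (mem_zpowers w)))) (inv_mem hg)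
  have hHC : H ≤ Cz := sup_le hEC (sup_le (zpowers_le.2 (mem_centralizer_singleton_iff.2 rfl))
    (zpowers_le.2 hwg))
  have hEne : E ≠ E' := by
    intro e
    apply hgE
    have hgz : g * z = z * g := mem_centralizer_singleton_iff.1 hg
    have hmap : E.map (MulAut.conj g).toMonoidHom = E := by
      rw [hEdef, Subgroup.map_sup, MonoidHom.map_zpowers, MonoidHom.map_zpowers, MulEquiv.coe_toMonoidHom,
        MulAut.conj_apply, MulAut.conj_apply, hgz, mul_inv_cancel_right, ← hE'def, ← hEdef]
      exact e.symm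
    rw [Subgroup.mem_normalizer_iff]
    intro y
    conv_rhs => rw [← hmap]
    constructor
    · exact fun h => ⟨y, h, rfl⟩
    · rintro ⟨y', hy', e⟩
      rwa [show y' = y from (MulAut.conj g).injective e] at hy'
  have hfixz : S.fix (zpowers z) = 16 := by
    have h := S.fix_prime (q := 7) (by norm_num) hzo
    rw [hd, haz] at h
    push_cast at h
    omega
  have hfixH : 4 ≤ S.fix H := by
    have h := S.fix_add_le (K := zpowers z) (E := E) (E' := E') le_sup_left le_sup_left
    rw [hfixz, hE1.2, hE'f] at h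
    exact (by omega : 4 ≤ S.fix (E ⊔ E'))
  obtain ⟨h, hH⟩ : 49 ∣ Nat.card H := hE1.1 ▸ Subgroup.card_dvd_of_le le_sup_left
  have hh : h ∣ 24 * k := Nat.dvd_of_mul_dvd_mul_left (by norm_num)
    (hH ▸ (Subgroup.card_dvd_of_le hHC).trans hCz)
  have h8 : ¬ 8 ∣ h := by
    intro h8
    obtain ⟨R, hR⟩ := Sylow.exists_subgroup_card_pow_prime 2 (n := 3) (G := H)
      (hH ▸ (by norm_num; exact h8.mul_left 49))
    set R' := R.map H.subtype with hR'
    have hR'8 : Nat.card R' = 8 := by
      rw [hR', Subgroup.card_map_of_injective H.subtype_injective, hR]; norm_num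
    have hRC : R' ≤ Cz := (Subgroup.map_subtype_le R).trans hHC
    haveI : Fintype (zpowers z) := Fintype.ofFinite _
    haveI : Fintype R' := Fintype.ofFinite _
    have hcom : ∀ a ∈ zpowers z, ∀ b ∈ R', Commute a b := by
      rintro _ ⟨i, rfl⟩ b hb
      exact (show Commute z b from (mem_centralizer_singleton_iff.1 (hRC hb)).symm).zpow_left i
    obtain ⟨-, hsum⟩ := S.sum_sup _ _ hcom (disjoint_iff.2 (Subgroup.inf_eq_bot_of_coprime (by
      rw [Nat.card_zpowers, hzo, hR'8]; norm_num)))
    have hin : ∀ a : zpowers z, ∑ b : R', S.a ((a : G) * b) = S.a (a : G) := by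
      intro a
      rw [sum_off_one R' (fun y => S.a ((a : G) * y)) (v := 0) fun b hb hb1 => ?_, mul_one, mul_zero,
        add_zero]
      have ho := (hcom a a.2 b hb).orderOf_mul_eq_mul_orderOf_of_coprime ?_
      · have hb8 : orderOf b ∣ 8 := by
          rw [← hR'8, ← Subgroup.orderOf_mk b hb]; exact orderOf_dvd_natCard _
        have ha7 : orderOf (a : G) ∣ 7 := by
          rw [Subgroup.orderOf_coe, ← hzo, ← Nat.card_zpowers z]; exact orderOf_dvd_natCard a
        refine heven _ (S.not_p_dvd (n := 56) (ho ▸ Nat.mul_dvd_mul ha7 hb8)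
          (by rcases hp with h | h <;> rw [h] <;> norm_num)) (ho ▸ Dvd.dvd.mul_left ?_ _)
        obtain ⟨i, -, hi⟩ := (Nat.dvd_prime_pow Nat.prime_two).1 (show orderOf b ∣ 2 ^ 3 from hb8)
        rw [hi]
        refine dvd_pow_self 2 fun hi0 => hb1 ?_
        rw [hi0, pow_zero, orderOf_eq_one_iff] at hi
        exact hi
      · refine (Nat.Coprime.coprime_dvd_left ?_ (Nat.Coprime.coprime_dvd_right ?_
          (by norm_num : Nat.Coprime 7 8)))
        · rw [Subgroup.orderOf_coe, ← hzo, ← Nat.card_zpowers z]; exact orderOf_dvd_natCard a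
        · rw [← hR'8, ← Subgroup.orderOf_mk b hb]; exact orderOf_dvd_natCard _
    rw [Finset.sum_congr rfl fun a _ => hin a, sum_off_one (zpowers z) S.a (v := 8) (fun b hb hb1 => by
      have := hmix b hb hb1 1 (one_mem _)
      rwa [mul_one] at this), Nat.card_zpowers, hzo, hR'8, S.hd, hd] at hsum
    have hle : zpowers z ⊔ R' ≤ H := sup_le (le_trans le_sup_left le_sup_left) (Subgroup.map_subtype_le R)
    have := S.fix_antitone hle
    norm_num at hsum
    omega
  have h7 : ¬ 7 ∣ h := fun h7 => by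
    have := h7.trans hh
    rcases hk with rfl | rfl <;> norm_num at this
  -- E is a Sylow subgroup of H
  obtain ⟨PE, hPE⟩ : ∃ PE : Sylow 7 H, (PE : Subgroup H) = E.subgroupOf H := by
    refine ⟨Sylow.ofCard _ ?_, Sylow.coe_ofCard _ _⟩
    rw [Nat.card_congr (Subgroup.subgroupOfEquivOfLe (le_sup_left : E ≤ H)).toEquiv, hE1.1, hH,
      show (49 : ℕ) = 7 ^ 2 by norm_num, Nat.factorization_mul (by norm_num) (fun e => h7 (by rw [e]; exact dvd_zero 7)),
      Finsupp.add_apply, Nat.Prime.factorization_pow (by norm_num), Finsupp.single_eq_same,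
      Nat.factorization_eq_zero_of_not_dvd h7, add_zero]
  obtain ⟨PE', hPE'⟩ : ∃ PE : Sylow 7 H, (PE : Subgroup H) = E'.subgroupOf H := by
    refine ⟨Sylow.ofCard _ ?_, Sylow.coe_ofCard _ _⟩
    rw [Nat.card_congr (Subgroup.subgroupOfEquivOfLe (le_sup_right : E' ≤ H)).toEquiv, hE'c, hH,
      show (49 : ℕ) = 7 ^ 2 by norm_num, Nat.factorization_mul (by norm_num) (fun e => h7 (by rw [e]; exact dvd_zero 7)),
      Finsupp.add_apply, Nat.Prime.factorization_pow (by norm_num), Finsupp.single_eq_same,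
      Nat.factorization_eq_zero_of_not_dvd h7, add_zero]
  have hn := card_sylow_modEq_one 7 H
  have hn1 : Nat.card (Sylow 7 H) ≠ 1 := fun e => by
    have := (Nat.card_eq_one_iff_unique.1 e).1
    have hPP : PE = PE' := Subsingleton.elim _ _
    have h' : E.subgroupOf H = E'.subgroupOf H := by rw [← hPE, ← hPE', hPP]
    rw [Subgroup.subgroupOf_inj] at h'
    rw [inf_eq_left.2 (le_sup_left : E ≤ H), inf_eq_left.2 (le_sup_right : E' ≤ H)] at h'
    exact hEne h'
  set N := normalizer ((PE : Subgroup H) : Set H) with hNdef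
  have hnN : Nat.card N * Nat.card (Sylow 7 H) = 49 * h := by
    rw [Sylow.card_eq_index_normalizer PE, ← hH]; exact N.card_mul_index
  have hnh : Nat.card (Sylow 7 H) ∣ h := by
    have hd' := PE.card_dvd_index
    have h' := (PE : Subgroup H).card_mul_index
    rw [hH, hPE, Nat.card_congr (Subgroup.subgroupOfEquivOfLe (le_sup_left : E ≤ H)).toEquiv, hE1.1] at h'
    rw [hPE] at hd'
    exact (Nat.eq_of_mul_eq_mul_left (by norm_num) h') ▸ hd'
  have h4N : ¬ 4 ∣ Nat.card N := by
    rw [← Subgroup.card_map_of_injective H.subtype_injective]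
    refine hfour _ ((Subgroup.map_subtype_le N).trans hHC) ?_
    rintro _ ⟨y, hy, rfl⟩
    rw [Subgroup.mem_normalizer_iff]
    intro v
    rw [SetLike.mem_coe, hNdef, hPE, Subgroup.mem_normalizer_iff] at hy
    by_cases hvH : v ∈ H
    · exact hy ⟨v, hvH⟩
    · refine ⟨fun hvE => absurd ((le_sup_left : E ≤ H) hvE) hvH, fun hvE => absurd ?_ hvH⟩
      have := mul_mem (mul_mem (inv_mem y.2) ((le_sup_left : E ≤ H) hvE)) y.2
      simpa [mul_assoc] using this
  have hh15 : h = 15 ∨ h = 30 := by
    have h120 : h ∣ 120 := hh.trans (by rcases hk with rfl | rfl <;> norm_num)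
    have hn15 : Nat.card (Sylow 7 H) = 15 :=
      fifteen h (Nat.mem_divisors.2 ⟨h120, by norm_num⟩) h8 _
        (Nat.mem_divisors.2 ⟨hnh, fun e => h7 (by rw [e]; exact dvd_zero 7)⟩) hn hn1
    rw [hn15] at hnh hnN
    obtain ⟨j, rfl⟩ := hnh
    have hN49 : Nat.card N = 49 * j := by omega
    rw [hN49] at h4N
    have := Nat.le_of_dvd (by norm_num) h120
    have : j ≤ 8 := by omega
    interval_cases j <;> norm_num at *
  obtain ⟨q, K, hq, hKn, hK⟩ : ∃ (q : ℕ) (K : Subgroup H), q.Coprime 7 ∧ K.Normal ∧ K.index = q ∧ q ≠ 1 := by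
    rcases hh15 with rfl | rfl
    · obtain ⟨y, hy⟩ := exists_prime_orderOf_dvd_card' (G := H) 3 (by rw [hH]; norm_num)
      obtain ⟨K, h1, h2⟩ := exists_complement (q := 3) (m := 245) (by rw [hH]) (by norm_num) hy (by
        obtain ⟨e, he, hN⟩ := card_normalizer (q := 3) hy
        rw [hN]
        rcases (Nat.dvd_prime Nat.prime_two).1 he with rfl | rfl
        · rw [mul_one]
        · exfalso
          have := (dvd_mul_left 2 _).trans (hN ▸ Subgroup.card_subgroup_dvd_card
            (normalizer ((zpowers y : Subgroup H) : Set H)))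
          rw [hH] at this
          norm_num at this)
      exact ⟨3, K, by norm_num, h1, h2, by norm_num⟩
    · obtain ⟨y, hy⟩ := exists_prime_orderOf_dvd_card' (G := H) 2 (by rw [hH]; norm_num)
      obtain ⟨K, h1, h2⟩ := exists_complement (q := 2) (m := 735) (by rw [hH]) (by norm_num) hy (by
        obtain ⟨e, he, hN⟩ := card_normalizer (q := 2) hy
        rw [hN, show e = 1 from Nat.eq_one_of_dvd_one (by simpa using he), mul_one])
      exact ⟨2, K, by norm_num, h1, h2, by norm_num⟩
  haveI := hKn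
  have hin : ∀ F : Subgroup G, F ≤ H → Nat.card F = 49 → F ≤ K.map H.subtype := by
    intro F hF hFc v hv
    refine ⟨⟨v, hF hv⟩, ?_, rfl⟩
    rw [SetLike.mem_coe, ← QuotientGroup.eq_one_iff, ← orderOf_eq_one_iff]
    refine Nat.eq_one_of_dvd_coprimes (Nat.Coprime.pow_right 2 hq) ?_ ?_
    · rw [← hK.1, Subgroup.index_eq_card]; exact orderOf_dvd_natCard _
    · refine (orderOf_map_dvd (QuotientGroup.mk' K) (⟨v, hF hv⟩ : H)).trans ?_
      rw [show 7 ^ 2 = Nat.card F by rw [hFc]; norm_num, Subgroup.orderOf_mk,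
        ← Subgroup.orderOf_mk v hv]
      exact orderOf_dvd_natCard _
  have htop : H ≤ K.map H.subtype := sup_le (hin E le_sup_left hE1.1) (hin E' le_sup_right hE'c)
  have hc := Subgroup.card_le_of_le htop
  rw [Subgroup.card_map_of_injective H.subtype_injective] at hc
  have hKH := K.card_mul_index
  rw [hK.1] at hKH
  have : 0 < Nat.card K := Nat.card_pos
  rcases Nat.lt_or_ge q 2 with h1 | h1
  · interval_cases q
    · simp at hKH; omega
    · exact hK.2 rfl
  · nlinarith




theorem row64_21 (hd : S.d = 64) (hp : S.p = 5) (hr : S.r = 21) (hv : S.a S.t = 0) : False := by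
  have hd0 : S.d0 = 63 := by
    have h1 := S.hdp
    have h2 := S.hd0
    rw [hd, hp] at h1
    rw [hd] at h2
    push_cast at h1 h2
    rcases S.hδ with h | h <;> rw [h] at h1 h2 <;> omega
  exact S.seven_false (k := 1) hd (Or.inl hp) (Or.inl rfl) (by rw [hr]) hv 25920
    (by rw [S.card, hd, hd0, hp, hr]; norm_num) (by norm_num)


theorem row64_105 (hd : S.d = 64) (hp : S.p = 13) (hr : S.r = 105) (hv : S.a S.t = 0) : False := by
  have hd0 : S.d0 = 63 := by
    have h1 := S.hdp
    have h2 := S.hd0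
    rw [hd, hp] at h1
    rw [hd] at h2
    push_cast at h1 h2
    rcases S.hδ with h | h <;> rw [h] at h1 h2 <;> omega
  exact S.seven_false (k := 5) hd (Or.inr hp) (Or.inr rfl) (by rw [hr]) hv 1684800
    (by rw [S.card, hd, hd0, hp, hr]; norm_num) (by norm_num)

end Cfsg.Agent.Block.OnePrime
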