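import Mathlib

/-!
Størmer's theorem for the primes 2, 3, 5, 7: the consecutive numbers `n`, `n + 1` with no other prime
divisor, through the Pell equations `x ^ 2 - D * y ^ 2 = 1` with every prime of `y` dividing `D`.
-/

namespace Cfsg.Agent.Block.OnePrime

open Pell Solution₁

theorem y_dvd_y_pow {D : ℤ} (f : Solution₁ D) : ∀ n : ℕ, f.y ∣ (f ^ n).y
  | 0 => by rw [pow_zero, y_one]; exact dvd_zero _
  | n + 1 => by
    rw [pow_succ, y_mul]
    exact dvd_add (dvd_mul_left _ _) ((y_dvd_y_pow f n).mul_right _)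

theorem pow_congr {D : ℤ} (g : Solution₁ D) : ∀ n : ℕ, ∃ a u : ℤ,
    (g ^ n).x = g.x ^ n + D * a ∧ ∃ b : ℤ, (g ^ n).y = g.y * u ∧ u * g.x = n * g.x ^ n + D * b
  | 0 => ⟨0, 0, by simp, 0, by simp, by simp⟩
  | n + 1 => by
    obtain ⟨a, u, ha, b, hu, hb⟩ := pow_congr g n
    refine ⟨a * g.x + (g ^ n).y * g.y, (g ^ n).x + u * g.x, ?_, (a + b) * g.x, ?_, ?_⟩
    · rw [pow_succ, x_mul, ha]; ring
    · rw [pow_succ, y_mul, hu]; ring
    · rw [ha]; push_cast; linear_combination g.x * hb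

/-- Størmer: a solution with every prime of `y` dividing `D` is the fundamental one. -/
theorem y_dvd_of_smooth {D : ℤ} (hD : 0 < D) (hsmall : ∀ l : ℕ, l.Prime → (l : ℤ) ∣ D → l ∈ [2, 3, 5, 7])
    (T : Solution₁ D) (hTx : 0 < T.x) (hTy : 0 < T.y)
    (hT : ∀ l : ℕ, l.Prime → (l : ℤ) ∣ T.y → (l : ℤ) ∣ D)
    (C : Solution₁ D) (hCx : 0 < C.x) (hCy : 0 < C.y) : T.y ∣ C.y := by
  have hT1 : 1 < T.x := by nlinarith [T.prop_x, mul_pos hD (pow_pos hTy 2)]
  obtain ⟨f, hf⟩ := IsFundamental.exists_of_not_isSquare hD (d_nonsquare_of_one_lt_x hT1)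
  obtain ⟨k, hk⟩ := hf.eq_pow_of_nonneg hTx hTy.le
  obtain ⟨m, hm⟩ := hf.eq_pow_of_nonneg hCx hCy.le
  suffices h : k = 1 by rw [hk, h, pow_one, hm]; exact y_dvd_y_pow f m
  by_contra hk1
  obtain ⟨q, hq, n, rfl⟩ : ∃ q, q.Prime ∧ q ∣ k := Nat.exists_prime_and_dvd hk1
  rcases Nat.eq_zero_or_pos n with rfl | hn
  · rw [mul_zero, pow_zero] at hk
    rw [hk, y_one] at hTy
    exact lt_irrefl 0 hTy
  obtain ⟨g, hg, hgx, hgy⟩ : ∃ g : Solution₁ D, g ^ q = T ∧ 1 < g.x ∧ 0 < g.y := by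
    refine ⟨f ^ n, by rw [hk, ← pow_mul, mul_comm], ?_⟩
    have hy : 0 < (f ^ n).y := by
      obtain ⟨j, rfl⟩ : ∃ j, n = j + 1 := ⟨n - 1, by omega⟩
      exact y_pow_succ_pos hf.x_pos hf.2.1 j
    have hx := x_pow_pos hf.x_pos n
    exact ⟨by nlinarith [(f ^ n).prop_x, mul_pos hD (pow_pos hy 2)], hy⟩
  have hcop : ∀ l : ℕ, l.Prime → (l : ℤ) ∣ D → ¬ (l : ℤ) ∣ g.x := fun l hl hlD hlx => by
    have h1 : (l : ℤ) ∣ g.x ^ 2 - D * g.y ^ 2 := dvd_sub (dvd_pow hlx two_ne_zero) (hlD.mul_right _)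
    rw [g.prop] at h1
    exact hl.ne_one (by exact_mod_cast Int.eq_one_of_dvd_one (by positivity) h1)
  obtain ⟨a, u, -, b, hu, hb⟩ := pow_congr g q
  rw [hg] at hu
  -- the prime divisors of `u` are all `q`, and `q` divides `D`
  have hl : ∀ l : ℕ, l.Prime → (l : ℤ) ∣ u → (l : ℤ) ∣ D ∧ l = q := by
    intro l hl hlu
    have hlD := hT l hl (hu ▸ hlu.mul_left _)
    refine ⟨hlD, ?_⟩
    have h1 : (l : ℤ) ∣ (q : ℤ) * g.x ^ q := by
      have := dvd_sub (hlu.mul_right g.x) (hlD.mul_right b)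
      rwa [hb, add_sub_cancel_right] at this
    rcases Int.Prime.dvd_mul' hl h1 with h | h
    · exact (Nat.prime_dvd_prime_iff_eq hl hq).1 (Int.natCast_dvd_natCast.1 h)
    · exact absurd (Int.Prime.dvd_pow' hl h) (hcop l hl hlD)
  have big : ∀ z : ℤ, 1 < z → (∀ l : ℕ, l.Prime → (l : ℤ) ∣ z → (l : ℤ) ∣ D ∧ l = q) →
      (q : ℤ) ∣ D ∧ (q : ℤ) ∣ z := by
    intro z hz hzl
    obtain ⟨l, hl', hld⟩ := Nat.exists_prime_and_dvd (n := z.natAbs) (by omega)
    obtain ⟨h1, rfl⟩ := hzl l hl' (Int.natCast_dvd.2 hld)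
    exact ⟨h1, Int.natCast_dvd.2 hld⟩
  rcases eq_or_ne q 2 with rfl | h2
  · have h : T.y = g.y * (2 * g.x) := by rw [← hg, sq, y_mul]; ring
    obtain ⟨l, hl', hld⟩ := Nat.exists_prime_and_dvd (n := g.x.natAbs) (by omega)
    exact hcop l hl' (hT l hl' (h ▸ ((Int.natCast_dvd.2 hld).mul_left 2).mul_left _))
      (Int.natCast_dvd.2 hld)
  have hgy2 : 0 < D * g.y ^ 2 := mul_pos hD (pow_pos hgy 2)
  have hu1 : 1 < u := by
    have h3 : g.x ^ 3 ≤ (g ^ q).x := by
      have key : ∀ j : ℕ, g.x ^ j ≤ (g ^ j).x ∧ 0 ≤ (g ^ j).y := by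
        intro j
        induction j with
        | zero => simp
        | succ j ih =>
          have h0 : 0 ≤ (g ^ j).x := (x_pow_pos (by omega) j).le
          rw [pow_succ g, x_mul, y_mul, pow_succ]
          exact ⟨by nlinarith [mul_nonneg hD.le (mul_nonneg ih.2 hgy.le)], by nlinarith⟩
      have hq3 : 3 ≤ q := by have := hq.two_le; omega
      exact (pow_le_pow_right₀ (by omega) hq3).trans (key q).1
    by_contra hcon
    have h4 : T.y ≤ g.y := by rw [hu]; nlinarith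
    have h5 : T.x ^ 2 ≤ g.x ^ 2 := by
      rw [T.prop_x, g.prop_x]
      have := mul_le_mul_of_nonneg_left (pow_le_pow_left₀ hTy.le h4 2) hD.le
      omega
    rw [hg] at h3
    nlinarith
  obtain ⟨hqD, hqu⟩ := big u hu1 hl
  have hne : g.y ≠ 0 := hgy.ne'
  have hxne := hcop q hq hqD
  have hqmem := hsmall q hq hqD
  fin_cases hqmem
  · exact h2 rfl
  · have he : u = (2 * g.x - 1) * (2 * g.x + 1) := by
      refine mul_left_cancel₀ hne ?_
      rw [← hu, ← hg, pow_succ, pow_succ, pow_one, y_mul, x_mul, y_mul]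
      linear_combination -g.y * g.prop
    have h1 := (big _ (show 1 < 2 * g.x - 1 by omega) fun l hl' hd => hl l hl' (he ▸ hd.mul_right _)).2
    have h3 := (big _ (show 1 < 2 * g.x + 1 by omega) fun l hl' hd => hl l hl' (he ▸ hd.mul_left _)).2
    omega
  · have he : u = 5 * g.x ^ 4 + 10 * g.x ^ 2 * D * g.y ^ 2 + D ^ 2 * g.y ^ 4 := by
      refine mul_left_cancel₀ hne ?_
      rw [← hu, ← hg]
      simp only [pow_succ, pow_zero, one_mul, y_mul, x_mul]
      ring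
    have h5 : (5 : ℤ) < u := by
      rw [he]; nlinarith [mul_pos (pow_pos (show (0:ℤ) < g.x by omega) 2) hgy2, sq_nonneg (D * g.y ^ 2),
        one_lt_pow₀ hgx (show 4 ≠ 0 by omega)]
    obtain ⟨w, hw⟩ := hqu
    obtain ⟨-, hqw⟩ := big w (by push_cast at hw; omega) fun l hl' hd => hl l hl' (hw ▸ hd.mul_left _)
    obtain ⟨e, rfl⟩ := hqD
    obtain ⟨v, rfl⟩ := hqw
    push_cast at he hw hxne ⊢
    refine hxne (Int.Prime.dvd_pow' (k := 4) hq ?_ : (5 : ℤ) ∣ g.x)
    exact ⟨v - 2 * g.x ^ 2 * e * g.y ^ 2 - e ^ 2 * g.y ^ 4, by push_cast; linarith⟩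
  · have he : u = 7 * g.x ^ 6 + 35 * g.x ^ 4 * D * g.y ^ 2 + 21 * g.x ^ 2 * D ^ 2 * g.y ^ 4 +
        D ^ 3 * g.y ^ 6 := by
      refine mul_left_cancel₀ hne ?_
      rw [← hu, ← hg]
      simp only [pow_succ, pow_zero, one_mul, y_mul, x_mul]
      ring
    have h7 : (7 : ℤ) < u := by
      have hx0 : (0 : ℤ) < g.x := by omega
      have h6 : 1 < g.x ^ 6 := one_lt_pow₀ hgx (by omega)
      have : 0 ≤ 35 * g.x ^ 4 * D * g.y ^ 2 := by positivity
      have : 0 ≤ 21 * g.x ^ 2 * D ^ 2 * g.y ^ 4 := by positivity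
      have : 0 ≤ D ^ 3 * g.y ^ 6 := by positivity
      omega
    obtain ⟨w, hw⟩ := hqu
    obtain ⟨-, hqw⟩ := big w (by push_cast at hw; omega) fun l hl' hd => hl l hl' (hw ▸ hd.mul_left _)
    obtain ⟨e, rfl⟩ := hqD
    obtain ⟨v, rfl⟩ := hqw
    push_cast at he hw hxne ⊢
    refine hxne (Int.Prime.dvd_pow' (k := 6) hq ?_ : (7 : ℤ) ∣ g.x)
    exact ⟨v - 5 * g.x ^ 4 * e * g.y ^ 2 - 21 * g.x ^ 2 * e ^ 2 * g.y ^ 4 - 7 * e ^ 3 * g.y ^ 6, by push_cast; linarith⟩

/-- The smaller numbers of the pairs. -/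
def smoothPairs : List ℕ :=
  [1, 2, 3, 4, 5, 6, 7, 8, 9, 14, 15, 20, 24, 27, 35, 48, 49, 63, 80, 125, 224, 2400, 4374]

/-- Solutions of the Pell equations. -/
def pellTable : List (ℕ × ℕ × ℕ) :=
  [(2, 3, 2), (14, 15, 4), (98, 99, 10), (10, 19, 6), (70, 251, 30), (490, 1039681, 46968),
    (50, 99, 14), (350, 449, 24), (2450, 99, 2), (6, 5, 2), (42, 13, 2), (294, 4801, 280),
    (30, 11, 2), (210, 29, 2), (1470, 5291, 138), (150, 49, 4), (1050, 8749, 270),
    (7350, 4801, 56), (18, 17, 4), (126, 449, 40), (882, 19601, 660), (90, 19, 2),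
    (630, 251, 10), (4410, 1039681, 15656), (450, 19601, 924), (3150, 449, 8),
    (22050, 19601, 132), (28, 127, 24), (20, 9, 2), (140, 71, 6), (980, 51841, 1656),
    (700, 8193151, 309672), (12, 7, 2), (84, 55, 6), (588, 97, 4), (60, 31, 4), (420, 41, 2),
    (2940, 119071, 2196), (300, 1351, 78), (2100, 6049, 132), (14700, 3650401, 30108),
    (252, 127, 8), (180, 161, 12), (1260, 71, 2), (8820, 51841, 552), (6300, 8193151, 103224)]

/-- The exponents of `q` that can divide `Y`. -/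
def expCand (q Y : ℕ) : List ℕ := (List.range 24).filter fun m => Y % q ^ m == 0

/-- The check of one discriminant. -/
def pellCheck (D : ℕ) : Bool :=
  if Nat.sqrt D * Nat.sqrt D == D then true else
  match pellTable.find? (fun r => r.1 == D) with
  | none => false
  | some (_, X, Y) =>
    X * X == D * Y * Y + 1 && decide (0 < Y) && decide (Y < 2 ^ 24) &&
      (expCand 2 Y).all fun a => (expCand 3 Y).all fun b => (expCand 5 Y).all fun c =>
        (expCand 7 Y).all fun e =>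
          let P := D * (2 ^ a * 3 ^ b * 5 ^ c * 7 ^ e) ^ 2 + 1
          !(Nat.sqrt P * Nat.sqrt P == P) || smoothPairs.contains ((Nat.sqrt P - 1) / 2)

theorem pell_checks : ((List.range 2).all fun i => (List.range 3).all fun j => (List.range 3).all fun k =>
    (List.range 3).all fun l => pellCheck (2 ^ (i + 1) * 3 ^ j * 5 ^ k * 7 ^ l)) = true := by
  decide +kernel

theorem exists_exp_split (e : ℕ) : ∃ ε m : ℕ, ε ≤ 2 ∧ e = ε + 2 * m ∧ (ε = 0 → m = 0) := by
  rcases Nat.eq_zero_or_pos e with rfl | h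
  · exact ⟨0, 0, by omega⟩
  · exact ⟨2 - e % 2, (e - (2 - e % 2)) / 2, by omega⟩

theorem mem_expCand {q Y m : ℕ} (hq : 2 ≤ q) (hY : 0 < Y) (hYb : Y < 2 ^ 24) (h : q ^ m ∣ Y) :
    m ∈ expCand q Y := by
  refine List.mem_filter.2 ⟨List.mem_range.2 ?_, by simpa using Nat.mod_eq_zero_of_dvd h⟩
  have h1 := (Nat.pow_le_pow_left hq m).trans (Nat.le_of_dvd hY h)
  exact (Nat.pow_lt_pow_iff_right (by omega)).1 (h1.trans_lt hYb)

/-- Two consecutive numbers with all prime divisors at most 7. -/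
theorem stormer {n a b c e : ℕ} (hn : 0 < n) (h : n * (n + 1) = 2 ^ a * 3 ^ b * 5 ^ c * 7 ^ e) :
    n ∈ smoothPairs := by
  have ha : 0 < a := by
    by_contra ha
    have h2 : Odd (n * (n + 1)) := by
      rw [h, show a = 0 by omega]
      exact (((odd_one.mul (Odd.pow (by decide))).mul (Odd.pow (by decide))).mul (Odd.pow (by decide)))
    exact Nat.not_even_iff_odd.2 h2 (Nat.even_mul_succ_self n)
  obtain ⟨i, m₂, hi, hai, hi0⟩ := exists_exp_split (a + 2)
  obtain ⟨j, m₃, hj, hbj, hj0⟩ := exists_exp_split b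
  obtain ⟨k, m₅, hk, hck, hk0⟩ := exists_exp_split c
  obtain ⟨l, m₇, hl, hel, hl0⟩ := exists_exp_split e
  have hi1 : 1 ≤ i := by omega
  set D := 2 ^ i * 3 ^ j * 5 ^ k * 7 ^ l with hDdef
  set y := 2 ^ m₂ * 3 ^ m₃ * 5 ^ m₅ * 7 ^ m₇ with hydef
  have heq : (2 * n + 1) ^ 2 = D * y ^ 2 + 1 := by
    have h1 : 4 * (n * (n + 1)) = D * y ^ 2 := by
      rw [h, show 4 * (2 ^ a * 3 ^ b * 5 ^ c * 7 ^ e) = 2 ^ (a + 2) * 3 ^ b * 5 ^ c * 7 ^ e by ring,
        hai, hbj, hck, hel, hDdef, hydef]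
      ring
    rw [← h1]; ring
  have hy : 0 < y := by positivity
  have hD : 0 < D := by positivity
  have hchk : pellCheck D = true := by
    have h0 := pell_checks
    simp only [List.all_eq_true, List.mem_range] at h0
    have := h0 (i - 1) (by omega) j (by omega) k (by omega) l (by omega)
    rwa [show i - 1 + 1 = i by omega] at this
  let T : Solution₁ (D : ℤ) := Solution₁.mk (2 * n + 1 : ℤ) (y : ℤ) (by
    have : ((2 * n + 1 : ℤ)) ^ 2 = D * y ^ 2 + 1 := by exact_mod_cast heq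
    linarith)
  have hTx : 0 < T.x := by rw [x_mk]; positivity
  have hTy : 0 < T.y := by rw [y_mk]; exact_mod_cast hy
  unfold pellCheck at hchk
  split at hchk
  · rename_i hsq
    refine absurd ⟨(Nat.sqrt D : ℤ), by exact_mod_cast (beq_iff_eq.1 hsq).symm⟩
      (d_nonsquare_of_one_lt_x (a := T) ?_)
    rw [x_mk]; omega
  split at hchk
  · simp at hchk
  rename_i X Y heqn
  simp only [Bool.and_eq_true, beq_iff_eq, decide_eq_true_iff, List.all_eq_true] at hchk
  obtain ⟨⟨⟨hX, hY⟩, hYb⟩, hall⟩ := hchk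
  let C : Solution₁ (D : ℤ) := Solution₁.mk (X : ℤ) (Y : ℤ) (by
    have : (X : ℤ) * X = D * Y * Y + 1 := by exact_mod_cast hX
    linarith)
  have hCx : 0 < C.x := by
    rw [x_mk]
    have : 0 < X := by
      rcases Nat.eq_zero_or_pos X with rfl | h
      · omega
      · exact h
    exact_mod_cast this
  have hdvd : T.y ∣ C.y := by
    refine y_dvd_of_smooth (by exact_mod_cast hD) ?_ T hTx hTy ?_ C hCx (by rw [y_mk]; exact_mod_cast hY)
    · intro q hq hqD
      rw [Int.natCast_dvd_natCast, hDdef, hq.dvd_mul, hq.dvd_mul, hq.dvd_mul] at hqD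
      have key : ∀ r s : ℕ, r.Prime → q ∣ r ^ s → q = r := fun r s hr h' =>
        (Nat.prime_dvd_prime_iff_eq hq hr).1 (hq.dvd_of_dvd_pow h')
      rcases hqD with ((h' | h') | h') | h'
      · simp [key 2 i Nat.prime_two h']
      · simp [key 3 j Nat.prime_three h']
      · simp [key 5 k (by norm_num) h']
      · simp [key 7 l (by norm_num) h']
    · intro q hq hqy
      rw [y_mk, Int.natCast_dvd_natCast, hydef, hq.dvd_mul, hq.dvd_mul, hq.dvd_mul] at hqy
      rw [Int.natCast_dvd_natCast, hDdef, hq.dvd_mul, hq.dvd_mul, hq.dvd_mul]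
      have key : ∀ r ε m : ℕ, (ε = 0 → m = 0) → q ∣ r ^ m → q ∣ r ^ ε := fun r ε m h0 h' => by
        rcases Nat.eq_zero_or_pos ε with he | he
        · rw [h0 he, pow_zero] at h'
          exact absurd h' hq.not_dvd_one
        · exact (hq.dvd_of_dvd_pow h').trans (dvd_pow_self r he.ne')
      rcases hqy with ((h' | h') | h') | h'
      · exact Or.inl (Or.inl (Or.inl (key _ _ _ hi0 h')))
      · exact Or.inl (Or.inl (Or.inr (key _ _ _ hj0 h')))
      · exact Or.inl (Or.inr (key _ _ _ hk0 h'))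
      · exact Or.inr (key _ _ _ hl0 h')
  rw [y_mk, y_mk, Int.natCast_dvd_natCast, hydef] at hdvd
  have hd4 := dvd_trans (dvd_mul_left _ _) hdvd
  have hd123 := dvd_trans (dvd_mul_right _ _) hdvd
  have := hall m₂ (mem_expCand le_rfl hY hYb ((dvd_mul_right _ _).trans ((dvd_mul_right _ _).trans hd123)))
    m₃ (mem_expCand (by omega) hY hYb ((dvd_mul_left _ _).trans ((dvd_mul_right _ _).trans hd123)))
    m₅ (mem_expCand (by omega) hY hYb ((dvd_mul_left _ _).trans hd123))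
    m₇ (mem_expCand (by omega) hY hYb hd4)
  rw [← hydef, ← heq, sq, Nat.sqrt_eq] at this
  simpa using this

end Cfsg.Agent.Block.OnePrime
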