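import Cfsg.Agent.Lib.Block.OnePrime.Facts
import Cfsg.Agent.Lib.Block.OnePrime.Stormer

/-!
The finitely many parameters of a `OnePrime.Setup` whose other primes are at most 7.
-/

namespace Cfsg.Agent.Block.OnePrime

open Cfsg Subgroup

set_option linter.style.haveILetI false

universe u

/-- The pairs of degrees with the sign. -/
def degPairs : List (ℕ × ℕ × ℤ) :=
  smoothPairs.flatMap fun n => [(n, n + 1, 1), (n + 1, n, -1)]

/-- A weak primality test. -/
def primeTest (p : ℕ) : Bool :=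
  (List.range (Nat.sqrt p + 1)).all fun i => decide (i < 2) || p % i != 0

/-- The exponents of `q` allowed in `r`. -/
def expR (q p d d0 : ℕ) : List ℕ :=
  (List.range 14).filter fun j => j == 0 || (q != p && decide (q ^ j * Nat.gcd (d * d0) (q ^ 40) < 2 * d))

/-- The lower bound for a centralizer. -/
def normBound (p d : ℕ) (δ : ℤ) (w : ℕ) : ℤ :=
  1 + ((d : ℤ) - w) ^ 2 + (((p - 1) / 2 : ℕ) : ℤ) * (1 + δ * ((d : ℤ) - w)) ^ 2

/-- A central element of order `q` in a Sylow subgroup is possible. -/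
def centralTest (q p d : ℕ) (δ : ℤ) (r n : ℕ) : Bool :=
  q == p || n % q != 0 || (List.range (2 * d)).any fun w => decide (0 < w) &&
    decide (w * (q - 1) ≤ q * d) && w % q == 0 && r * w % Nat.gcd n (q ^ 40) == 0 &&
    decide (normBound p d δ w ≤ (Nat.gcd (r * w) n : ℕ))

/-- The value at an involution is possible. -/
def involTest (p d : ℕ) (δ : ℤ) (r n w : ℕ) : Bool :=
  decide (0 < w) && w % 4 == 0 && n % (r * w) == 0 && r * w % p != 0 &&
    r * w % Nat.gcd n (2 ^ 40) == 0 && decide (normBound p d δ w ≤ (r * w : ℕ)) && decide (r * w < n)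

/-- The candidates for `r`. -/
def rCands (p d d0 : ℕ) : List ℕ :=
  (expR 2 p d d0).flatMap fun a => (expR 3 p d d0).flatMap fun b => (expR 5 p d d0).flatMap fun c =>
    (expR 7 p d d0).flatMap fun e =>
      if (2 ^ a * 3 ^ b * 5 ^ c * 7 ^ e) ^ 2 % p == 1 then [2 ^ a * 3 ^ b * 5 ^ c * 7 ^ e] else []

/-- The possible parameters `(d, d0, p, r, d - χ t)`. -/
def survivors : List (ℕ × ℕ × ℕ × ℕ × ℕ) :=
  degPairs.flatMap fun (d, d0, δ) => if d < 2 then [] else
    (List.range (d + 2)).flatMap fun (p : ℕ) =>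
      if decide (5 ≤ p) && ((d : ℤ) - δ) % (p : ℤ) == 0 && primeTest p then
        (rCands p d d0).flatMap fun (r : ℕ) =>
          if centralTest 3 p d δ r (p * r ^ 2 * d * d0) && centralTest 5 p d δ r (p * r ^ 2 * d * d0) &&
              centralTest 7 p d δ r (p * r ^ 2 * d * d0) then
            (List.range (2 * d)).flatMap fun w =>
              if involTest p d δ r (p * r ^ 2 * d * d0) w then [(d, d0, p, r, w)] else []
          else []
      else []

set_option maxRecDepth 4000 in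
theorem survivors_eq : survivors =
  [(4, 3, 5, 1, 4), (6, 7, 5, 6, 4), (6, 7, 5, 4, 8), (8, 9, 7, 1, 8), (9, 8, 5, 1, 8),
    (9, 8, 5, 14, 16), (10, 9, 11, 56, 16), (15, 16, 7, 1, 16), (16, 15, 17, 1, 16),
    (20, 21, 19, 1, 20), (20, 21, 19, 18, 24), (20, 21, 19, 20, 16), (20, 21, 19, 360, 32),
    (21, 20, 11, 1, 20), (21, 20, 11, 45, 12), (21, 20, 11, 45, 20), (21, 20, 11, 45, 28),
    (21, 20, 11, 45, 36), (21, 20, 11, 10, 24), (21, 20, 11, 12, 16), (21, 20, 11, 120, 32),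
    (24, 25, 23, 1, 24), (24, 25, 23, 252, 32), (25, 24, 13, 1, 24), (27, 28, 13, 1, 28),
    (27, 28, 13, 25, 20), (27, 28, 13, 25, 28), (27, 28, 13, 25, 36), (27, 28, 13, 40, 32),
    (28, 27, 29, 1, 28), (35, 36, 17, 1, 36), (35, 36, 17, 120, 32), (36, 35, 37, 1, 36),
    (48, 49, 47, 1, 48), (49, 48, 5, 1, 48), (49, 48, 5, 9, 48), (49, 48, 5, 36, 64),
    (50, 49, 17, 18, 60), (50, 49, 17, 288, 64), (63, 64, 31, 1, 64), (64, 63, 5, 1, 64),
    (64, 63, 5, 21, 64), (64, 63, 13, 1, 64), (64, 63, 13, 25, 64), (64, 63, 13, 105, 64),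
    (80, 81, 79, 1, 80), (81, 80, 41, 1, 80), (125, 126, 31, 2016, 64), (125, 126, 31, 2016, 192),
    (224, 225, 223, 1, 224), (225, 224, 113, 1, 224), (2400, 2401, 2399, 1, 2400),
    (2401, 2400, 1201, 1, 2400)] := by
  decide +kernel

theorem primeTest_of_prime {p : ℕ} (hp : p.Prime) : primeTest p = true := by
  simp only [primeTest, List.all_eq_true, List.mem_range, Bool.or_eq_true, decide_eq_true_iff,
    bne_iff_ne, ne_eq]
  intro i hi
  by_contra h
  push Not at h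
  rcases hp.eq_one_or_self_of_dvd i (Nat.dvd_of_mod_eq_zero h.2) with h1 | h1
  · omega
  · subst h1
    have h3 := Nat.sqrt_le i
    have h4 := Nat.mul_le_mul (show i ≤ Nat.sqrt i by omega) (show i ≤ Nat.sqrt i by omega)
    have h5 := Nat.mul_le_mul_right i h.1
    omega

variable {G : Type u} [Group G] [Finite G] (S : Setup G)

theorem Setup.regular {q : ℕ} (hq : q.Prime) (hqp : q ≠ S.p) {x : G} {k : ℕ} (hx : x ^ q ^ k = 1) :
    ¬ S.p ∣ orderOf x := fun h =>
  hqp ((Nat.prime_dvd_prime_iff_eq S.hp hq).1 (S.hp.dvd_of_dvd_pow (h.trans (orderOf_dvd_of_pow_eq_one hx)))).symm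

theorem Setup.norm_bound {x : G} (hxp : ¬ S.p ∣ orderOf x) {w : ℕ} (hw : (w : ℤ) = (S.d : ℤ) - S.a x) :
    normBound S.p S.d S.δ w ≤ Nat.card (centralizer ({x} : Set G)) := by
  rw [normBound, show (S.d : ℤ) - w = S.a x by omega]
  exact S.norm_le x hxp

/-- The numerical constraints from a central element of a Sylow subgroup. -/
theorem Setup.central_facts {q : ℕ} (hq : q.Prime) (hqp : q ≠ S.p) (hdvd : q ∣ Nat.card G) :
    ∃ w : ℕ, 0 < w ∧ w < 2 * S.d ∧ w * (q - 1) ≤ q * S.d ∧ q ∣ w ∧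
      (∀ k, q ^ k ∣ Nat.card G → q ^ k ∣ S.r * w) ∧
      normBound S.p S.d S.δ w ≤ (Nat.gcd (S.r * w) (Nat.card G) : ℕ) := by
  obtain ⟨z, hz, hzc⟩ := exists_central (H := G) hq hdvd
  have hz1 : z ≠ 1 := fun h => hq.ne_one (by rw [← hz, h, orderOf_one])
  have hzq : z ^ q ^ 1 = 1 := by rw [pow_one, ← hz]; exact pow_orderOf_eq_one z
  have hzp := S.regular hq hqp hzq
  have h1 := S.lt z hz1
  have h2 := S.neg_lt z
  obtain ⟨w, hw⟩ : ∃ w : ℕ, (w : ℤ) = (S.d : ℤ) - S.a z := ⟨_, Int.toNat_of_nonneg (by omega)⟩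
  have hc : Nat.card (centralizer ({z} : Set G)) ∣ S.r * w := by
    rw [← Int.natCast_dvd_natCast, Nat.cast_mul, hw]
    exact S.cen_dvd z hz1 hzp
  refine ⟨w, by omega, by omega, ?_, ?_, fun k hk => ?_, ?_⟩
  · obtain ⟨j, rfl⟩ : ∃ j, q = j + 1 := ⟨q - 1, by have := hq.one_le; omega⟩
    have h3 := S.fix_prime hq hz
    have h4 : (0 : ℤ) ≤ ((j + 1 : ℕ) : ℤ) * (S.fix (zpowers z) : ℤ) := by positivity
    rw [Nat.add_sub_cancel, ← Int.ofNat_le]
    push_cast at h3 h4 ⊢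
    rw [hw]
    linear_combination h4.trans_eq h3
  · rw [← Int.natCast_dvd_natCast, hw]
    exact Int.modEq_iff_dvd.1 (S.a_congr_d hq hzq)
  · exact ((pow_dvd_pow q ((hq.pow_dvd_iff_le_factorization Nat.card_pos.ne').1 hk)).trans hzc).trans hc
  · refine (S.norm_bound hzp hw).trans (Int.ofNat_le.2 ?_)
    exact Nat.le_of_dvd (Nat.gcd_pos_of_pos_right _ Nat.card_pos)
      (Nat.dvd_gcd hc (Subgroup.card_subgroup_dvd_card _))

theorem Setup.r_pos : 0 < S.r := by
  rcases Nat.eq_zero_or_pos S.r with h | h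
  · have := S.hr
    rw [h] at this
    simp at this
  · exact h

theorem Setup.expR_mem {q j r' : ℕ} (hq : q.Prime) (hr : S.r = q ^ j * r') (hr' : ¬ q ∣ r')
    (hd : S.d ≤ 4400) : j ∈ expR q S.p S.d S.d0 := by
  simp only [expR, List.mem_filter, List.mem_range, Bool.or_eq_true, beq_iff_eq, Bool.and_eq_true,
    bne_iff_ne, ne_eq, decide_eq_true_iff]
  rcases Nat.eq_zero_or_pos j with hj | hj
  · exact ⟨by omega, Or.inl hj⟩
  have hqp : q ≠ S.p := by
    rintro rfl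
    have h := S.hr
    rw [hr, Nat.mod_eq_zero_of_dvd (dvd_pow (Dvd.dvd.mul_right (dvd_pow_self _ (by omega)) _) two_ne_zero)] at h
    omega
  obtain ⟨k, -, hk⟩ := (Nat.dvd_prime_pow hq).1 (Nat.gcd_dvd_right (S.d * S.d0) (q ^ 40))
  have hdvd : q ^ (2 * j + k) ∣ Nat.card G := by
    rw [pow_add, ← hk, S.card, hr, show S.p * (q ^ j * r') ^ 2 * S.d * S.d0 =
      q ^ (2 * j) * (S.d * S.d0) * (S.p * r' ^ 2) by ring]
    exact ((mul_dvd_mul_left _ (Nat.gcd_dvd_left _ _))).mul_right _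
  obtain ⟨w, hw0, hw, -, -, hpow, -⟩ :=
    S.central_facts hq hqp ((dvd_pow_self q (by omega)).trans hdvd)
  have h1 := hpow _ hdvd
  rw [show 2 * j + k = j + (j + k) by omega, pow_add, hr, mul_assoc,
    Nat.mul_dvd_mul_iff_left (pow_pos hq.pos j)] at h1
  have h2 := Nat.le_of_dvd hw0
    ((Nat.Coprime.pow_left _ (hq.coprime_iff_not_dvd.2 hr')).dvd_of_dvd_mul_left h1)
  have h3 : q ^ j ≤ q ^ (j + k) := Nat.pow_le_pow_right hq.pos (Nat.le_add_right j k)
  refine ⟨?_, Or.inr ⟨hqp, ?_⟩⟩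
  · have h4 := Nat.pow_le_pow_left hq.two_le j
    by_contra h5
    have h6 := Nat.pow_le_pow_right (show 0 < 2 by omega) (show 14 ≤ j by omega)
    omega
  · rw [hk, ← pow_add]
    omega

theorem smooth_repr : ∀ n : ℕ, n ≠ 0 → (∀ q : ℕ, q.Prime → q ∣ n → q ∈ [2, 3, 5, 7]) →
    ∃ a b c e : ℕ, n = 2 ^ a * 3 ^ b * 5 ^ c * 7 ^ e := by
  intro n
  induction n using induction_on_primes with
  | zero => simp
  | one => exact fun _ _ => ⟨0, 0, 0, 0, by norm_num⟩
  | prime_mul l k hl ih =>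
    intro hne hsm
    obtain ⟨a, b, c, e, rfl⟩ := ih (right_ne_zero_of_mul hne) fun q hq h => hsm q hq (h.mul_left l)
    have hl' := hsm l hl (dvd_mul_right l _)
    fin_cases hl'
    · exact ⟨a + 1, b, c, e, by ring⟩
    · exact ⟨a, b + 1, c, e, by ring⟩
    · exact ⟨a, b, c + 1, e, by ring⟩
    · exact ⟨a, b, c, e + 1, by ring⟩

theorem not_dvd_four {q : ℕ} (hq : q.Prime) {x y z : ℕ} {a b c : ℕ} (hx : x.Prime) (hy : y.Prime)
    (hz : z.Prime) (h1 : q ≠ x) (h2 : q ≠ y) (h3 : q ≠ z) : ¬ q ∣ x ^ a * (y ^ b * z ^ c) := by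
  intro h
  rcases hq.dvd_mul.1 h with h | h
  · exact h1 ((Nat.prime_dvd_prime_iff_eq hq hx).1 (hq.dvd_of_dvd_pow h))
  rcases hq.dvd_mul.1 h with h | h
  · exact h2 ((Nat.prime_dvd_prime_iff_eq hq hy).1 (hq.dvd_of_dvd_pow h))
  · exact h3 ((Nat.prime_dvd_prime_iff_eq hq hz).1 (hq.dvd_of_dvd_pow h))

/-- The parameters are among the survivors. -/
theorem Setup.mem_survivors [IsSimpleGroup G] (hsm : ∀ q : ℕ, q.Prime → q ∣ Nat.card G → q = S.p ∨ q ∈ [2, 3, 5, 7]) :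
    (S.d, S.d0, S.p, S.r, ((S.d : ℤ) - S.a S.t).toNat) ∈ survivors := by
  have hp := S.hp
  have hd2 := S.hd2
  have hd0 := S.hd0
  have hdpos : 0 < S.d0 := by rcases S.hδ with h | h <;> rw [h] at hd0 <;> omega
  have hrpos := S.r_pos
  -- the primes of `d`, `d0` and `r`
  have hfree : ∀ m : ℕ, m ∣ S.r ^ 2 * (S.d * S.d0) → ∀ q : ℕ, q.Prime → q ∣ m → q ∈ [2, 3, 5, 7] := by
    intro m hm q hq hqm
    have hqr : q ∣ S.r ^ 2 * (S.d * S.d0) := hqm.trans hm
    refine (hsm q hq (S.card ▸ ?_)).resolve_left ?_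
    · rw [show S.p * S.r ^ 2 * S.d * S.d0 = S.r ^ 2 * (S.d * S.d0) * S.p by ring]
      exact hqr.mul_right _
    · rintro rfl
      rcases hq.dvd_mul.1 hqr with h | h
      · have := S.hr; rw [Nat.mod_eq_zero_of_dvd h] at this; omega
      rcases hq.dvd_mul.1 h with h | h
      · have h1 := dvd_sub (Int.natCast_dvd_natCast.2 h) S.hdp
        rw [sub_sub_cancel] at h1
        have h2 := Int.natCast_dvd.1 h1
        have := S.hp5
        rcases S.hδ with e | e <;> rw [e] at h2 <;> norm_num at h2 <;> omega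
      · have h1 := dvd_sub (Int.natCast_dvd_natCast.2 h) S.hdp
        rw [hd0, show (S.d : ℤ) + S.δ - (S.d - S.δ) = 2 * S.δ by ring] at h1
        have h2 := Int.natCast_dvd.1 h1
        have := S.hp5
        rcases S.hδ with e | e <;> rw [e] at h2 <;> norm_num at h2 <;>
          have := Nat.le_of_dvd two_pos h2 <;> omega
  -- the pair
  have hmem : (S.d, S.d0, S.δ) ∈ degPairs ∧ S.d ≤ 4400 := by
    obtain ⟨a, b, c, e, h⟩ := smooth_repr (S.d * S.d0) (Nat.mul_ne_zero (by omega) (by omega))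
      (hfree _ (dvd_mul_left _ _))
    have hmax : ∀ n ∈ smoothPairs, n ≤ 4374 := by decide
    rw [degPairs, List.mem_flatMap]
    rcases S.hδ with hδ | hδ <;> rw [hδ] at hd0 ⊢
    · obtain h0 : S.d0 = S.d + 1 := by omega
      rw [h0] at h ⊢
      have h1 := stormer (by omega) h
      exact ⟨⟨S.d, h1, by simp⟩, by have := hmax _ h1; omega⟩
    · obtain h0 : S.d = S.d0 + 1 := by omega
      rw [h0, mul_comm] at h
      have h1 := stormer hdpos h
      exact ⟨⟨S.d0, h1, by simp [h0]⟩, by have := hmax _ h1; omega⟩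
  obtain ⟨hpair, hd4400⟩ := hmem
  -- the candidates for `r`
  have hr : S.r ∈ rCands S.p S.d S.d0 := by
    obtain ⟨a, b, c, e, hre⟩ := smooth_repr S.r hrpos.ne'
      (hfree _ ((dvd_pow_self _ two_ne_zero).mul_right _))
    simp only [rCands, List.mem_flatMap]
    refine ⟨a, S.expR_mem Nat.prime_two (r' := 3 ^ b * (5 ^ c * 7 ^ e)) (by rw [hre]; ring) ?_ hd4400,
      b, S.expR_mem Nat.prime_three (r' := 2 ^ a * (5 ^ c * 7 ^ e)) (by rw [hre]; ring) ?_ hd4400,
      c, S.expR_mem (q := 5) (by norm_num) (r' := 2 ^ a * (3 ^ b * 7 ^ e)) (by rw [hre]; ring) ?_ hd4400,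
      e, S.expR_mem (q := 7) (by norm_num) (r' := 2 ^ a * (3 ^ b * 5 ^ c)) (by rw [hre]; ring) ?_ hd4400, ?_⟩
    all_goals first
      | exact not_dvd_four (by norm_num) (by norm_num) (by norm_num) (by norm_num) (by omega) (by omega)
          (by omega)
      | rw [← hre, if_pos (by rw [beq_iff_eq]; exact S.hr)]; simp
  -- the involution
  have ht2 : orderOf S.t = 2 := S.ht
  have ht1 : S.t ≠ 1 := fun h => by rw [h, orderOf_one] at ht2; omega
  have htp : ¬ S.p ∣ orderOf S.t := by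
    rw [ht2]; exact fun h => by have := Nat.le_of_dvd two_pos h; have := S.hp5; omega
  obtain ⟨w, hw⟩ : ∃ w : ℕ, (w : ℤ) = (S.d : ℤ) - S.a S.t :=
    ⟨_, Int.toNat_of_nonneg (by have := S.lt _ ht1; omega)⟩
  rw [← hw, Int.toNat_natCast]
  have hct : Nat.card (centralizer ({S.t} : Set G)) = S.r * w := by
    have := S.cen_t
    rw [← hw] at this
    exact_mod_cast this
  have hlt1 := S.lt _ ht1
  have hlt2 := S.neg_lt S.t
  have hcard := S.card
  set n := Nat.card G with hn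
  rw [survivors, List.mem_flatMap]
  refine ⟨_, hpair, ?_⟩
  simp only
  rw [if_neg (by omega), List.mem_flatMap]
  refine ⟨S.p, List.mem_range.2 ?_, ?_⟩
  · have h1 := Int.le_of_dvd (by rcases S.hδ with h | h <;> rw [h] <;> omega) S.hdp
    rcases S.hδ with h | h <;> rw [h] at h1 <;> omega
  rw [if_pos (by
    simp only [Bool.and_eq_true, decide_eq_true_iff, beq_iff_eq]
    exact ⟨⟨S.hp5, Int.emod_eq_zero_of_dvd S.hdp⟩, primeTest_of_prime hp⟩), List.mem_flatMap]
  refine ⟨S.r, hr, ?_⟩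
  have hcen : ∀ q : ℕ, q.Prime → centralTest q S.p S.d S.δ S.r (S.p * S.r ^ 2 * S.d * S.d0) = true := by
    intro q hq
    rw [← hcard, centralTest]
    simp only [Bool.or_eq_true, beq_iff_eq, bne_iff_ne, ne_eq, List.any_eq_true, List.mem_range,
      Bool.and_eq_true, decide_eq_true_iff]
    by_cases h1 : q = S.p
    · exact Or.inl (Or.inl h1)
    by_cases h2 : n % q = 0
    · obtain ⟨w, hw0, hw2, hw3, hw4, hw5, hw6⟩ := S.central_facts hq h1 (Nat.dvd_of_mod_eq_zero h2)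
      obtain ⟨k, -, hk⟩ := (Nat.dvd_prime_pow hq).1 (Nat.gcd_dvd_right n (q ^ 40))
      refine Or.inr ⟨w, hw2, ⟨⟨⟨⟨hw0, hw3⟩, Nat.mod_eq_zero_of_dvd hw4⟩, Nat.mod_eq_zero_of_dvd ?_⟩, hw6⟩⟩
      rw [hk]
      exact hw5 k (hk ▸ Nat.gcd_dvd_left _ _)
    · exact Or.inl (Or.inr h2)
  rw [if_pos (by rw [hcen 3 Nat.prime_three, hcen 5 (by norm_num), hcen 7 (by norm_num)]; rfl),
    List.mem_flatMap]
  refine ⟨w, List.mem_range.2 (by omega), ?_⟩
  rw [if_pos, List.mem_singleton]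
  rw [← hcard, involTest]
  simp only [Bool.and_eq_true, beq_iff_eq, bne_iff_ne, ne_eq, decide_eq_true_iff]
  refine ⟨⟨⟨⟨⟨⟨by omega, ?_⟩, ?_⟩, ?_⟩, ?_⟩, ?_⟩, ?_⟩
  · have := S.four
    omega
  · exact Nat.mod_eq_zero_of_dvd (hct ▸ Subgroup.card_subgroup_dvd_card _)
  · exact fun h => S.cen_coprime S.t ht1 htp (hct ▸ Nat.dvd_of_mod_eq_zero h)
  · obtain ⟨k, -, hk⟩ := (Nat.dvd_prime_pow Nat.prime_two).1 (Nat.gcd_dvd_right n (2 ^ 40))
    refine Nat.mod_eq_zero_of_dvd ?_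
    rw [hk, ← hct]
    exact (pow_dvd_pow 2 ((Nat.prime_two.pow_dvd_iff_le_factorization Nat.card_pos.ne').1
      (hk ▸ Nat.gcd_dvd_left _ _))).trans S.two_part_dvd_cen_t
  · exact hct ▸ S.norm_bound htp hw
  · rw [← hct]
    refine lt_of_le_of_ne (Subgroup.card_le_card_group _) fun h => ?_
    have htop := Subgroup.eq_top_of_card_eq _ h
    have hc : S.t ∈ Subgroup.center G := Subgroup.mem_center_iff.2 fun g =>
      mem_centralizer_singleton_iff.1 (htop ▸ Subgroup.mem_top g)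
    rcases IsSimpleGroup.eq_bot_or_eq_top_of_normal (Subgroup.center G) inferInstance with hb | ht'
    · exact ht1 (Subgroup.mem_bot.1 (hb ▸ hc))
    · exact S.hna ⟨⟨fun u v => Subgroup.mem_center_iff.1 (ht' ▸ Subgroup.mem_top v) u⟩⟩

end Cfsg.Agent.Block.OnePrime
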