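import Cfsg.Agent.Lib.Block.OnePrime.Facts
import Cfsg.Agent.Lib.Block.OrderPrime

/-!
The case `r = 1` of `OnePrime.Setup`: the character takes the values `0`, `±1` away from the identity and
vanishes on exactly `d ^ 2 - 1` elements.
-/

namespace Cfsg.Agent.Block.OnePrime

open scoped ComplexConjugate
open Cfsg Cfsg.Agent.Block Cfsg.Agent.Char Subgroup

set_option linter.style.haveILetI false

universe u

variable {G : Type u} [Group G] [Finite G] (S : Setup G)

theorem Setup.d0_pos : 0 < S.d0 := by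
  have h0 := S.hd0
  have := S.hd2
  rcases S.hδ with h | h <;> rw [h] at h0 <;> omega

theorem Setup.not_dvd_d : ¬ S.p ∣ S.d := fun h => by
  have h1 := dvd_sub (Int.natCast_dvd_natCast.2 h) S.hdp
  rw [sub_sub_cancel] at h1
  have h2 := Int.natCast_dvd.1 h1
  have := S.hp5
  rcases S.hδ with e | e <;> rw [e] at h2 <;> norm_num at h2 <;> omega

theorem Setup.not_dvd_d0 : ¬ S.p ∣ S.d0 := fun h => by
  have h1 := dvd_sub (Int.natCast_dvd_natCast.2 h) S.hdp
  rw [S.hd0, show (S.d : ℤ) + S.δ - (S.d - S.δ) = 2 * S.δ by ring] at h1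
  have h2 := Int.natCast_dvd.1 h1
  have := S.hp5
  rcases S.hδ with e | e <;> rw [e] at h2 <;> norm_num at h2 <;>
    have := Nat.le_of_dvd two_pos h2 <;> omega

theorem Setup.not_sq_dvd_card : ¬ S.p ^ 2 ∣ Nat.card G := fun h => by
  rw [S.card, sq, mul_assoc, mul_assoc, Nat.mul_dvd_mul_iff_left S.hp.pos] at h
  rcases S.hp.dvd_mul.1 h with h' | h'
  · have := S.hr
    rw [Nat.mod_eq_zero_of_dvd h'] at this
    omega
  rcases S.hp.dvd_mul.1 h' with h'' | h''
  · exact S.not_dvd_d h''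
  · exact S.not_dvd_d0 h''

/-- Off the `p`-regular elements the value is `±1`. -/
theorem Setup.sq_a_singular [IsSimpleGroup G] {g : G} (hg : S.p ∣ orderOf g) : S.a g ^ 2 = 1 := by
  classical
  haveI := Fintype.ofFinite G
  haveI := Fact.mk S.hp
  have hp5 := S.hp5
  obtain ⟨u, hu, hgu⟩ : ∃ u : G, orderOf u = S.p ∧ Commute g u :=
    ⟨g ^ (orderOf g / S.p), orderOf_pow_orderOf_div (orderOf_pos g).ne' hg, Commute.self_pow g _⟩
  have hu1 : u ≠ 1 := fun h => by rw [h, orderOf_one] at hu; omega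
  -- the centralizer of `u` has order `p`
  have hCu : ∀ y ∈ centralizer ({u} : Set G), orderOf y ∣ S.p := by
    intro y hy
    have hreg : ∀ z ∈ centralizer ({u} : Set G), ¬ S.p ∣ orderOf z → z = 1 := by
      intro z hz hzp
      by_contra hz1
      refine S.cen_coprime z hz1 hzp ?_
      rw [← hu]
      exact Subgroup.orderOf_dvd_natCard _
        (mem_centralizer_singleton_iff.2 (mem_centralizer_singleton_iff.1 hz).symm)
    by_cases h : S.p ∣ orderOf y
    · have h1 : y ^ S.p = 1 := by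
        refine hreg _ (pow_mem hy _) ?_
        rw [orderOf_pow' _ S.hp.ne_zero, Nat.gcd_eq_right h]
        intro h2
        refine S.not_sq_dvd_card (((sq S.p).symm ▸ ?_ : S.p ^ 2 ∣ orderOf y).trans (orderOf_dvd_natCard y))
        have h3 := Nat.mul_dvd_mul_left S.p h2
        rwa [Nat.mul_div_cancel' h] at h3
      exact orderOf_dvd_of_pow_eq_one h1
    · rw [hreg y hy h, orderOf_one]; exact one_dvd _
  have hcard : Nat.card (centralizer ({u} : Set G)) = S.p := by
    have hP : IsPGroup S.p (centralizer ({u} : Set G)) := fun y =>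
      ⟨1, by rw [pow_one, ← orderOf_dvd_iff_pow_eq_one, ← Subgroup.orderOf_coe]; exact hCu y y.2⟩
    obtain ⟨k, hk⟩ := IsPGroup.iff_card.1 hP
    have h1 : k ≤ 1 := by
      by_contra hk1
      exact S.not_sq_dvd_card ((pow_dvd_pow S.p (show 2 ≤ k by omega)).trans
        (hk ▸ Subgroup.card_subgroup_dvd_card _))
    have h2 : k ≠ 0 := fun h => by
      have h3 := Subgroup.orderOf_dvd_natCard _
        (mem_centralizer_singleton_iff.2 rfl : u ∈ centralizer ({u} : Set G))
      rw [hu, hk, h, pow_zero] at h3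
      exact S.hp.not_dvd_one h3
    rw [hk, show k = 1 by omega, pow_one]
  have hgord : orderOf g = S.p := (((Nat.dvd_prime S.hp).1
    (hCu g (mem_centralizer_singleton_iff.2 hgu.eq))).resolve_left fun h => by
      rw [h] at hg; exact S.hp.not_dvd_one hg)
  have hgC : Nat.card (centralizer ({g} : Set G)) ≤ S.p := by
    refine (Subgroup.card_le_of_le ?_).trans hcard.le
    intro y hy
    obtain ⟨k, hk⟩ : u ∈ Submonoid.powers g := by
      rw [mem_powers_iff_mem_zpowers]
      have h1 : zpowers g ≤ centralizer ({u} : Set G) :=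
        zpowers_le.2 (mem_centralizer_singleton_iff.2 hgu.eq)
      rw [Subgroup.eq_of_le_of_card_ge h1 (by rw [hcard, Nat.card_zpowers, hgord])]
      exact mem_centralizer_singleton_iff.2 rfl
    rw [mem_centralizer_singleton_iff, ← hk]
    exact (Commute.pow_right (show Commute y g from mem_centralizer_singleton_iff.1 hy) k).eq
  have hne : S.χ ≠ trivialIrr G := fun e => by
    have h1 := S.ha 1
    rw [S.hd, e] at h1
    simp only [trivialIrr] at h1
    have h2 : (1 : ℤ) = (S.d : ℤ) := by exact_mod_cast h1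
    have := S.hd2
    omega
  have h := OrdP.normSq_column {trivialIrr G, S.χ} g
  rw [Finset.sum_pair (Ne.symm hne), S.ha] at h
  simp only [trivialIrr, map_one] at h
  rw [← Complex.ofReal_intCast, Complex.normSq_ofReal] at h
  have hle : 1 + S.a g ^ 2 ≤ (S.p : ℤ) := by
    have h2 : (1 : ℝ) + (S.a g : ℝ) * S.a g ≤ (S.p : ℝ) := h.trans (by exact_mod_cast hgC)
    rw [sq]
    exact_mod_cast h2
  have hmod : S.a g ≡ (S.d : ℤ) [ZMOD S.p] :=
    S.a_congr_d S.hp (n := 1) (by rw [pow_one, ← hgord]; exact pow_orderOf_eq_one g)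
  obtain ⟨k, hk⟩ : (S.p : ℤ) ∣ S.δ - S.a g := by
    have h1 := dvd_sub (Int.modEq_iff_dvd.1 hmod) S.hdp
    rwa [show (S.d : ℤ) - S.a g - (S.d - S.δ) = S.δ - S.a g by ring] at h1
  rcases eq_or_ne k 0 with rfl | hk0
  · rw [show S.a g = S.δ by linarith]
    rcases S.hδ with e | e <;> rw [e] <;> norm_num
  · exfalso
    have hp' : (5 : ℤ) ≤ S.p := by exact_mod_cast hp5
    rw [show S.a g = S.δ - S.p * k by linarith] at hle
    have hm : (S.p : ℤ) ≤ S.p * k ∨ S.p * k ≤ -(S.p : ℤ) := by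
      rcases lt_or_gt_of_ne hk0 with hneg | hpos
      · exact Or.inr (by nlinarith)
      · exact Or.inl (by nlinarith)
    generalize (S.p : ℤ) * k = m at hle hm
    rcases S.hδ with e | e <;> rw [e] at hle <;> rcases hm with hm | hm <;> nlinarith

theorem Setup.card_of_one (hr : S.r = 1) : Nat.card G = S.p * S.d * S.d0 := by
  rw [S.card, hr]; ring

/-- For `r = 1` a nontrivial `p`-regular element is constant of one of two kinds. -/
theorem Setup.a_one_cases (hr : S.r = 1) {x : G} (hx : x ≠ 1) (hxp : ¬ S.p ∣ orderOf x) :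
    (S.a x = 0 ∧ ∀ q : ℕ, q.Prime → q ∣ orderOf x → q ∣ S.d) ∨
      (S.a x = -S.δ ∧ ∀ q : ℕ, q.Prime → q ∣ orderOf x → q ∣ S.d0) := by
  have key : ∀ q : ℕ, q.Prime → q ∣ orderOf x →
      (q ∣ S.d ∧ S.a x = 0) ∨ (q ∣ S.d0 ∧ S.a x = -S.δ) := by
    intro q hq hqx
    have hqr : ¬ q ∣ S.r := hr ▸ hq.not_dvd_one
    have h := hqx.trans (orderOf_dvd_natCard x)
    rw [S.card_of_one hr] at h
    rcases hq.dvd_mul.1 h with h | h
    · rcases hq.dvd_mul.1 h with h | h
      · exact absurd ((Nat.prime_dvd_prime_iff_eq hq S.hp).1 h ▸ hqx) hxp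
      · exact Or.inl ⟨h, S.const_d q hq hqr h x hxp hqx⟩
    · exact Or.inr ⟨h, S.const_d0 q hq hqr h x hxp hqx⟩
  obtain ⟨q, hq, hqx⟩ := Nat.exists_prime_and_dvd
    (show orderOf x ≠ 1 from fun h => hx (orderOf_eq_one_iff.1 h))
  have hδ0 : S.δ ≠ 0 := by rcases S.hδ with e | e <;> rw [e] <;> norm_num
  rcases key q hq hqx with ⟨-, ha⟩ | ⟨-, ha⟩
  · refine Or.inl ⟨ha, fun l hl hlx => ?_⟩
    rcases key l hl hlx with h | h
    · exact h.1
    · rw [ha] at h; exact absurd (neg_eq_zero.1 h.2.symm) hδ0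
  · refine Or.inr ⟨ha, fun l hl hlx => ?_⟩
    rcases key l hl hlx with h | h
    · rw [ha] at h; exact absurd (neg_eq_zero.1 h.2) hδ0
    · exact h.1

theorem Setup.sq_a_of_ne [IsSimpleGroup G] (hr : S.r = 1) {g : G} (hg : g ≠ 1) (h0 : S.a g ≠ 0) :
    S.a g ^ 2 = 1 := by
  by_cases hp : S.p ∣ orderOf g
  · exact S.sq_a_singular hp
  rcases S.a_one_cases hr hg hp with ⟨h, -⟩ | ⟨h, -⟩
  · exact absurd h h0
  · rw [h]; rcases S.hδ with e | e <;> rw [e] <;> norm_num

/-- The number of zeros of the character. -/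
theorem Setup.card_zero [IsSimpleGroup G] (hr : S.r = 1) :
    Nat.card {g : G // S.a g = 0} + 1 = S.d ^ 2 := by
  classical
  haveI := Fintype.ofFinite G
  have h := classInner_self_irr S.χ.2
  rw [classInner, inv_mul_eq_one₀ (Nat.cast_ne_zero.2 Nat.card_pos.ne')] at h
  simp only [S.ha, map_intCast] at h
  have h1 : (∑ g : G, S.a g * S.a g) = (Nat.card G : ℤ) := by exact_mod_cast h.symm
  have h2 : ∀ g ∈ (Finset.univ : Finset G).erase 1,
      S.a g * S.a g = 1 - if S.a g = 0 then (1 : ℤ) else 0 := by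
    intro g hg
    by_cases h0 : S.a g = 0
    · simp [h0]
    · rw [if_neg h0, sub_zero, ← sq]; exact S.sq_a_of_ne hr (Finset.ne_of_mem_erase hg) h0
  rw [← Finset.add_sum_erase _ _ (Finset.mem_univ (1 : G)), S.hd, Finset.sum_congr rfl h2,
    Finset.sum_sub_distrib, Finset.sum_const, Finset.card_erase_of_mem (Finset.mem_univ _),
    Finset.card_univ, nsmul_eq_mul, mul_one, Finset.sum_boole, ← Nat.card_eq_fintype_card] at h1
  have h3 : ((Finset.univ : Finset G).erase 1).filter (fun g => S.a g = 0) =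
      Finset.univ.filter fun g => S.a g = 0 := by
    ext g
    simp only [Finset.mem_filter, Finset.mem_erase, Finset.mem_univ, and_true, true_and,
      and_iff_right_iff_imp]
    intro h0 h1'
    rw [h1', S.hd] at h0
    have := S.hd2
    omega
  rw [h3, ← Fintype.card_subtype, ← Nat.card_eq_fintype_card] at h1
  have := Nat.card_pos (α := G)
  rw [sq]
  have h4 : ((Nat.card {g : G // S.a g = 0} + 1 : ℕ) : ℤ) = ((S.d * S.d : ℕ) : ℤ) := by
    push_cast [Nat.cast_sub (show 1 ≤ Nat.card G from this)] at h1 ⊢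
    linarith
  exact_mod_cast h4

/-- A zero of the character has centralizer order dividing `d`. -/
theorem Setup.zero_cen [IsSimpleGroup G] (hr : S.r = 1) {x : G} (h0 : S.a x = 0) :
    x ≠ 1 ∧ ¬ S.p ∣ orderOf x ∧ Nat.card (centralizer ({x} : Set G)) ∣ S.d := by
  have hx : x ≠ 1 := fun h => by
    rw [h, S.hd] at h0
    have := S.hd2
    omega
  have hxp : ¬ S.p ∣ orderOf x := fun h => by simpa [h0] using S.sq_a_singular h
  refine ⟨hx, hxp, ?_⟩
  have h := S.cen_dvd x hx hxp
  rw [h0, hr, sub_zero, Nat.cast_one, one_mul] at h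
  exact_mod_cast h

end Cfsg.Agent.Block.OnePrime
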