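import Cfsg.Agent.Lib.Block.OnePrime.Dihedral
import Cfsg.Agent.Lib.Block.OnePrime.RankTwoRows
import Cfsg.Agent.Lib.Block.OnePrime.SylowPrime
import Cfsg.Agent.Lib.Block.OnePrime.UnitR
import Cfsg.Agent.Lib.Block.OnePrime.Survivors
import Cfsg.Agent.S0206
import Cfsg.Agent.S0514
import Cfsg.Agent.S3214

/-!
The rows with `r > 1` that fall to a four-group, to a Sylow subgroup of prime order, or to the recognition of
groups with small Sylow 2-subgroups.
-/

namespace Cfsg.Agent.Block.OnePrime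

open Cfsg Subgroup

set_option linter.style.haveILetI false

universe u

/-- `q (q - 1) (q + 1)` is neither `n` for even `q` nor `2 n` for odd `q`. -/
def pslFree (n : ℕ) : Bool :=
  [(n, 1), (2 * n, 0)].all fun m => (List.range 700).any fun q =>
    (decide (q * ((q - 1) * (q + 1)) < m.1) || q * ((q - 1) * (q + 1)) == m.1 && q % 2 == m.2) &&
      decide (m.1 < (q + 1) * (q * (q + 2)))

theorem cube_mono {a b : ℕ} (h : a ≤ b) : a * ((a - 1) * (a + 1)) ≤ b * ((b - 1) * (b + 1)) :=
  Nat.mul_le_mul h (Nat.mul_le_mul (Nat.sub_le_sub_right h 1) (Nat.add_le_add_right h 1))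

theorem card_psl_three_four {F : Type} [Field F] [Fintype F] (hq : Fintype.card F = 4) :
    Nat.card (Matrix.ProjectiveSpecialLinearGroup (Fin 3) F) = 20160 := by
  classical
  have h := Classical.natCard_GL_eq_SL_mul (F := F) 3 (by norm_num)
  have h2 := Classical.natCard_PSL_mul (F := F) 3 (by norm_num)
  rw [Matrix.card_GL_field, Fin.prod_univ_three, Classical.natCard_units_field, hq] at h
  rw [Classical.natCard_units_field, hq] at h2
  norm_num at h h2
  simp only [← Nat.card_eq_fintype_card] at h h2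
  omega

variable {G : Type u} [Group G] [Finite G]

theorem not_psl {n : ℕ} (hn : pslFree n = true) (hG : Nat.card G = n) {F : Type*} [Field F] [Fintype F]
    (e : Nonempty (G ≃* Matrix.ProjectiveSpecialLinearGroup (Fin 2) F)) : False := by
  obtain ⟨e⟩ := e
  have h := Dickson.card_psl (F := F)
  rw [← Nat.card_congr e.toEquiv, hG] at h
  simp only [pslFree, List.all_eq_true, List.mem_cons, List.not_mem_nil, or_false, forall_eq_or_imp,
    forall_eq, List.any_eq_true, Bool.and_eq_true, Bool.or_eq_true, decide_eq_true_iff, beq_iff_eq] at hn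
  set q := Fintype.card F
  have key : ∀ m π, q % 2 ≠ π → (∃ a, a ∈ List.range 700 ∧ (a * ((a - 1) * (a + 1)) < m ∨
      a * ((a - 1) * (a + 1)) = m ∧ a % 2 = π) ∧ m < (a + 1) * (a * (a + 2))) →
      q * ((q - 1) * (q + 1)) ≠ m := by
    rintro m π hπ ⟨a, -, h1, h2⟩ he
    rcases Nat.lt_or_ge a q with hlt | hge
    · have h3 := cube_mono hlt
      rw [Nat.succ_eq_add_one, Nat.add_sub_cancel, show a + 1 + 1 = a + 2 by omega] at h3
      omega
    · rcases h1 with h1 | ⟨h1, hpar⟩
      · have := cube_mono hge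
        omega
      rcases eq_or_lt_of_le hge with rfl | hlt
      · exact hπ hpar
      · have hq1 := Fintype.one_lt_card (α := F)
        have : q * ((q - 1) * (q + 1)) < a * ((a - 1) * (a + 1)) :=
          Nat.mul_lt_mul_of_lt_of_le hlt (Nat.mul_le_mul (by omega) (by omega))
            (Nat.mul_pos (by omega) (by omega))
        omega
  rcases Dickson.del_cases F with ⟨hd, he⟩ | ⟨hd, ho⟩
  · rw [hd, mul_one] at h
    exact key n 1 (by rw [Nat.even_iff.1 he]; norm_num) hn.1 h.symm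
  · rw [hd, mul_comm] at h
    exact key (2 * n) 0 (by rw [Nat.odd_iff.1 ho]; norm_num) hn.2 h.symm

variable [IsSimpleGroup G]

theorem no_abelian_sylow (hna : ¬ IsMulCommutative G) {n : ℕ} (hn : pslFree n = true)
    (hG : Nat.card G = n) (h39 : n % 3 ^ 9 ≠ 0) (hJ : n ≠ 175560) (T : Sylow 2 G)
    (hT : IsMulCommutative (T : Subgroup G)) : False := by
  rcases Cfsg.Agent.S0506.result hna T hT with ⟨a, -, F, i, j, -, e⟩ | ⟨F, i, j, -, e⟩ |
    ⟨-, m, hm1, hm⟩ | ⟨-, h⟩
  · exact not_psl hn hG e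
  · exact not_psl hn hG e
  · refine h39 (Nat.mod_eq_zero_of_dvd ?_)
    rw [← hG, hm, mul_assoc, ← pow_mul]
    exact (pow_dvd_pow 3 (by omega)).mul_right _
  · exact hJ (hG.symm.trans h)

variable (S : Setup G)

omit [IsSimpleGroup G] in
/-- The four-group inequality. -/
theorem Setup.four_le {s e : G} (hs : orderOf s = 4) (hst : s ^ 2 = S.t) (he : orderOf e = 2)
    (hes : e * s * e⁻¹ = s⁻¹) : 0 ≤ (S.d : ℤ) + 3 * S.a S.t := by
  have hte : Commute S.t e := by
    have h2 : e * S.t * e⁻¹ = S.t := by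
      rw [← hst, ← conj_pow, hes, inv_pow, inv_eq_iff_mul_eq_one, ← pow_add]
      rw [show (2 : ℕ) + 2 = orderOf s by rw [hs]]; exact pow_orderOf_eq_one s
    exact (mul_inv_eq_iff_eq_mul.1 h2).symm
  have hne : e ≠ S.t := by
    intro h
    rw [h, ← hst, show s ^ 2 * s * (s ^ 2)⁻¹ = s by group] at hes
    have h1 : s ^ 2 = 1 := by rw [sq]; exact mul_eq_one_iff_eq_inv.2 hes
    have h4 := orderOf_dvd_of_pow_eq_one h1
    rw [hs] at h4
    norm_num at h4
  have h0 : zpowers S.t ⊓ zpowers e = ⊥ := by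
    rw [Subgroup.eq_bot_iff_forall]
    rintro x ⟨⟨i, hi⟩, ⟨j, hj⟩⟩
    simp only at hi hj
    rcases Int.even_or_odd i with ⟨i', rfl⟩ | ⟨i', rfl⟩
    · rw [← hi, ← two_mul, zpow_mul, zpow_two, Invol.mul_self_of_orderOf_two S.ht, one_zpow]
    rw [zpow_add_one, zpow_mul, zpow_two, Invol.mul_self_of_orderOf_two S.ht, one_zpow, one_mul] at hi
    rcases Int.even_or_odd j with ⟨j', rfl⟩ | ⟨j', rfl⟩
    · rw [← hj, ← two_mul, zpow_mul, zpow_two, Invol.mul_self_of_orderOf_two he, one_zpow]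
    rw [zpow_add_one, zpow_mul, zpow_two, Invol.mul_self_of_orderOf_two he, one_zpow, one_mul] at hj
    exact absurd (hj.trans hi.symm) hne
  obtain ⟨Q, hQ, hQm⟩ := exists_pair hte h0
  haveI : Fintype Q := Fintype.ofFinite Q
  have h := S.sum_elem Q (by
    intro g hg
    obtain ⟨i, j, rfl⟩ := (hQm g).1 hg
    rw [(hte.pow_pow i j).mul_pow, ← pow_mul, ← pow_mul, mul_comm i, mul_comm j, pow_mul, pow_mul, sq, sq,
      Invol.mul_self_of_orderOf_two S.ht, Invol.mul_self_of_orderOf_two he, one_pow, one_pow, one_mul])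
  rw [S.sum_eq_card_mul_fix Q, hQ, S.ht, he] at h
  have h2 : (0 : ℤ) ≤ (S.fix Q : ℤ) := Int.natCast_nonneg _
  push_cast at h
  linarith

/-- A row with `d + 3 v < 0` has no four-group. -/
theorem Setup.four_false {n : ℕ} (hG : Nat.card G = n) (h16 : n % 16 = 0) (h3 : n % 3 = 0)
    (hfree : BenderFree n) (hneg : (S.d : ℤ) + 3 * S.a S.t < 0) : False := by
  obtain ⟨s, e, hs, hst, he, hes⟩ := S.exists_dihedral (hG ▸ Nat.dvd_of_mod_eq_zero h16)
    (hG ▸ Nat.dvd_of_mod_eq_zero h3) (hG.symm ▸ hfree)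
  have := S.four_le hs hst he hes
  omega

include S in
/-- A Sylow 2-subgroup of order eight is dihedral, and then the group is recognized by its order. -/
theorem Setup.eight_false {n : ℕ} (hG : Nat.card G = n) (h8 : n % 16 = 8) (h3 : n % 3 = 0)
    (hfree : BenderFree n) (hn : pslFree n = true) (h39 : n % 3 ^ 9 ≠ 0) (hJ : n ≠ 175560)
    (hA : n ≠ 2520) (hL : n ≠ 20160) : False := by
  haveI : Fact (Nat.Prime 2) := ⟨Nat.prime_two⟩
  obtain ⟨s, e, hs, -, he, hes⟩ := S.exists_dihedral_of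
    (fun T hT => no_abelian_sylow S.hna hn hG h39 hJ T hT)
    (hG ▸ Nat.dvd_of_mod_eq_zero h3) (hG.symm ▸ hfree)
  have hes2 : (e * s) * (e * s) = 1 := by
    calc (e * s) * (e * s) = e * s * e⁻¹ * (e * e) * s := by group
      _ = 1 := by rw [hes, Invol.mul_self_of_orderOf_two he, mul_one, inv_mul_cancel]
  have hne : e * s ≠ 1 := fun h => by
    have h1 : s = e⁻¹ := eq_inv_of_mul_eq_one_right h
    rw [h1, orderOf_inv, he] at hs
    omega
  have hne' : e ≠ e * s := fun h => by
    have h1 : s = 1 := mul_left_cancel (a := e) (by rw [mul_one]; exact h.symm)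
    rw [h1, orderOf_one] at hs
    omega
  obtain ⟨φ⟩ := Cfsg.Agent.S0206.result e (e * s) he (orderOf_eq_prime (by rw [sq, hes2]) hne) hne'
  have hD : Nat.card (closure ({e, e * s} : Set G)) = 2 ^ 3 := by
    rw [Nat.card_congr φ.toEquiv, DihedralGroup.nat_card, ← mul_assoc,
      Invol.mul_self_of_orderOf_two he, one_mul, hs]
    rfl
  have hfac : 2 ^ (Nat.card G).factorization 2 = 2 ^ 3 :=
    two_part_eq (e := 3) (o := n / 8) (by rw [hG]; omega) (Nat.odd_iff.2 (by omega))
  let T : Sylow 2 G := Sylow.ofCard (closure ({e, e * s} : Set G)) (hD.trans hfac.symm)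
  have hord : orderOf (e * (e * s)) = 4 := by rw [← mul_assoc, Invol.mul_self_of_orderOf_two he, one_mul, hs]
  have hI : ∀ t : G, orderOf t = 2 → HasNormalPComplement 2 (centralizer ({t} : Set G)) := by
    intro t ht
    obtain ⟨N, hN, hodd, k, hk⟩ := Cfsg.Agent.S0514.result T (orderOf (e * (e * s))) (by rw [hord]; norm_num)
      ⟨φ⟩ t ht
    exact Transfer.hasNormalPComplement_iff_exists.2
      ⟨N, hN, fun h => (Nat.not_even_iff_odd.2 hodd) (even_iff_two_dvd.2 h), k, hk⟩
  rcases Cfsg.Agent.S3214.result S.hna hI with ⟨F, i, j, -, ψ⟩ | h | ⟨⟨ψ⟩⟩ | ⟨F, i, j, hF, ⟨ψ⟩⟩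
  · exact not_psl hn hG ψ
  · exact Spor.Gold.Fam.card_suzuki h (hG ▸ Nat.dvd_of_mod_eq_zero h3)
  · apply hA
    rw [← hG, Nat.card_congr ψ.toEquiv, nat_card_alternatingGroup, Nat.card_fin]
    norm_num [Nat.factorial]
  · exact hL (hG.symm.trans ((Nat.card_congr ψ.toEquiv).trans (card_psl_three_four hF)))

include S in
/-- A Sylow 2-subgroup of order four is abelian. -/
theorem Setup.four_part_false {n : ℕ} (hG : Nat.card G = n) (h4 : n % 8 = 4) (hn : pslFree n = true)
    (h39 : n % 3 ^ 9 ≠ 0) (hJ : n ≠ 175560) : False := by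
  haveI : Fact (Nat.Prime 2) := ⟨Nat.prime_two⟩
  obtain ⟨T⟩ : Nonempty (Sylow 2 G) := inferInstance
  refine no_abelian_sylow S.hna hn hG h39 hJ T
    (IsPGroup.isMulCommutative_of_card_eq_prime_sq (p := 2) ?_)
  rw [T.card_eq_multiplicity, two_part_eq (e := 2) (o := n / 4) (by rw [hG]; omega) (Nat.odd_iff.2 (by omega))]

/-- No centralizer order is possible for a Sylow subgroup of prime order. -/
def primeOneTest (n M q : ℕ) (nb : ℤ) : Bool :=
  (List.range (M + 1)).all fun c =>
    !(M % c == 0 && n % c == 0 && c % q == 0 && decide (nb ≤ (c : ℤ)) && c % 2 == 1) ||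
      (List.range q).all fun e =>
        !(decide (1 < e) && (q - 1) % e == 0 && n % (c * e) == 0 && n / (c * e) % q == 1)

/-- A prime of exponent one with constant value `k` incompatible with `χ(t)`. -/
theorem Setup.prime_one_false {n m q M : ℕ} (hG : Nat.card G = n) (hq : q.Prime) (hq2 : q ≠ 2) (hqp : q ≠ S.p)
    (hn : n = q * m) (hm : ¬ q ∣ m) {k : ℤ}
    (hk : ∀ g : G, ¬ S.p ∣ orderOf g → q ∣ orderOf g → S.a g = k)
    (hqv : ¬ (q : ℤ) ∣ k - S.a S.t) (hM : (M : ℤ) = S.r * ((S.d : ℤ) - k))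
    (htest : primeOneTest n M q (1 + k ^ 2 + (((S.p - 1) / 2 : ℕ) : ℤ) * (1 + S.δ * k) ^ 2) = true) :
    False := by
  haveI := Fact.mk hq
  obtain ⟨y, hy⟩ := exists_prime_orderOf_dvd_card' (G := G) q (hG.symm ▸ hn ▸ dvd_mul_right q m)
  have hy1 : y ≠ 1 := fun h => by rw [h, orderOf_one] at hy; exact hq.ne_one hy.symm
  have hyq : y ^ q ^ 1 = 1 := by rw [pow_one, ← hy]; exact pow_orderOf_eq_one y
  have hyp := S.regular hq hqp hyq
  have hay := hk y hyp hy.symm.dvd
  obtain ⟨c, hc⟩ : ∃ c, c = Nat.card (centralizer ({y} : Set G)) := ⟨_, rfl⟩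
  have hcM : c ∣ M := by
    have h := S.cen_dvd y hy1 hyp
    rw [hay, ← hM, ← hc] at h
    exact_mod_cast h
  have hcn : c ∣ n := hc ▸ hG ▸ Subgroup.card_subgroup_dvd_card _
  have hqc : q ∣ c := hc ▸ hy ▸ Subgroup.orderOf_dvd_natCard _ (mem_centralizer_singleton_iff.2 rfl)
  have hnb := S.norm_le y hyp
  rw [hay, ← hc] at hnb
  -- the centralizer has odd order
  have hodd : c % 2 = 1 := by
    by_contra h2
    obtain ⟨⟨u, huC⟩, hu⟩ := exists_prime_orderOf_dvd_card' (G := centralizer ({y} : Set G)) 2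
      (hc ▸ Nat.dvd_of_mod_eq_zero (by omega))
    rw [Subgroup.orderOf_mk] at hu
    have hyu : Commute y u := (mem_centralizer_singleton_iff.1 huC).symm
    have hcop : (orderOf y).Coprime (orderOf u) := by
      rw [hy, hu, Nat.coprime_primes hq Nat.prime_two]
      exact hq2
    have h1 := hk (y * u) (S.regular_of_commute hu ((hyu.mul_left (Commute.refl u))))
      (by rw [hyu.orderOf_mul_eq_mul_orderOf_of_coprime hcop, hy]; exact dvd_mul_right q _)
    have h2' := S.a_congr_mul (n := 1) hq hyu hyq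
    rw [h1, S.a_invol hu] at h2'
    exact hqv (Int.modEq_iff_dvd.1 h2'.symm)
  -- the normalizer
  obtain ⟨e, he, hN⟩ := card_normalizer hy
  rw [← hc] at hN
  have hidx := (normalizer ((zpowers y : Subgroup G) : Set G)).card_mul_index
  have hmod := index_normalizer (hG.trans hn) hm hy
  rw [hN, hG] at hidx
  have hc0 : 0 < c := hc ▸ Nat.card_pos
  have he1 : 1 < e := by
    rcases Nat.lt_or_ge 1 e with h | h
    · exact h
    exfalso
    obtain ⟨K, hK, hKq⟩ := exists_complement (hG.trans hn) hm hy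
      (by rw [hN, ← hc]; exact (Nat.mul_le_mul_left c h).trans (mul_one c).le)
    rcases IsSimpleGroup.eq_bot_or_eq_top_of_normal K hK with rfl | rfl
    · rw [Subgroup.index_bot, hG, hn] at hKq
      have : m = 1 := Nat.eq_of_mul_eq_mul_left hq.pos (by rw [hKq, mul_one])
      have h2 : 2 ∣ n := hG ▸ S.ht ▸ orderOf_dvd_natCard S.t
      rw [hn, this, mul_one] at h2
      have := (Nat.prime_dvd_prime_iff_eq Nat.prime_two hq).1 h2
      exact hq2 this.symm
    · rw [Subgroup.index_top] at hKq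
      exact hq.ne_one hKq.symm
  have heq : e < q := lt_of_le_of_lt (Nat.le_of_dvd (by have := hq.two_le; omega) he)
    (Nat.sub_lt hq.pos one_pos)
  simp only [primeOneTest, List.all_eq_true, List.mem_range, Bool.or_eq_true, Bool.not_eq_true',
    Bool.and_eq_false_iff, beq_eq_false_iff_ne, ne_eq, decide_eq_false_iff_not] at htest
  have hM0 : M ≠ 0 := by
    intro h
    rw [h, Nat.cast_zero] at hM
    have h1 := S.lt y hy1
    rw [hay] at h1
    have h2 : (0 : ℤ) < S.r := by exact_mod_cast S.r_pos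
    have := mul_pos h2 (sub_pos.2 h1)
    omega
  rcases htest c (Nat.lt_succ_of_le (Nat.le_of_dvd (Nat.pos_of_ne_zero hM0) hcM)) with h | h
  · rcases h with (((h | h) | h) | h) | h
    · exact h (Nat.mod_eq_zero_of_dvd hcM)
    · exact h (Nat.mod_eq_zero_of_dvd hcn)
    · exact h (Nat.mod_eq_zero_of_dvd hqc)
    · exact h hnb
    · exact h hodd
  · rcases h e heq with ((h | h) | h) | h
    · exact h he1
    · exact h (Nat.mod_eq_zero_of_dvd he)
    · exact h (Nat.mod_eq_zero_of_dvd ⟨_, hidx.symm⟩)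
    · refine h ?_
      rw [← hidx, Nat.mul_div_cancel_left _ (Nat.mul_pos hc0 (by omega))]
      exact hmod

end Cfsg.Agent.Block.OnePrime
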