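import Cfsg.Agent.Lib.Block.OnePrime.Facts

/-!
Integrality of twisted averages of a character and monotonicity of the norm under restriction.
-/

namespace Cfsg.Agent.Block.OnePrime

open Cfsg Cfsg.Agent.Char Module

set_option linter.style.haveILetI false
set_option linter.unusedSectionVars false

universe u

section Operators

variable {V : Type*} [AddCommGroup V] [Module ℂ V] [FiniteDimensional ℂ V]

/-- The trace of a finite-order map cut by a commuting idempotent is an algebraic integer. -/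
theorem isIntegral_trace_idem (P B : Module.End ℂ V) (hP : P * P = P) (hc : Commute P B) {l : ℕ}
    (hl : 0 < l) (hB : B ^ l = 1) : IsIntegral ℤ (LinearMap.trace ℂ V (P * B)) := by
  have h0 : P * B * (1 - P) = 0 := by
    rw [hc.eq, mul_assoc, mul_sub, mul_one, hP, sub_self, mul_zero]
  have h1 : (1 - P) * (P * B) = 0 := by rw [← mul_assoc, sub_mul, one_mul, hP, sub_self, zero_mul]
  have h2 : (1 - P) * (1 - P) = 1 - P := by
    rw [mul_sub, mul_one, sub_mul, one_mul, hP, sub_self, sub_zero]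
  have hpow : ∀ k : ℕ, (P * B + (1 - P)) ^ (k + 1) = (P * B) ^ (k + 1) + (1 - P) := by
    intro k
    induction k with
    | zero => simp
    | succ k ih =>
      have h3 : (P * B) ^ (k + 1) * (1 - P) = 0 := by rw [pow_succ, mul_assoc, h0, mul_zero]
      rw [pow_succ, ih, mul_add, add_mul, add_mul, h1, h2, h3, ← pow_succ, add_zero, zero_add]
  have hT : (P * B + (1 - P)) ^ l = 1 := by
    obtain ⟨k, rfl⟩ : ∃ k, l = k + 1 := ⟨l - 1, by omega⟩
    have hPi : IsIdempotentElem P := hP
    rw [hpow, hc.mul_pow, hB, mul_one, hPi.pow_succ_eq, add_sub_cancel]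
  obtain ⟨b, c, hb, hcp⟩ := exists_eigenbasis _ hl hT
  have h4 := trace_of_eigenbasis _ b c hb
  rw [map_add] at h4
  have h5 : IsIntegral ℤ (LinearMap.trace ℂ V (1 - P)) := by
    have hproj : LinearMap.IsProj (LinearMap.range (1 - P)) (1 - P) := by
      refine ⟨fun x => LinearMap.mem_range_self _ x, ?_⟩
      rintro x ⟨y, rfl⟩
      exact LinearMap.congr_fun h2 y
    rw [hproj.trace]
    simpa using isIntegral_algebraMap (R := ℤ) (A := ℂ) (x := (finrank ℂ (LinearMap.range (1 - P)) : ℤ))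
  rw [eq_sub_of_add_eq h4]
  exact (IsIntegral.sum _ fun i _ => isIntegral_of_pow_eq_one hl (hcp i)).sub h5

/-- The average of the powers of a map of finite order is idempotent. -/
theorem avg_idem (A : Module.End ℂ V) {n : ℕ} (hn : 0 < n) (hA : A ^ n = 1) :
    ((n : ℂ)⁻¹ • ∑ j ∈ Finset.range n, A ^ j) * ((n : ℂ)⁻¹ • ∑ j ∈ Finset.range n, A ^ j) =
      (n : ℂ)⁻¹ • ∑ j ∈ Finset.range n, A ^ j := by
  set s := ∑ j ∈ Finset.range n, A ^ j with hs
  have hAs : A * s = s := by
    have h := geom_sum_succ (x := A) (n := n)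
    rw [Finset.sum_range_succ, hA] at h
    exact (add_right_cancel h).symm
  have hjs : ∀ j, A ^ j * s = s := by
    intro j
    induction j with
    | zero => rw [pow_zero, one_mul]
    | succ j ih => rw [pow_succ, mul_assoc, hAs, ih]
  have hss : s * s = (n : ℂ) • s := by
    calc s * s = ∑ j ∈ Finset.range n, A ^ j * s := by rw [hs, Finset.sum_mul]
      _ = (n : ℂ) • s := by simp [hjs, Nat.cast_smul_eq_nsmul]
  rw [smul_mul_smul_comm, hss, smul_smul, mul_assoc, inv_mul_cancel₀ (Nat.cast_ne_zero.2 hn.ne'), mul_one]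

end Operators

theorem dvd_of_isIntegral {n : ℕ} (hn : n ≠ 0) {s : ℤ}
    (h : IsIntegral ℤ ((n : ℂ)⁻¹ * (s : ℂ))) : (n : ℤ) ∣ s := by
  have hn0 : (n : ℂ) ≠ 0 := Nat.cast_ne_zero.2 hn
  obtain ⟨m, hm⟩ := int_of_isIntegral_rat (q := (s : ℚ) / n) (by
    rwa [Rat.cast_div, Rat.cast_intCast, Rat.cast_natCast, div_eq_inv_mul])
  refine ⟨m, ?_⟩
  rw [Rat.cast_div, Rat.cast_intCast, Rat.cast_natCast, div_eq_iff hn0] at hm
  have : (s : ℂ) = (((n : ℤ) * m : ℤ) : ℂ) := by rw [hm]; push_cast; ring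
  exact_mod_cast this

section Groups

variable {L : Type*} [Group L] [Finite L]

/-- The average of a character over a coset `K z`, `z` centralizing `K`, is an algebraic integer. -/
theorem char_coset_dvd {ψ : L → ℂ} (hψ : IsCharacter L ψ) {b : L → ℤ} (hb : ∀ g, ψ g = (b g : ℂ))
    (K : Subgroup L) [Fintype K] {z : L} (hz : ∀ k ∈ K, Commute k z) :
    (Nat.card K : ℤ) ∣ ∑ k : K, b ((k : L) * z) := by
  haveI : Invertible (Fintype.card K : ℂ) := invertibleOfNonzero (Nat.cast_ne_zero.2 Fintype.card_ne_zero)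
  obtain ⟨n, ρ, hρ⟩ := hψ
  set P : Module.End ℂ (Fin n → ℂ) := Representation.averageMap (ρ.comp K.subtype) with hPdef
  have hproj := Representation.isProj_averageMap (ρ.comp K.subtype)
  have hP : P * P = P := LinearMap.ext fun v => hproj.map_id _ (hproj.map_mem v)
  have hexp : P = (Fintype.card K : ℂ)⁻¹ • ∑ k : K, ρ (k : L) := by
    simp [hPdef, Representation.averageMap, GroupAlgebra.average, invOf_eq_inv]
  have hc : Commute P (ρ z) := by
    rw [hexp]
    refine Commute.smul_left (Commute.sum_left _ _ _ fun k _ => ?_) _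
    exact (hz k k.2).map ρ
  have h := isIntegral_trace_idem P (ρ z) hP hc (orderOf_pos z)
    (by rw [← map_pow, pow_orderOf_eq_one, map_one])
  rw [hexp, smul_mul_assoc, Finset.sum_mul, map_smul, map_sum] at h
  have htr : ∀ k : K, LinearMap.trace ℂ _ (ρ (k : L) * ρ z) = (b ((k : L) * z) : ℂ) := fun k => by
    rw [← map_mul, ← hb, ← hρ]
    rfl
  simp only [htr, smul_eq_mul] at h
  rw [Nat.card_eq_fintype_card]
  refine dvd_of_isIntegral Fintype.card_ne_zero ?_
  push_cast
  exact h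

/-- The norm of a character does not decrease under restriction. -/
theorem char_norm_res {ψ : L → ℂ} (hψ : IsCharacter L ψ) {b : L → ℤ} (hb : ∀ g, ψ g = (b g : ℂ))
    (K : Subgroup L) [Fintype L] [Fintype K] :
    (Nat.card K : ℤ) * ∑ g : L, b g ^ 2 ≤ (Nat.card L : ℤ) * ∑ k : K, b (k : L) ^ 2 := by
  obtain ⟨n, ρ, hρ⟩ := hψ
  set σ : Representation ℂ K (Fin n → ℂ) := ρ.comp K.subtype with hσ
  let ι : Representation.IntertwiningMap ρ ρ →ₗ[ℂ] Representation.IntertwiningMap σ σ :=
    { toFun := fun f => LinearMap.intertwiningMap_of_isIntertwiningMap σ σ f.toLinearMap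
        fun k v => LinearMap.congr_fun (f.isIntertwining' (k : L)) v
      map_add' := fun _ _ => Representation.IntertwiningMap.ext_iff.mpr rfl
      map_smul' := fun _ _ => Representation.IntertwiningMap.ext_iff.mpr rfl }
  have hle : finrank ℂ (Representation.IntertwiningMap ρ ρ) ≤
      finrank ℂ (Representation.IntertwiningMap σ σ) := by
    refine LinearMap.finrank_le_finrank_of_injective (f := ι) fun f g h => ?_
    have h2 := Representation.IntertwiningMap.ext_iff.mp h
    exact Representation.IntertwiningMap.ext_iff.mpr h2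
  have hL := classInner_character ρ ρ
  have hK := classInner_character σ σ
  have hσb : ∀ k : K, σ.character k = (b (k : L) : ℂ) := fun k => by
    rw [← hb, ← hρ]
    rfl
  have hρb : ∀ g : L, ρ.character g = (b g : ℂ) := fun g => by rw [hρ, hb]
  simp only [classInner, hρb, map_intCast] at hL
  simp only [classInner, hσb, map_intCast] at hK
  rw [inv_mul_eq_iff_eq_mul₀ (Nat.cast_ne_zero.2 Nat.card_pos.ne')] at hL hK
  have hL' : ∑ g : L, b g ^ 2 = (Nat.card L : ℤ) * (finrank ℂ (Representation.IntertwiningMap ρ ρ) : ℤ) := by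
    have e : ((∑ g : L, b g ^ 2 : ℤ) : ℂ) =
        (((Nat.card L : ℤ) * (finrank ℂ (Representation.IntertwiningMap ρ ρ) : ℤ) : ℤ) : ℂ) := by
      push_cast; simpa [sq] using hL
    exact_mod_cast e
  have hK' : ∑ k : K, b (k : L) ^ 2 = (Nat.card K : ℤ) * (finrank ℂ (Representation.IntertwiningMap σ σ) : ℤ) := by
    have e : ((∑ k : K, b (k : L) ^ 2 : ℤ) : ℂ) =
        (((Nat.card K : ℤ) * (finrank ℂ (Representation.IntertwiningMap σ σ) : ℤ) : ℤ) : ℂ) := by
      push_cast; simpa [sq] using hK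
    exact_mod_cast e
  rw [hL', hK', mul_left_comm]
  gcongr

/-- The part of a character on which a central involution acts as `-1`. -/
theorem isCharacter_minus {ψ : L → ℂ} (hψ : IsCharacter L ψ) {t : L} (ht : ∀ g : L, Commute g t)
    (ht2 : t * t = 1) : IsCharacter L (fun g => (ψ g - ψ (g * t)) / 2) := by
  obtain ⟨n, ρ, hρ⟩ := hψ
  set P : Module.End ℂ (Fin n → ℂ) := (2 : ℂ)⁻¹ • (1 - ρ t) with hPdef
  have htt : ρ t * ρ t = 1 := by rw [← map_mul, ht2, map_one]
  have hP : P * P = P := by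
    have e : (1 - ρ t) * (1 - ρ t) = (2 : ℂ) • (1 - ρ t) := by
      rw [mul_sub, mul_one, sub_mul, one_mul, htt, two_smul]
      abel
    rw [hPdef, smul_mul_smul_comm, e, smul_smul, mul_assoc, inv_mul_cancel₀ (two_ne_zero : (2 : ℂ) ≠ 0), mul_one]
  have hc : ∀ g : L, Commute (ρ g) P := fun g =>
    ((Commute.one_right _).sub_right ((ht g).map ρ)).smul_right _
  have hinv : ∀ g : L, ∀ x ∈ LinearMap.range P, ρ g x ∈ LinearMap.range P := by
    rintro g x ⟨y, rfl⟩
    exact ⟨ρ g y, (LinearMap.congr_fun (hc g).eq y).symm⟩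
  let σ : Representation ℂ L (LinearMap.range P) :=
    { toFun := fun g => (ρ g).restrict (hinv g)
      map_one' := LinearMap.ext fun x => Subtype.ext (by simp [LinearMap.restrict_apply])
      map_mul' := fun g h => LinearMap.ext fun x => Subtype.ext (by simp [LinearMap.restrict_apply]) }
  have key : σ.character = fun g => (ψ g - ψ (g * t)) / 2 := by
    funext g
    have hmem : ∀ x, (ρ g * P) x ∈ LinearMap.range P := fun x => hinv g _ (LinearMap.mem_range_self P x)
    have e : σ g = (ρ g * P).restrict (fun x _ => hmem x) := LinearMap.ext fun x => Subtype.ext (by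
      obtain ⟨y, hy⟩ := x.2
      have hx : P (x : Fin n → ℂ) = (x : Fin n → ℂ) := by
        rw [← hy]; exact LinearMap.congr_fun hP y
      change ρ g (x : Fin n → ℂ) = ρ g (P (x : Fin n → ℂ))
      rw [hx])
    rw [Representation.character, e, LinearMap.trace_restrict_eq_of_forall_mem _ _ hmem, hPdef,
      mul_smul_comm, mul_sub, mul_one, ← map_mul, map_smul, map_sub, smul_eq_mul, ← hρ]
    simp only [Representation.character]
    ring
  exact key ▸ isCharacter_character σ

end Groups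

variable {G : Type u} [Group G] [Finite G] (S : Setup G)

theorem Setup.a_coset_dvd (K : Subgroup G) [Fintype K] {z : G} (hz : ∀ k ∈ K, Commute k z) :
    (Nat.card K : ℤ) ∣ ∑ k : K, S.a ((k : G) * z) :=
  char_coset_dvd (IsIrr.isCharacter S.χ.2) S.ha K hz

theorem Setup.a_pow_coprime_order (g : G) {e : ℕ} (he : e.Coprime (orderOf g)) :
    S.a (g ^ e) = S.a g := by
  obtain ⟨e', he', hee⟩ := exists_coprime_lift (N := Nat.card G) Nat.card_pos (orderOf_dvd_natCard g)
    (k := e) he
  rw [← pow_eq_pow_iff_modEq.2 hee, S.a_pow_coprime g he']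

/-- Galois pairing: `w ^ j` and `w ^ (j + 2 ^ m)` times commuting `k`, `z`. -/
theorem Setup.a_shift {w k z : G} {m j : ℕ} (hw : w ^ 2 ^ (m + 1) = 1) (hk : k ^ 2 = 1)
    (hz : Odd (orderOf z)) (hwk : Commute w k) (hwz : Commute w z) (hkz : Commute k z)
    (hj0 : j ≠ 0) (hj : j < 2 ^ m) :
    S.a (w ^ (j + 2 ^ m) * k * z) = S.a (w ^ j * k * z) := by
  obtain ⟨s, j', hj', rfl⟩ := Nat.exists_eq_two_pow_mul_odd hj0
  have hsm : s < m := (Nat.pow_lt_pow_iff_right (by norm_num : 1 < 2)).1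
    (lt_of_le_of_lt (Nat.le_mul_of_pos_right _ hj'.pos) hj)
  obtain ⟨r, rfl⟩ : ∃ r, m = s + (r + 1) := ⟨m - s - 1, by omega⟩
  set e := 1 + 2 ^ (r + 1) * orderOf z with he
  have heven : Even (2 ^ (r + 1) * orderOf z) := (Nat.even_pow.2 ⟨even_two, by omega⟩).mul_right _
  obtain ⟨c, hc⟩ := heven
  obtain ⟨i, hi⟩ := hj'.mul hz
  have hwe : w ^ (2 ^ s * j') ^ 1 = w ^ (2 ^ s * j') := by rw [pow_one]
  have h1 : (w ^ (2 ^ s * j') * k * z) ^ e = w ^ (2 ^ s * j' + 2 ^ (s + (r + 1))) * k * z := by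
    rw [((hwz.pow_left _).mul_left hkz).mul_pow, (hwk.pow_left _).mul_pow, ← pow_mul]
    congr 1
    · congr 1
      · rw [show 2 ^ s * j' * e = (2 ^ s * j' + 2 ^ (s + (r + 1))) + 2 ^ (s + (r + 1) + 1) * i by
            rw [he, show 2 ^ s * j' * (1 + 2 ^ (r + 1) * orderOf z) =
              2 ^ s * j' + 2 ^ (s + (r + 1)) * (j' * orderOf z) by rw [pow_add 2 s]; ring, hi]
            ring, pow_add, pow_mul, hw, one_pow, mul_one]
      · rw [he, hc, show 1 + (c + c) = 1 + 2 * c by ring, pow_add, pow_mul, hk, one_pow, mul_one, pow_one]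
    · rw [he, pow_add, pow_mul', pow_orderOf_eq_one, one_pow, mul_one, pow_one]
  rw [← h1]
  refine S.a_pow_coprime_order _ ?_
  have hdvd : orderOf (w ^ (2 ^ s * j') * k * z) ∣ 2 ^ (s + (r + 1) + 1) * orderOf z := by
    refine orderOf_dvd_of_pow_eq_one ?_
    rw [((hwz.pow_left _).mul_left hkz).mul_pow, pow_mul' z, pow_orderOf_eq_one, one_pow, mul_one,
      (hwk.pow_left _).mul_pow, pow_mul, ← pow_mul w, mul_comm (2 ^ s * j'), pow_mul w, hw, one_pow,
      one_pow, one_mul, pow_mul, pow_succ' 2, pow_mul k, hk, one_pow, one_pow]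
  refine Nat.Coprime.coprime_dvd_right hdvd (Nat.Coprime.mul_right ?_ ?_)
  · refine Nat.Coprime.pow_right _ (Nat.coprime_two_right.2 ?_)
    rw [he, hc]
    exact ⟨c, by ring⟩
  · rw [he, add_comm, Nat.coprime_mul_right_add_left]
    exact Nat.coprime_one_left _

/-- The multiplicity of a faithful linear character of a cyclic 2-group, twisted by `z` and `k`. -/
theorem Setup.cyclic_dvd {w k z : G} {m : ℕ} (hw : w ^ 2 ^ (m + 1) = 1) (hk : k ^ 2 = 1)
    (hz : Odd (orderOf z)) (hwk : Commute w k) (hwz : Commute w z) (hkz : Commute k z) :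
    ((2 * 2 ^ (m + 1) : ℕ) : ℤ) ∣
      S.a z + S.a (k * z) - S.a (w ^ 2 ^ m * z) - S.a (w ^ 2 ^ m * k * z) := by
  set h := 2 ^ m with hh
  have hn : 2 ^ (m + 1) = h + h := by rw [hh, pow_succ]; ring
  obtain ⟨ζ, hζ⟩ : ∃ ζ : ℂ, IsPrimitiveRoot ζ (2 ^ (m + 1)) :=
    ⟨_, Complex.isPrimitiveRoot_exp (2 ^ (m + 1)) (pow_ne_zero _ two_ne_zero)⟩
  have hζh : ζ ^ h = -1 := by
    refine (hζ.pow (pow_pos two_pos _) (show 2 ^ (m + 1) = h * 2 by rw [hh, pow_succ])).eq_neg_one_of_two_right
  set ρ := S.rep with hρ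
  set A : Module.End ℂ _ := ζ • ρ w with hA
  have hA1 : A ^ 2 ^ (m + 1) = 1 := by rw [hA, smul_pow, ← map_pow, hw, hζ.pow_eq_one, map_one, one_smul]
  set P := ((2 ^ (m + 1) : ℕ) : ℂ)⁻¹ • ∑ j ∈ Finset.range (2 ^ (m + 1)), A ^ j with hP
  set Q := ((2 : ℕ) : ℂ)⁻¹ • ∑ j ∈ Finset.range 2, ρ k ^ j with hQ
  have hPP : P * P = P := avg_idem A (pow_pos two_pos _) hA1
  have hQQ : Q * Q = Q := avg_idem (ρ k) two_pos (by rw [← map_pow, hk, map_one])
  have hPQ : Commute P Q := (Commute.sum_left _ _ _ fun j _ =>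
    Commute.sum_right _ _ _ fun i _ => (((hwk.map ρ).smul_left ζ).pow_pow j i)).smul_left _ |>.smul_right _
  have hPB : Commute P (ρ z) :=
    (Commute.sum_left _ _ _ fun j _ => ((hwz.map ρ).smul_left ζ).pow_left j).smul_left _
  have hQB : Commute Q (ρ z) :=
    (Commute.sum_left _ _ _ fun j _ => (hkz.map ρ).pow_left j).smul_left _
  have hint := isIntegral_trace_idem (P * Q) (ρ z)
    (by rw [hPQ.symm.mul_mul_mul_comm, hPP, hQQ]) (hPB.mul_left hQB) (orderOf_pos z)
    (by rw [← map_pow, pow_orderOf_eq_one, map_one])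
  have htr : ∀ g : G, LinearMap.trace ℂ _ (ρ g) = (S.a g : ℂ) := fun g => by
    refine Eq.trans ?_ ((congrFun S.rep_character g).trans (S.ha g))
    rfl
  have hPQz : P * Q * ρ z = ((2 ^ (m + 1) : ℕ) : ℂ)⁻¹ • ((2 : ℕ) : ℂ)⁻¹ •
      ∑ j ∈ Finset.range (2 ^ (m + 1)), ζ ^ j • (ρ (w ^ j * z) + ρ (w ^ j * k * z)) := by
    rw [hP, hQ, smul_mul_assoc, smul_mul_assoc, mul_smul_comm, smul_mul_assoc, Finset.sum_mul,
      Finset.sum_mul]
    congr 2
    refine Finset.sum_congr rfl fun j _ => ?_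
    rw [hA, smul_pow, ← map_pow, smul_mul_assoc, smul_mul_assoc, Finset.sum_range_succ,
      Finset.sum_range_succ, Finset.sum_range_zero, zero_add, pow_zero, pow_one, mul_add, mul_one,
      add_mul, map_mul ρ (w ^ j * k) z, map_mul ρ (w ^ j) z, map_mul ρ (w ^ j) k]
  rw [hPQz] at hint
  simp only [map_smul, map_sum, map_add, htr, smul_eq_mul] at hint
  set F : ℕ → ℤ := fun j => S.a (w ^ j * z) + S.a (w ^ j * k * z) with hF
  have hsum : ∑ j ∈ Finset.range (2 ^ (m + 1)), ζ ^ j * (F j : ℂ) = ((F 0 - F h : ℤ) : ℂ) := by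
    rw [hn, Finset.sum_range_add, ← Finset.sum_add_distrib]
    rw [Finset.sum_eq_single (0 : ℕ)]
    · simp only [add_zero, pow_zero, one_mul, hζh]
      push_cast
      ring
    · intro j hj hj0
      have e1 : S.a (w ^ (h + j) * z) = S.a (w ^ j * z) := by
        have := S.a_shift (k := 1) hw (one_pow 2) hz (Commute.one_right _) hwz (Commute.one_left _) hj0
          (Finset.mem_range.1 hj)
        simpa [add_comm h j] using this
      have e2 : S.a (w ^ (h + j) * k * z) = S.a (w ^ j * k * z) := by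
        rw [add_comm h j]; exact S.a_shift hw hk hz hwk hwz hkz hj0 (Finset.mem_range.1 hj)
      simp only [hF]
      rw [e1, e2, pow_add, hζh]
      ring
    · intro h0
      exact absurd (Finset.mem_range.2 (pow_pos two_pos _)) h0
  have hs : ((F 0 - F h : ℤ)) = S.a z + S.a (k * z) - S.a (w ^ h * z) - S.a (w ^ h * k * z) := by
    simp only [hF, pow_zero, one_mul]; ring
  rw [← hs]
  refine dvd_of_isIntegral (by positivity) ?_
  rw [← hsum]
  convert hint using 1
  simp only [hF, Int.cast_add, Nat.cast_mul, mul_inv]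
  ring

end Cfsg.Agent.Block.OnePrime
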